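import Cfsg.Agent.Lib.CoprimeBase.Step
import Cfsg.Agent.Lib.TripleBase.Classify

/-!
The existence of split elements and the free pairs in prime degree.
-/

set_option autoImplicit false
set_option linter.unusedSectionVars false
set_option linter.style.haveILetI false

namespace CfsgLib.CoprimeBase

universe u w

variable {K : Type u} [Field K] {V : Type w} [AddCommGroup V] [Module K V]
variable {E H : Subgroup (V ≃ₗ[K] V)}

theorem mul_pow_twist {f g : V ≃ₗ[K] V} {c : K} (h : ∀ v, g (f v) = c • f (g v)) (n : ℕ) (v : V) :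
    ((f * g) ^ n) v = c ^ n.choose 2 • (f ^ n) ((g ^ n) v) := by
  induction n generalizing v with
  | zero => simp [one_apply']
  | succ n ih =>
    rw [pow_succ_apply, ih, map_smul, mul_apply', apply_pow_of_twist h, map_smul, smul_smul,
      show (n + 1).choose 2 = n.choose 2 + n by
        rw [Nat.choose_succ_succ, Nat.choose_one_right, add_comm], ← pow_succ_apply g,
      ← pow_succ_apply f, ← pow_add]

theorem smulUnit_apply (c : Kˣ) (v : V) :
    (LinearEquiv.smulOfUnit c : V ≃ₗ[K] V) v = (c : K) • v := rfl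

theorem IsScalar.pow {g : V ≃ₗ[K] V} (h : IsScalar g) (n : ℕ) : IsScalar (g ^ n) :=
  (scalars K V).pow_mem h n

theorem Op.exists_twist (hE : Op E) {g : V ≃ₗ[K] V} (hg : g ∈ E) (hns : ¬ IsScalar g) :
    ∃ h ∈ E, ∃ c : K, c ≠ 1 ∧ ∀ v, g (h v) = c • h (g v) := by
  by_contra hcon
  push Not at hcon
  refine hns (hE.cent g hg fun h hh => ?_)
  obtain ⟨c, hc⟩ := hE.comm g hg h hh
  have : c = 1 := by
    by_contra hc1
    obtain ⟨v, hv⟩ := hcon h hh c hc1
    exact hv (hc v)
  intro v
  rw [hc, this, one_smul]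

theorem Op.scalar_of_pow_prime (hE : Op E) {g : V ≃ₗ[K] V} (hg : g ∈ E) {r : ℕ} (hr : r.Prime) :
    ∀ k : ℕ, IsScalar (g ^ r ^ k) → IsScalar (g ^ r) := by
  intro k
  induction k with
  | zero => intro h; rw [pow_zero, pow_one] at h; exact h.pow r
  | succ k ih =>
    intro h
    rcases k with _ | k
    · simpa using h
    · refine ih ?_
      have h1 : IsScalar ((g ^ r ^ k) ^ (r * r)) := by
        rw [← pow_mul, show r ^ k * (r * r) = r ^ (k + 1 + 1) by ring]
        exact h
      have h2 := hE.sqf _ (E.pow_mem hg _) r hr h1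
      rwa [← pow_mul, ← pow_succ] at h2

/-- A nonscalar element has a nonscalar power which is scalar at a prime power. -/
theorem exists_prime_power [Finite V] {g : V ≃ₗ[K] V} (hg : ¬ IsScalar g) :
    ∃ r m : ℕ, r.Prime ∧ ¬ IsScalar (g ^ m) ∧ IsScalar ((g ^ m) ^ r) := by
  classical
  haveI : Finite (V ≃ₗ[K] V) := Finite.of_injective _ DFunLike.coe_injective
  have hex : ∃ n, 0 < n ∧ IsScalar (g ^ n) :=
    ⟨orderOf g, orderOf_pos g, 1, fun v => by rw [pow_orderOf_eq_one, one_apply', one_smul]⟩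
  obtain ⟨hn0, hn⟩ := Nat.find_spec hex
  set n := Nat.find hex
  have hn1 : n ≠ 1 := fun e => hg (by rw [e, pow_one] at hn; exact hn)
  obtain ⟨r, hr, t, ht⟩ := Nat.exists_prime_and_dvd hn1
  refine ⟨r, t, hr, fun e => ?_, by rw [← pow_mul, mul_comm, ← ht]; exact hn⟩
  have ht0 : 0 < t := Nat.pos_of_ne_zero fun e1 => by rw [e1, mul_zero] at ht; omega
  exact Nat.find_min hex (show t < n by rw [ht]; exact lt_mul_of_one_lt_left ht0 hr.one_lt) ⟨ht0, e⟩

/-- An element with scalar prime power having a root in the field gives a split one. -/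
theorem Op.split_of_root [Nontrivial V] (hE : Op E) {x : V ≃ₗ[K] V} (hx : x ∈ E)
    (hns : ¬ IsScalar x) {r : ℕ} (hr : r.Prime) {μ : K} (hμ : ∀ v, (x ^ r) v = μ ^ r • v) :
    ∃ (x' y : V ≃ₗ[K] V) (ζ : K), Split E r x' y ζ ∧ ∀ v, x' v = μ⁻¹ • x v := by
  have hμ0 : μ ≠ 0 := by
    rintro rfl
    obtain ⟨v, hv⟩ := exists_ne (0 : V)
    have := hμ v
    rw [zero_pow hr.ne_zero, zero_smul] at this
    exact hv ((x ^ r).map_eq_zero_iff.1 this)
  set x' := LinearEquiv.smulOfUnit (Units.mk0 μ⁻¹ (inv_ne_zero hμ0)) * x with hx'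
  have hx'a : ∀ v, x' v = μ⁻¹ • x v := fun v => rfl
  have hx'mem : x' ∈ E := E.mul_mem (hE.scalar_mem _) hx
  have hpow : ∀ n v, (x' ^ n) v = μ⁻¹ ^ n • (x ^ n) v := by
    intro n
    induction n with
    | zero => intro v; simp [one_apply']
    | succ n ih =>
      intro v
      rw [pow_succ_apply, ih, map_smul, hx'a, smul_smul, ← pow_succ, pow_succ_apply]
  have hx'r : x' ^ r = 1 := LinearEquiv.ext fun v => by
    rw [hpow, hμ, smul_smul, ← mul_pow, inv_mul_cancel₀ hμ0, one_pow, one_smul, one_apply']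
  have hx'ns : ¬ IsScalar x' := fun ⟨c, hc⟩ => hns ⟨μ * c, fun v => by
    rw [mul_smul, ← hc, hx'a, smul_inv_smul₀ hμ0]⟩
  obtain ⟨y, hy, c, hc1, hc⟩ := hE.exists_twist hx'mem hx'ns
  exact ⟨x', y, c, ⟨hr, hx'mem, hy, twist_pow_eq_one hc hx'r, hc1, hx'r, hc⟩, hx'a⟩

/-- In the absence of split elements. -/
structure Quat (E : Subgroup (V ≃ₗ[K] V)) : Prop where
  finrank : Module.finrank K V = 2
  gen : ∀ v : V, v ≠ 0 → Gen E v
  classes : ∃ R : Fin 4 → (V ≃ₗ[K] V), ∀ g ∈ E, ∃ (i : Fin 4) (μ : K), ∀ v, g v = μ • R i v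

/-- In a finite field of odd characteristic two nonzero coefficients represent one. -/
theorem exists_quadratic [Finite K] (hodd : ringChar K ≠ 2) {d e : K} (hd : d ≠ 0) (he : e ≠ 0) :
    ∃ a b : K, a ^ 2 * d + b ^ 2 * e = 1 := by
  classical
  haveI := Fintype.ofFinite K
  have hq : 2 * (Fintype.card K / 2) + 1 = Fintype.card K := by
    have := FiniteField.odd_card_of_char_ne_two hodd
    omega
  obtain ⟨a, b, hab⟩ := FiniteField.exists_root_sum_quadratic
    (f := Polynomial.C d * Polynomial.X ^ 2)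
    (g := Polynomial.C e * Polynomial.X ^ 2 - Polynomial.C 1)
    (Polynomial.degree_C_mul_X_pow 2 hd)
    (by rw [Polynomial.degree_sub_C (by rw [Polynomial.degree_C_mul_X_pow 2 he]; norm_num),
      Polynomial.degree_C_mul_X_pow 2 he]; rfl)
    (by omega)
  refine ⟨a, b, ?_⟩
  simp only [Polynomial.eval_mul, Polynomial.eval_C, Polynomial.eval_pow, Polynomial.eval_X,
    Polynomial.eval_sub] at hab
  linear_combination hab

theorem charP_of_card [Finite K] {p : ℕ} [Fact p.Prime] (hK : Nat.card K = p) : CharP K p := by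
  haveI := Fintype.ofFinite K
  obtain ⟨q, hq⟩ := CharP.exists K
  obtain ⟨n, hqp, hn⟩ := FiniteField.card K q
  rw [Nat.card_eq_fintype_card, hn] at hK
  have h2 : q ∣ p := hK ▸ dvd_pow_self q n.ne_zero
  exact (Nat.prime_dvd_prime_iff_eq hqp Fact.out).1 h2 ▸ hq

theorem neg_one_eq_of_sq [Nontrivial V] {x h : V ≃ₗ[K] V} (hx : IsScalar (x ^ 2)) {c : K} (hc1 : c ≠ 1)
    (hc : ∀ v, x (h v) = c • h (x v)) : c = -1 := by
  obtain ⟨d, hd⟩ := hx
  obtain ⟨v, hv⟩ := exists_ne (0 : V)
  have h1 := pow_apply_of_twist hc 2 v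
  rw [hd, hd, map_smul, smul_smul] at h1
  have hd0 : d ≠ 0 := by
    rintro rfl
    exact hv ((x ^ 2).map_eq_zero_iff.1 (by rw [hd, zero_smul]))
  have h2 : d = c ^ 2 * d :=
    smul_left_injective K (fun e => hv (h.map_eq_zero_iff.1 e)) h1
  exact (sq_eq_one_iff.1 ((mul_eq_right₀ hd0).1 h2.symm)).resolve_left hc1

/-- Either some element is split, or the group is of quaternion type of degree two. -/
theorem Op.split_or_quat [Finite V] [Finite K] [FiniteDimensional K V] (hE : Op E)
    (hodd : ringChar K ≠ 2) (hdim : 2 ≤ Module.finrank K V) :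
    (∃ (r : ℕ) (x y : V ≃ₗ[K] V) (ζ : K), Split E r x y ζ) ∨ Quat E := by
  haveI : Nontrivial V := Module.nontrivial_of_finrank_pos (R := K) (by omega)
  refine or_iff_not_imp_left.2 fun hno => ?_
  push Not at hno
  have hnr : ∀ x ∈ E, ¬ IsScalar x → ∀ r : ℕ, r.Prime → ∀ μ : K, ¬ ∀ v, (x ^ r) v = μ ^ r • v :=
    fun x hx hns r hr μ hμ => by
      obtain ⟨x', y, ζ, h, -⟩ := hE.split_of_root hx hns hr hμ
      exact hno r x' y ζ h
  -- every prime element is an involution modulo scalars
  have hinv : ∀ x ∈ E, ¬ IsScalar x → ∀ r : ℕ, r.Prime → IsScalar (x ^ r) → r = 2 := by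
    intro x hx hns r hr ⟨d, hd⟩
    by_contra hr2
    obtain ⟨y, hy, c, hc1, hc⟩ := hE.exists_twist hx hns
    have hd0 : d ≠ 0 := by
      rintro rfl
      obtain ⟨v, hv⟩ := exists_ne (0 : V)
      exact hv ((x ^ r).map_eq_zero_iff.1 (by rw [hd, zero_smul]))
    have hcr : c ^ r = 1 := by
      obtain ⟨v, hv⟩ := exists_ne (0 : V)
      have h1 := pow_apply_of_twist hc r v
      rw [hd, hd, map_smul, smul_smul] at h1
      exact (mul_eq_right₀ hd0).1 (smul_left_injective K (fun e => hv (y.map_eq_zero_iff.1 e)) h1).symm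
    obtain ⟨n, hn0, hn⟩ : ∃ n, 0 < n ∧ IsScalar (y ^ n) := by
      haveI : Finite (V ≃ₗ[K] V) := Finite.of_injective _ DFunLike.coe_injective
      exact ⟨orderOf y, orderOf_pos y, 1, fun v => by rw [pow_orderOf_eq_one, one_apply', one_smul]⟩
    obtain ⟨k, m, hm, hnkm⟩ := Nat.exists_eq_pow_mul_and_not_dvd hn0.ne' r hr.one_lt.ne'
    set y₂ := y ^ m
    have hy₂ : y₂ ∈ E := E.pow_mem hy m
    have hy₂r : IsScalar (y₂ ^ r) := hE.scalar_of_pow_prime hy₂ hr k (by
      rw [← pow_mul, mul_comm, ← hnkm]; exact hn)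
    have hc₂ : ∀ v, x (y₂ v) = c ^ m • y₂ (x v) := apply_pow_of_twist hc m
    have hcm : c ^ m ≠ 1 := by
      intro e
      have := pow_gcd_eq_one.2 ⟨e, hcr⟩
      rw [((hr.coprime_iff_not_dvd).2 hm).symm.gcd_eq_one, pow_one] at this
      exact hc1 this
    obtain ⟨d₂, hd₂⟩ := hy₂r
    have hd₂0 : d₂ ≠ 0 := by
      rintro rfl
      obtain ⟨v, hv⟩ := exists_ne (0 : V)
      exact hv ((y₂ ^ r).map_eq_zero_iff.1 (by rw [hd₂, zero_smul]))
    obtain ⟨i, μ, hμ⟩ := TripleBase.exists_pow_mul hr hd0 hd₂0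
      fun μ e => hnr x hx hns r hr μ (fun v => by rw [e, hd])
    have hw : ¬ IsScalar (y₂ * x ^ i) := by
      rintro ⟨e, he⟩
      obtain ⟨v, hv⟩ := exists_ne (0 : V)
      have h1 : x ((y₂ * x ^ i) v) = c ^ m • (y₂ * x ^ i) (x v) := by
        rw [mul_apply', mul_apply', hc₂, ← pow_succ_apply, pow_succ, mul_apply']
      rw [he, he, map_smul, smul_smul] at h1
      have he0 : e ≠ 0 := by
        rintro rfl
        exact hv ((y₂ * x ^ i).map_eq_zero_iff.1 (by rw [he, zero_smul]))
      exact hcm ((mul_eq_right₀ he0).1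
        (smul_left_injective K (fun e1 => hv (x.map_eq_zero_iff.1 e1)) h1).symm)
    refine hnr _ (E.mul_mem hy₂ (E.pow_mem hx i)) hw r hr μ fun v => ?_
    have htw : ∀ u, (x ^ i) (y₂ u) = (c ^ m) ^ i • y₂ ((x ^ i) u) := fun u =>
      pow_apply_of_twist hc₂ i u
    have h1 : ((c ^ m) ^ i) ^ r.choose 2 = 1 := by
      obtain ⟨t, ht⟩ := hr.dvd_choose_self (by norm_num : 2 ≠ 0) (lt_of_le_of_ne hr.two_le (Ne.symm hr2))
      rw [ht, pow_mul, ← pow_mul (c ^ m), ← pow_mul c, show m * (i * r) = r * (m * i) by ring,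
        pow_mul, hcr, one_pow, one_pow]
    have hxir : ∀ u, ((x ^ i) ^ r) u = d ^ i • u := fun u => by
      rw [← pow_mul, mul_comm, pow_mul]
      clear_value y₂
      induction i with
      | zero => simp [one_apply']
      | succ n _ =>
        clear * - hd
        induction (n + 1) with
        | zero => simp [one_apply']
        | succ k ih => rw [pow_succ_apply, ih, map_smul, hd, smul_smul, pow_succ]
    rw [mul_pow_twist htw, h1, one_smul, hxir, map_smul, hd₂, smul_smul, ← hμ, mul_comm]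
  obtain ⟨g, hg, hgns⟩ : ∃ g ∈ E, ¬ IsScalar g := by
    by_contra hcon
    push Not at hcon
    obtain ⟨v, hv⟩ := exists_ne (0 : V)
    have htop := hE.irr (Submodule.span K {v}) (by simpa using hv) fun g hg w hw => by
      obtain ⟨c, hc⟩ := hcon g hg
      rw [hc]; exact Submodule.smul_mem _ _ hw
    have := finrank_span_singleton (K := K) hv
    rw [htop, finrank_top] at this
    omega
  have hsq : ∀ h ∈ E, ¬ IsScalar h → ∃ m, ¬ IsScalar (h ^ m) ∧ IsScalar ((h ^ m) ^ 2) := by
    intro h hh hns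
    obtain ⟨r, m, hr, h1, h2⟩ := exists_prime_power hns
    obtain rfl := hinv _ (E.pow_mem hh m) h1 r hr h2
    exact ⟨m, h1, h2⟩
  obtain ⟨m, hxns, hx2⟩ := hsq g hg hgns
  set x := g ^ m
  have hx : x ∈ E := E.pow_mem hg m
  obtain ⟨y₀, hy₀, c, hc1, hc⟩ := hE.exists_twist hx hxns
  have hcm : c = -1 := neg_one_eq_of_sq hx2 hc1 hc
  obtain ⟨y, hy, hy2, hxy⟩ : ∃ y ∈ E, IsScalar (y ^ 2) ∧ ∀ v, x (y v) = -y (x v) := by
    haveI : Finite (V ≃ₗ[K] V) := Finite.of_injective _ DFunLike.coe_injective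
    obtain ⟨k, n, hn, hkn⟩ := Nat.exists_eq_pow_mul_and_not_dvd (orderOf_pos y₀).ne' 2 (by norm_num)
    refine ⟨y₀ ^ n, E.pow_mem hy₀ n, hE.scalar_of_pow_prime (E.pow_mem hy₀ n) Nat.prime_two k ?_,
      fun v => ?_⟩
    · rw [← pow_mul, mul_comm, ← hkn, pow_orderOf_eq_one]
      exact ⟨1, fun v => by rw [one_apply', one_smul]⟩
    · rw [apply_pow_of_twist hc, hcm, (Nat.odd_iff.2 (Nat.two_dvd_ne_zero.1 hn)).neg_one_pow,
        neg_one_smul]
  have hyns : ¬ IsScalar y := by
    rintro ⟨e, he⟩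
    obtain ⟨v, hv⟩ := exists_ne (0 : V)
    have h1 := hxy v
    rw [he, he, map_smul] at h1
    have he0 : e ≠ 0 := by
      rintro rfl
      exact hv (y.map_eq_zero_iff.1 (by rw [he, zero_smul]))
    have h2 : (e + e) • x v = 0 := by rw [add_smul]; nth_rewrite 1 [h1]; exact neg_add_cancel _
    rw [smul_eq_zero, x.map_eq_zero_iff, or_iff_left hv, ← two_mul, mul_eq_zero,
      or_iff_left he0] at h2
    exact Ring.two_ne_zero hodd h2
  obtain ⟨d, hd⟩ := hx2
  obtain ⟨e, he⟩ := hy2
  have hd0 : d ≠ 0 := fun e1 => hnr x hx hxns 2 Nat.prime_two 0 (fun v => by rw [hd, e1]; simp)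
  have he0 : e ≠ 0 := fun e1 => hnr y hy hyns 2 Nat.prime_two 0 (fun v => by rw [he, e1]; simp)
  have hdns : ∀ μ : K, μ ^ 2 ≠ d := fun μ e1 => hnr x hx hxns 2 Nat.prime_two μ fun v => by
    rw [e1, hd]
  have hens : ∀ μ : K, μ ^ 2 ≠ e := fun μ e1 => hnr y hy hyns 2 Nat.prime_two μ fun v => by
    rw [e1, he]
  have hxx : ∀ v, x (x v) = d • v := fun v => by rw [← hd, pow_two]; rfl
  have hyy : ∀ v, y (y v) = e • v := fun v => by rw [← he, pow_two]; rfl
  -- an element commuting with both is scalar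
  have hcomm : ∀ h ∈ E, (∀ v, x (h v) = h (x v)) → (∀ v, y (h v) = h (y v)) → IsScalar h := by
    intro h hh hhx hhy
    by_contra hns
    obtain ⟨n, hn, hn2⟩ := hsq h hh hns
    obtain ⟨f, hf⟩ := hn2
    have hf0 : f ≠ 0 := by
      rintro rfl
      obtain ⟨v, hv⟩ := exists_ne (0 : V)
      exact hv (((h ^ n) ^ 2).map_eq_zero_iff.1 (by rw [hf, zero_smul]))
    obtain ⟨i, μ, hμ⟩ := TripleBase.exists_pow_mul Nat.prime_two hd0 hf0 hdns
    have hnx : ∀ v, (x ^ i) ((h ^ n) v) = (1 : K) • (h ^ n) ((x ^ i) v) := fun v => by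
      rw [apply_pow_of_twist (c := (1 : K)) (fun u => ?_) n v, one_pow]
      rw [one_smul]
      simpa using pow_apply_of_twist (c := (1 : K)) (fun u => by rw [one_smul, hhx]) i u
    have hw : IsScalar (h ^ n * x ^ i) := by
      by_contra hwns
      refine hnr _ (E.mul_mem (E.pow_mem hh n) (E.pow_mem hx i)) hwns 2 Nat.prime_two μ fun v => ?_
      rw [mul_pow_twist hnx, one_pow, one_smul]
      have h1 : ((x ^ i) ^ 2) v = d ^ i • v := by
        rw [← pow_mul, mul_comm, pow_mul]
        clear * - hd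
        induction i with
        | zero => simp [one_apply']
        | succ k ih => rw [pow_succ_apply, ih, map_smul, hd, smul_smul, pow_succ]
      rw [h1, map_smul, hf, smul_smul, ← hμ, mul_comm]
    obtain ⟨t, ht⟩ := hw
    rcases Nat.even_or_odd i with ⟨j, rfl⟩ | ⟨j, rfl⟩
    · refine hn ((Subgroup.mul_mem_cancel_right (scalars K V) ?_).1 ⟨t, ht⟩)
      rw [← two_mul, pow_mul]
      exact IsScalar.pow ⟨d, hd⟩ j
    · obtain ⟨v, hv⟩ := exists_ne (0 : V)
      have hny : ∀ u, y ((h ^ n) u) = (h ^ n) (y u) := fun u => by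
        simpa using apply_pow_of_twist (c := (1 : K)) (fun w => by rw [one_smul, hhy]) n u
      have hyx : ∀ u, (x ^ (2 * j + 1)) (y u) = -y ((x ^ (2 * j + 1)) u) := fun u => by
        rw [pow_apply_of_twist (c := (-1 : K)) (fun w => by rw [neg_one_smul, hxy]) _ u,
          (odd_two_mul_add_one j).neg_one_pow, neg_one_smul]
      have h1 := ht (y v)
      rw [mul_apply', hyx, map_neg, ← hny, ← mul_apply' (h ^ n), ht, map_smul] at h1
      have ht0 : t ≠ 0 := by
        rintro rfl
        exact hv ((h ^ n * x ^ (2 * j + 1)).map_eq_zero_iff.1 (by rw [ht, zero_smul]))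
      have h2 : (t + t) • y v = 0 := by rw [add_smul]; nth_rewrite 1 [← h1]; exact neg_add_cancel _
      rw [smul_eq_zero, y.map_eq_zero_iff, or_iff_left hv, ← two_mul, mul_eq_zero,
        or_iff_left ht0] at h2
      exact Ring.two_ne_zero hodd h2
  -- the four classes
  have hcl : ∀ h ∈ E, ∃ i j : ℕ, i < 2 ∧ j < 2 ∧ ∃ μ : K, ∀ v, h v = μ • (x ^ i) ((y ^ j) v) := by
    intro h hh
    obtain ⟨a, ha⟩ := hE.comm x hx h hh
    obtain ⟨b, hb⟩ := hE.comm y hy h hh
    have ha1 : a = 1 ∨ a = -1 := (em (a = 1)).imp id fun h1 => neg_one_eq_of_sq ⟨d, hd⟩ h1 ha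
    have hb1 : b = 1 ∨ b = -1 := (em (b = 1)).imp id fun h1 => neg_one_eq_of_sq ⟨e, he⟩ h1 hb
    obtain ⟨i, hi, hib⟩ : ∃ i < 2, b = (-1 : K) ^ i := by
      rcases hb1 with h1 | h1
      · exact ⟨0, by norm_num, by rw [h1, pow_zero]⟩
      · exact ⟨1, by norm_num, by rw [h1, pow_one]⟩
    obtain ⟨j, hj, hja⟩ : ∃ j < 2, a = (-1 : K) ^ j := by
      rcases ha1 with h1 | h1
      · exact ⟨0, by norm_num, by rw [h1, pow_zero]⟩
      · exact ⟨1, by norm_num, by rw [h1, pow_one]⟩
    set s := (x ^ i * y ^ j) with hs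
    have hsx : ∀ v, x (s v) = (-1 : K) ^ j • s (x v) := fun v => by
      have e1 : x ((x ^ i) ((y ^ j) v)) = (x ^ i) (x ((y ^ j) v)) := by
        rw [← mul_apply', ← mul_apply' (x ^ i), ← pow_succ, ← pow_succ']
      rw [hs, mul_apply', mul_apply', e1,
        apply_pow_of_twist (c := (-1 : K)) (fun w => by rw [neg_one_smul, hxy]) j, map_smul]
    have hsy : ∀ v, y (s v) = (-1 : K) ^ i • s (y v) := fun v => by
      rw [hs, mul_apply', mul_apply', apply_pow_of_twist (c := (-1 : K))
        (fun w => by rw [neg_one_smul, ← neg_eq_iff_eq_neg.2 (hxy w)]) i, ← pow_succ_apply, pow_succ,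
        mul_apply']
    have hsq1 : ∀ k : ℕ, (-1 : K) ^ k * (-1 : K) ^ k = 1 := fun k => by
      rw [← mul_pow]; simp
    have hsapp : ∀ v, s v = (x ^ i) ((y ^ j) v) := fun v => by rw [hs, mul_apply']
    have hsE : s ∈ E := hs ▸ E.mul_mem (E.pow_mem hx i) (E.pow_mem hy j)
    clear_value s
    obtain ⟨μ, hμ⟩ := hcomm (s⁻¹ * h) (E.mul_mem (E.inv_mem hsE) hh) (fun v => by
      apply s.injective
      have h1 := hsx ((s⁻¹ * h) v)
      rw [mul_apply', apply_inv', ha, hja] at h1
      rw [mul_apply', mul_apply', apply_inv']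
      exact (smul_right_injective V (pow_ne_zero j (neg_ne_zero.2 one_ne_zero)) h1).symm)
      (fun v => by
      apply s.injective
      have h1 := hsy ((s⁻¹ * h) v)
      rw [mul_apply', apply_inv', hb, hib] at h1
      rw [mul_apply', mul_apply', apply_inv']
      exact (smul_right_injective V (pow_ne_zero i (neg_ne_zero.2 one_ne_zero)) h1).symm)
    refine ⟨i, j, hi, hj, μ, fun v => ?_⟩
    rw [← map_smul, ← map_smul, show (y ^ j) (μ • v) = (y ^ j) ((s⁻¹ * h) v) by rw [hμ],
      ← hsapp, mul_apply', apply_inv']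
  -- a vector fixed by a combination of the two
  obtain ⟨a, b, hab⟩ := exists_quadratic hodd hd0 he0
  have hb0 : b ≠ 0 := by
    rintro rfl
    have ha0 : a ≠ 0 := by rintro rfl; simp at hab
    exact hdns a⁻¹ (by rw [inv_pow, inv_eq_of_mul_eq_one_right]; linear_combination hab)
  let M : V →ₗ[K] V := a • x.toLinearMap + b • y.toLinearMap
  have hMa : ∀ v, M v = a • x v + b • y v := fun v => rfl
  have hMM : ∀ v, M (M v) = v := fun v => by
    simp only [hMa, map_add, map_smul, hxx, hyy, hxy, smul_neg, smul_add, smul_smul]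
    conv_rhs => rw [← one_smul K v, ← hab]
    module
  obtain ⟨w, hw0, hw⟩ : ∃ w, w ≠ 0 ∧ M w = w := by
    by_contra hcon
    push Not at hcon
    obtain ⟨v, hv⟩ := exists_ne (0 : V)
    have hall : ∀ u, M u = -u := fun u => by
      by_contra hu
      exact hcon (u + M u) (fun e1 => hu (eq_neg_of_add_eq_zero_right e1))
        (by rw [map_add, hMM, add_comm])
    have h1 : M (x v) = x (M v) := by rw [hall, hall, map_neg]
    simp only [hMa, map_add, map_smul, hxy, hxx, smul_neg] at h1
    have h2 : ((2 : K) * b) • y (x v) = 0 := by linear_combination (norm := module) h1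
    rw [smul_eq_zero, y.map_eq_zero_iff, x.map_eq_zero_iff, or_iff_left hv, mul_eq_zero,
      or_iff_left hb0] at h2
    · exact Ring.two_ne_zero hodd h2
  have hli : LinearIndependent K ![w, x w] := by
    rw [LinearIndependent.pair_iff' hw0]
    intro k hk
    refine hdns k (smul_left_injective K hw0 ?_)
    show k ^ 2 • w = d • w
    rw [← hxx w, ← hk, map_smul, ← hk, smul_smul, pow_two]
  set W := Submodule.span K (Set.range ![w, x w])
  have hwW : w ∈ W := Submodule.subset_span ⟨0, rfl⟩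
  have hxwW : x w ∈ W := Submodule.subset_span ⟨1, rfl⟩
  have hxW : ∀ v ∈ W, x v ∈ W := fun v hv => by
    induction hv using Submodule.span_induction with
    | mem v hv =>
      obtain ⟨i, rfl⟩ := hv
      fin_cases i
      · exact hxwW
      · show x (x w) ∈ W
        rw [hxx]; exact W.smul_mem _ hwW
    | zero => rw [map_zero]; exact W.zero_mem
    | add p q _ _ hp hq => rw [map_add]; exact W.add_mem hp hq
    | smul k p _ hp => rw [map_smul]; exact W.smul_mem _ hp
  have hyw : y w ∈ W := by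
    have h1 : y w = b⁻¹ • (w - a • x w) := by
      rw [eq_inv_smul_iff₀ hb0, eq_sub_iff_add_eq, add_comm]
      exact hw
    rw [h1]; exact W.smul_mem _ (W.sub_mem hwW (W.smul_mem _ hxwW))
  have hyW : ∀ v ∈ W, y v ∈ W := fun v hv => by
    induction hv using Submodule.span_induction with
    | mem v hv =>
      obtain ⟨i, rfl⟩ := hv
      fin_cases i
      · exact hyw
      · show y (x w) ∈ W
        rw [show y (x w) = -x (y w) by rw [hxy, neg_neg]]
        exact W.neg_mem (hxW _ hyw)
    | zero => rw [map_zero]; exact W.zero_mem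
    | add p q _ _ hp hq => rw [map_add]; exact W.add_mem hp hq
    | smul k p _ hp => rw [map_smul]; exact W.smul_mem _ hp
  have hWtop : W = ⊤ := hE.irr W (fun e1 => hw0 ((Submodule.mem_bot K).1 (e1 ▸ hwW)))
    fun h hh v hv => by
      obtain ⟨i, j, hi, hj, μ, hμ⟩ := hcl h hh
      rw [hμ]
      refine W.smul_mem _ ?_
      rcases (show i = 0 ∨ i = 1 by omega) with rfl | rfl <;>
        rcases (show j = 0 ∨ j = 1 by omega) with rfl | rfl <;>
        simp only [pow_zero, pow_one, one_apply']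
      · exact hv
      · exact hyW v hv
      · exact hxW v hv
      · exact hxW _ (hyW v hv)
  refine ⟨?_, fun v hv h hh k hk => ?_, ![1, x, y, x * y], fun h hh => ?_⟩
  · rw [← finrank_top, ← hWtop, finrank_span_eq_card hli, Fintype.card_fin]
  · by_contra hns
    obtain ⟨i, j, hi, hj, μ, hμ⟩ := hcl h hh
    have h2 : IsScalar (h ^ 2) := by
      obtain ⟨ε, hε⟩ : IsScalar ((x ^ i * y ^ j) ^ 2) := by
        rcases (show i = 0 ∨ i = 1 by omega) with rfl | rfl <;>
          rcases (show j = 0 ∨ j = 1 by omega) with rfl | rfl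
        · exact ⟨1, fun v => by simp [one_apply']⟩
        · exact ⟨e, by simpa using he⟩
        · exact ⟨d, by simpa using hd⟩
        · refine ⟨-(d * e), fun v => ?_⟩
          simp only [pow_one, pow_two, mul_apply']
          rw [show y (x (y v)) = -x (y (y v)) by rw [hxy (y v), neg_neg], map_neg, hxx, hyy, smul_smul,
            neg_smul]
      refine ⟨μ * μ * ε, fun v => ?_⟩
      rw [pow_two, mul_apply', hμ, hμ v, map_smul, map_smul, smul_smul, mul_smul (μ * μ) ε, ← hε,
        pow_two]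
      rfl
    obtain ⟨f, hf⟩ := h2
    refine hnr h hh hns 2 Nat.prime_two k fun u => ?_
    rw [hf]
    congr 1
    refine smul_left_injective K hv ?_
    show f • v = k ^ 2 • v
    rw [← hf v, pow_two, pow_two, mul_apply', hk, map_smul, hk, smul_smul]
  · obtain ⟨i, j, hi, hj, μ, hμ⟩ := hcl h hh
    rcases (show i = 0 ∨ i = 1 by omega) with rfl | rfl <;>
      rcases (show j = 0 ∨ j = 1 by omega) with rfl | rfl
    · exact ⟨0, μ, fun v => by simpa using hμ v⟩
    · exact ⟨2, μ, fun v => by simpa using hμ v⟩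
    · exact ⟨1, μ, fun v => by simpa using hμ v⟩
    · exact ⟨3, μ, fun v => by simpa using hμ v⟩

/-- Two vectors spanning the space are free. -/
theorem free2_of_span {v u : V} (h : Submodule.span K {v, u} = ⊤) : Free2 H v u := by
  intro a _ hv hu
  refine LinearEquiv.ext fun z => ?_
  obtain ⟨s, t, rfl⟩ := Submodule.mem_span_pair.1 (h ▸ Submodule.mem_top (x := z))
  rw [map_add, map_smul, map_smul, hv, hu, one_apply']

/-- The quaternion case. -/
theorem Quat.good [Finite V] [Finite K] [FiniteDimensional K V] (hQ : Quat E)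
    (hq : 5 ≤ Nat.card K) : Good E H := by
  classical
  haveI : Nontrivial V := Module.nontrivial_of_finrank_pos (R := K) (by rw [hQ.finrank]; norm_num)
  obtain ⟨v, hv⟩ := exists_ne (0 : V)
  obtain ⟨R, hR⟩ := hQ.classes
  obtain ⟨u, hu⟩ : ∃ u : V, ∀ (p : Fin 4 × K), p.2 • R p.1 v ≠ u := by
    by_contra hcon
    push Not at hcon
    have h1 := Nat.card_le_card_of_surjective (fun p : Fin 4 × K => p.2 • R p.1 v) hcon
    rw [Module.natCard_eq_pow_finrank (K := K) (V := V), hQ.finrank, Nat.card_prod, Nat.card_fin,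
      pow_two] at h1
    nlinarith
  have hu0 : u ≠ 0 := fun e => hu (0, 0) (by simp [e])
  have horb : ∀ g ∈ E, ∀ c : K, g v ≠ c • u := by
    intro g hg c e
    obtain ⟨i, μ, hμ⟩ := hR g hg
    have hc : c ≠ 0 := by
      rintro rfl
      exact hv (g.map_eq_zero_iff.1 (by rw [e, zero_smul]))
    exact hu (i, c⁻¹ * μ) (by rw [mul_smul, ← hμ, e, inv_smul_smul₀ hc])
  refine ⟨v, u, hv, hu0, hQ.gen v hv, horb, free2_of_span ?_⟩
  have hli : LinearIndependent K ![v, u] := (LinearIndependent.pair_iff' hv).2 fun k hk => by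
    obtain ⟨i, μ, hμ⟩ := hR 1 E.one_mem
    exact hu (i, k * μ) (by rw [mul_smul, ← hμ, one_apply', hk])
  have h2 := hli.span_eq_top_of_card_eq_finrank (by rw [Fintype.card_fin, hQ.finrank])
  rwa [Matrix.range_cons, Matrix.range_cons, Matrix.range_empty, Set.union_empty,
    Set.singleton_union] at h2

namespace Split

variable {r : ℕ} {x y : V ≃ₗ[K] V} {ζ : K}

theorem scalar_line [FiniteDimensional K V] (_h : Split E r x y ζ)
    (h1 : Module.finrank K (fixSub x) = 1) {v : V} (hv : v ∈ fixSub x) (hv0 : v ≠ 0) {z : V}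
    (hz : z ∈ fixSub x) : ∃ c : K, z = c • v := by
  obtain ⟨c, hc⟩ := (finrank_eq_one_iff_of_nonzero' (⟨v, hv⟩ : fixSub x)
    (fun e => hv0 (congrArg Subtype.val e))).1 h1 ⟨z, hz⟩
  exact ⟨c, (congrArg Subtype.val hc).symm⟩

theorem gen_line [FiniteDimensional K V] (h : Split E r x y ζ)
    (h1 : Module.finrank K (fixSub x) = 1) {v₀ : fixSub x} (hv₀ : v₀ ≠ 0) :
    Gen (CoprimeBase.restrict E (fixSub x)) v₀ := by
  intro g _ c hc
  refine ⟨c, fun z => ?_⟩
  obtain ⟨k, hk⟩ := h.scalar_line h1 v₀.2 (fun e => hv₀ (Subtype.ext e)) z.2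
  have hz : z = k • v₀ := Subtype.ext hk
  rw [hz, map_smul, hc, smul_comm]

/-- Odd prime degree. -/
theorem good_base_odd [Finite V] [Nontrivial V] [FiniteDimensional K V] (h : Split E r x y ζ)
    (hE : Op E) (hH : Norms H E) (hodd : ringChar K ≠ 2) (hr : 2 < r)
    (h1 : Module.finrank K (fixSub x) = 1) : Good E H := by
  obtain ⟨v, hvm, hv⟩ := Submodule.exists_mem_ne_zero_of_ne_bot h.fixSub_ne_bot
  have hv' : (⟨v, hvm⟩ : fixSub x) ≠ 0 := fun e => hv (congrArg Subtype.val e)
  have hgen := h.gen_line h1 hv'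
  have hyrx : ∀ w, x ((y ^ r) w) = (y ^ r) (x w) := fun w => by
    rw [apply_pow_of_twist h.twist, h.zeta_pow, one_smul]
  obtain ⟨d, hd⟩ := h.scalar_line h1 hvm hv (maps_fixSub hyrx hvm)
  obtain ⟨t, ht0, ht⟩ : ∃ t : K, t ≠ 0 ∧ (r = 3 → (t ^ 3 * d) ^ 3 ≠ 1) := by
    by_cases hd3 : d ^ 3 = 1
    · refine ⟨-1, by simp, fun _ e => Ring.two_ne_zero hodd ?_⟩
      have e' : (-1 : K) = 1 := by linear_combination e + hd3
      linear_combination -e'
    · exact ⟨1, one_ne_zero, fun _ => by rwa [one_pow, one_mul]⟩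
  let z : ℕ → fixSub x := fun k =>
    if k = 1 then ⟨v, hvm⟩ else if k = 2 then t • ⟨v, hvm⟩ else 0
  have hz1 : z 1 = ⟨v, hvm⟩ := if_pos rfl
  have hz2 : (z 2 : V) = t • v := by simp [z]
  have hzk : ∀ k, k ≠ 1 → k ≠ 2 → (z k : V) = 0 := fun k h1 h2 => by simp [z, h1, h2]
  set F := h.blockVec z with hF
  have hFe : F = y v + t • (y ^ 2) v := by
    rw [hF, blockVec, Finset.sum_eq_add_of_mem 1 2 (Finset.mem_range.2 h.prime.one_lt)
      (Finset.mem_range.2 hr) (by norm_num) fun k _ hk => by rw [hzk k hk.1 hk.2, map_zero],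
      hz1, hz2, pow_one, map_smul]
  have hFne : F ≠ 0 := fun e => hv' (by rw [← hz1, ← h.comp_blockVec h.prime.one_lt z, ← hF, e, map_zero])
  have hxi : ∀ (i : ℕ) {w : V}, w ∈ fixSub x → (x ^ i) w = w := fun i w hw => by
    simpa [one_apply'] using h.xpow_ypow i 0 hw
  have hgenF : Gen E F := by
    intro g hg c hc
    obtain ⟨j, hj, p, hp, hpx, rfl⟩ := h.decomp hE hg
    obtain ⟨μ', hμ'⟩ := h.scalar_line h1 hvm hv (maps_fixSub hpx hvm)
    obtain ⟨μ, i, hμ⟩ := h.eig_fix hE hgen hv' hp (c := μ') hμ'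
    have hμ0 : μ ≠ 0 := fun e => hv (p.map_eq_zero_iff.1 (by rw [hμ, e, zero_smul]))
    have hgk : ∀ k, (y ^ j * p) ((y ^ k) v) = (μ * (ζ ^ k) ^ i) • (y ^ (j + k)) v := fun k => by
      rw [mul_apply', hμ, h.xpow_ypow i k hvm, smul_smul, map_smul, pow_add_apply]
    have hc' : c • F = (μ * ζ ^ i) • (y ^ (j + 1)) v + (t * (μ * (ζ ^ 2) ^ i)) • (y ^ (j + 2)) v := by
      rw [← hc, hFe, map_add, map_smul, show y v = (y ^ 1) v by rw [pow_one], hgk, hgk, smul_smul,
        pow_one]
    have hred : ∀ n m : ℕ, n = m + r → ∀ l, l < r → l ≠ m → m < r → h.comp l ((y ^ n) v) = 0 := by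
      intro n m hn l hl hne hm
      refine h.comp_eigen (h.apply_ypow n hvm) fun e => hne ?_
      rw [hn, pow_add, h.zeta_pow, mul_one] at e
      exact (h.primRoot.pow_inj hm hl e).symm
    have hsm : ∀ n l, n < r → l < r → l ≠ n → h.comp l ((y ^ n) v) = 0 := fun n l hn hl hne =>
      h.comp_eigen (h.apply_ypow n hvm) fun e => hne (h.primRoot.pow_inj hn hl e).symm
    have hcomp : ∀ l < r, c • z l = (μ * ζ ^ i) • h.comp l ((y ^ (j + 1)) v) +
        (t * (μ * (ζ ^ 2) ^ i)) • h.comp l ((y ^ (j + 2)) v) := fun l hl => by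
      have := congrArg (h.comp l) hc'
      rwa [map_smul, map_add, map_smul, map_smul, hF, h.comp_blockVec hl] at this
    by_cases hj0 : j = 0
    · subst hj0
      have e1 := congrArg Subtype.val (hcomp 1 h.prime.one_lt)
      have e2 := congrArg Subtype.val (hcomp 2 hr)
      rw [Submodule.coe_add, Submodule.coe_smul, Submodule.coe_smul, Submodule.coe_smul, zero_add,
        zero_add, h.comp_fix h.prime.one_lt hvm 1 h.prime.one_lt, if_pos rfl,
        h.comp_fix h.prime.one_lt hvm 2 hr, if_neg (by norm_num), smul_zero, add_zero, hz1] at e1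
      rw [Submodule.coe_add, Submodule.coe_smul, Submodule.coe_smul, Submodule.coe_smul, zero_add,
        zero_add, h.comp_fix hr hvm 1 h.prime.one_lt, if_neg (by norm_num),
        h.comp_fix hr hvm 2 hr, if_pos rfl, smul_zero, zero_add, hz2, smul_smul] at e2
      have f1 := smul_left_injective K hv (show c • v = _ from e1)
      have f2 := smul_left_injective K hv e2
      have hζi : ζ ^ i = 1 := by
        have h0 : ζ ^ i ≠ 0 := pow_ne_zero i (h.primRoot.ne_zero h.prime.ne_zero)
        refine mul_left_cancel₀ (mul_ne_zero (mul_ne_zero hμ0 ht0) h0) ?_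
        rw [← pow_mul, mul_comm 2, pow_mul, f1] at f2
        linear_combination -f2
      refine ⟨μ, fun w => ?_⟩
      rw [pow_zero, one_mul, hμ, show x ^ i = 1 from h.ext_blocks fun k _ w hw => by
        rw [h.xpow_ypow i k hw, one_apply', ← pow_mul, mul_comm, pow_mul, hζi, one_pow, one_smul],
        one_apply']
    · exfalso
      -- the first occupied block would be empty
      have e := hcomp 1 h.prime.one_lt
      have z1 : h.comp 1 ((y ^ (j + 1)) v) = 0 := by
        rcases Nat.lt_or_ge (j + 1) r with hlt | hge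
        · exact hsm _ _ hlt h.prime.one_lt (by omega)
        · exact hred _ (j + 1 - r) (by omega) _ h.prime.one_lt (by omega) (by omega)
      rw [z1, smul_zero, zero_add, hz1] at e
      by_cases hjr : j + 1 = r
      · -- then the second block is empty
        have e2 := hcomp 2 hr
        rw [hred (j + 1) 0 (by omega) 2 hr (by omega) (by omega),
          hred (j + 2) 1 (by omega) 2 hr (by omega) h.prime.one_lt, smul_zero, smul_zero, add_zero,
          smul_eq_zero] at e2
        rcases e2 with e2 | e2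
        · rw [e2, zero_smul] at hc
          exact hFne ((y ^ j * p).map_eq_zero_iff.1 hc)
        · exact smul_ne_zero ht0 hv (by rw [← hz2, e2]; rfl)
      · have z2 : h.comp 1 ((y ^ (j + 2)) v) = 0 := by
          rcases Nat.lt_or_ge (j + 2) r with hlt | hge
          · exact hsm _ _ hlt h.prime.one_lt (by omega)
          · exact hred _ (j + 2 - r) (by omega) _ h.prime.one_lt (by omega) (by omega)
        rw [z2, smul_zero, smul_eq_zero] at e
        rcases e with e | e
        · rw [e, zero_smul] at hc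
          exact hFne ((y ^ j * p).map_eq_zero_iff.1 hc)
        · exact hv' e
  refine ⟨F, v, hFne, hv, hgenF, fun g hg c e => ?_, fun a ha haF hav => ?_⟩
  · rcases eq_or_ne c 0 with rfl | hc
    · exact hFne (g.map_eq_zero_iff.1 (by rw [e, zero_smul]))
    · exact h.not_gen hvm (hgenF.translate hE hg hc e)
  · have hfix : ∀ w ∈ fixSub x, a w = w := fun w hw => by
      obtain ⟨k, rfl⟩ := h.scalar_line h1 hvm hv hw
      rw [map_smul, hav]
    refine h.eq_one_of_fix hE hgen hv' hz1 (fun _ e => ?_) (hH a ha y h.y_mem) hfix haF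
      fun j hj hj1 p hp hpx hg hpv => ?_
    · exact smul_ne_zero ht0 hv (by rw [← hz2, e]; rfl)
    obtain rfl : j = 2 := by
      by_contra hj2
      rw [hzk j hj1 hj2] at hpv
      exact hv (p.map_eq_zero_iff.1 hpv)
    rw [hz2] at hpv
    obtain ⟨μ, i, hμ⟩ := h.eig_fix hE hgen hv' hp (c := t) hpv
    have hμt : μ = t := by
      have := hμ v
      rw [hpv, hxi i hvm] at this
      exact (smul_left_injective K hv this).symm
    have hfold : a F = (y ^ 2 * p) v + t • (y ^ 2 * p) ((y ^ 2 * p) v) := by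
      rw [hFe, map_add, map_smul, show y v = (y ^ 1) v by rw [pow_one], apply_block (hfix v hvm),
        apply_block (hfix v hvm), hg, pow_one, pow_two (y ^ 2 * p), mul_apply' (y ^ 2 * p)]
    have hg1 : (y ^ 2 * p) v = t • (y ^ 2) v := by rw [mul_apply', hpv, map_smul]
    have hg2 : (y ^ 2 * p) ((y ^ 2) v) = (t * (ζ ^ 2) ^ i) • (y ^ (2 + 2)) v := by
      rw [mul_apply', hμ, hμt, h.xpow_ypow i 2 hvm, smul_smul, map_smul, pow_add_apply]
    rw [hg1, map_smul, hg2, haF, hFe] at hfold
    by_cases hr3 : r = 3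
    · subst hr3
      have h4 : (y ^ (2 + 2)) v = d • y v := by
        rw [show (2 + 2 : ℕ) = 1 + 3 from rfl, pow_add_apply, hd, map_smul, pow_one]
      rw [h4, smul_smul, smul_smul, smul_smul, add_comm, add_right_inj] at hfold
      have h5 : (1 : K) = t * (t * (t * (ζ ^ 2) ^ i)) * d :=
        smul_left_injective K (fun e => hv (y.map_eq_zero_iff.1 e))
          (show (1 : K) • y v = _ • y v by rw [one_smul]; convert hfold using 2; ring)
      refine ht rfl ?_
      calc (t ^ 3 * d) ^ 3 = (t ^ 3 * d) ^ 3 * ((ζ ^ 3) ^ (2 * i)) := by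
            rw [h.zeta_pow, one_pow, mul_one]
        _ = (t * (t * (t * (ζ ^ 2) ^ i)) * d) ^ 3 := by ring
        _ = 1 := by rw [← h5, one_pow]
    · have hr5 : 2 + 2 < r := by
        have := h.prime
        by_contra hlt
        rcases (show r = 4 by omega) with rfl
        norm_num at this
      have e := congrArg (h.comp (2 + 2)) hfold
      simp only [map_add, map_smul] at e
      rw [show h.comp (2 + 2) (y v) = 0 by
          simpa [pow_one] using h.comp_block hr5 h.prime.one_lt ⟨v, hvm⟩,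
        show h.comp (2 + 2) ((y ^ 2) v) = 0 by simpa using h.comp_block hr5 hr ⟨v, hvm⟩,
        h.comp_block hr5 hr5 ⟨v, hvm⟩, if_pos rfl] at e
      simp only [smul_zero, zero_add, smul_smul] at e
      rcases smul_eq_zero.1 e.symm with e | e
      · simp [ht0, h.primRoot.ne_zero h.prime.ne_zero] at e
      · exact hv' e

/-- Degree two. -/
theorem good_base_two [Finite V] [Nontrivial V] [FiniteDimensional K V] (h : Split E 2 x y ζ)
    (hE : Op E) (h1 : Module.finrank K (fixSub x) = 1) {v : V} (hvm : v ∈ fixSub x) (hv : v ≠ 0)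
    {d t : K} (hd : y (y v) = d • v) (ht0 : t ≠ 0) (ht : (t ^ 2 * d) ^ 2 ≠ 1) : Good E H := by
  have hv' : (⟨v, hvm⟩ : fixSub x) ≠ 0 := fun e => hv (congrArg Subtype.val e)
  have hgen := h.gen_line h1 hv'
  have hζ : ζ = -1 := (sq_eq_one_iff.1 h.zeta_pow).resolve_left h.zeta_ne
  set F := v + t • y v with hF
  have hc0 : (h.comp 0 F : V) = v := by
    have a0 := h.comp_fix Nat.two_pos hvm 0 Nat.two_pos
    have a1 := h.comp_fix Nat.two_pos hvm 1 Nat.one_lt_two
    rw [pow_zero, one_apply', if_pos rfl] at a0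
    rw [pow_one, if_neg (by norm_num)] at a1
    rw [hF, map_add, map_smul, Submodule.coe_add, Submodule.coe_smul, a0, a1, smul_zero, add_zero]
  have hc1 : (h.comp 1 F : V) = t • v := by
    have a0 := h.comp_fix Nat.one_lt_two hvm 0 Nat.two_pos
    have a1 := h.comp_fix Nat.one_lt_two hvm 1 Nat.one_lt_two
    rw [pow_zero, one_apply', if_neg (by norm_num)] at a0
    rw [pow_one, if_pos rfl] at a1
    rw [hF, map_add, map_smul, Submodule.coe_add, Submodule.coe_smul, a0, a1, zero_add]
  have hFne : F ≠ 0 := fun e => hv (by rw [← hc0, e, map_zero, ZeroMemClass.coe_zero])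
  have hgenF : Gen E F := by
    intro g hg c hc
    obtain ⟨j, hj, p, hp, hpx, rfl⟩ := h.decomp hE hg
    obtain ⟨μ', hμ'⟩ := h.scalar_line h1 hvm hv (maps_fixSub hpx hvm)
    obtain ⟨μ, i, hμ⟩ := h.eig_fix hE hgen hv' hp (c := μ') hμ'
    have hμ0 : μ ≠ 0 := fun e => hv (p.map_eq_zero_iff.1 (by rw [hμ, e, zero_smul]))
    have hxi : (x ^ i) v = v := by simpa [one_apply'] using h.xpow_ypow i 0 hvm
    have hpy : p (y v) = (μ * ζ ^ i) • y v := by
      rw [hμ, show (x ^ i) (y v) = ζ ^ i • y v by simpa [pow_one] using h.xpow_ypow i 1 hvm, smul_smul]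
    have hpv : p v = μ • v := by rw [hμ, hxi]
    rcases (show j = 0 ∨ j = 1 by omega) with rfl | rfl
    · rw [pow_zero, one_mul] at hc ⊢
      have e : μ • v + (t * (μ * ζ ^ i)) • y v = c • v + (c * t) • y v := by
        rw [mul_smul c, ← smul_add, ← hc, map_add, map_smul, hpv, hpy, smul_smul]
      have e0 := congrArg (fun w => (h.comp 0 w : V)) e
      have e1 := congrArg (fun w => (h.comp 1 w : V)) e
      have a00 := h.comp_fix Nat.two_pos hvm 0 Nat.two_pos
      have a01 := h.comp_fix Nat.two_pos hvm 1 Nat.one_lt_two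
      have a10 := h.comp_fix Nat.one_lt_two hvm 0 Nat.two_pos
      have a11 := h.comp_fix Nat.one_lt_two hvm 1 Nat.one_lt_two
      rw [pow_zero, one_apply', if_pos rfl] at a00
      rw [pow_one, if_neg (by norm_num)] at a01
      rw [pow_zero, one_apply', if_neg (by norm_num)] at a10
      rw [pow_one, if_pos rfl] at a11
      simp only [map_add, map_smul, Submodule.coe_add, Submodule.coe_smul, a00, a01, a10, a11,
        smul_zero, add_zero, zero_add] at e0 e1
      have f0 := smul_left_injective K hv e0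
      have f1 := smul_left_injective K hv e1
      have hζi : ζ ^ i = 1 := by
        refine mul_left_cancel₀ (mul_ne_zero ht0 hμ0) ?_
        rw [mul_one, mul_assoc]; linear_combination f1 - t * f0
      refine ⟨μ, fun w => ?_⟩
      rw [hμ, show x ^ i = 1 from h.ext_blocks fun k _ w hw => by
        rw [h.xpow_ypow i k hw, one_apply', ← pow_mul, mul_comm, pow_mul, hζi, one_pow, one_smul],
        one_apply']
    · exfalso
      rw [pow_one] at hc
      have e : μ • y v + (t * (μ * ζ ^ i) * d) • v = c • v + (c * t) • y v := by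
        rw [mul_smul c, ← smul_add, ← hc, map_add, map_smul, mul_apply', hpv, mul_apply', hpy,
          map_smul, map_smul, hd, smul_smul, smul_smul, mul_assoc]
      have a00 := h.comp_fix Nat.two_pos hvm 0 Nat.two_pos
      have a01 := h.comp_fix Nat.two_pos hvm 1 Nat.one_lt_two
      have a10 := h.comp_fix Nat.one_lt_two hvm 0 Nat.two_pos
      have a11 := h.comp_fix Nat.one_lt_two hvm 1 Nat.one_lt_two
      rw [pow_zero, one_apply', if_pos rfl] at a00
      rw [pow_one, if_neg (by norm_num)] at a01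
      rw [pow_zero, one_apply', if_neg (by norm_num)] at a10
      rw [pow_one, if_pos rfl] at a11
      have e0 := congrArg (fun w => (h.comp 0 w : V)) e
      have e1 := congrArg (fun w => (h.comp 1 w : V)) e
      simp only [map_add, map_smul, Submodule.coe_add, Submodule.coe_smul, a00, a01, a10, a11,
        smul_zero, add_zero, zero_add] at e0 e1
      have f0 := smul_left_injective K hv e0
      have f1 := smul_left_injective K hv e1
      apply ht
      have f2 : t * (μ * ζ ^ i) * d * t = μ := by rw [f0, f1]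
      have f3 : (t ^ 2 * d * ζ ^ i) * μ = 1 * μ := by linear_combination f2
      have f4 := mul_right_cancel₀ hμ0 f3
      calc (t ^ 2 * d) ^ 2 = (t ^ 2 * d * ζ ^ i) ^ 2 := by
            rw [mul_pow _ (ζ ^ i), ← pow_mul, mul_comm i, pow_mul, h.zeta_pow, one_pow, mul_one]
        _ = 1 := by rw [f4, one_pow]
  refine ⟨F, v, hFne, hv, hgenF, fun g hg c e => ?_, free2_of_span ?_⟩
  · rcases eq_or_ne c 0 with rfl | hc
    · exact hFne (g.map_eq_zero_iff.1 (by rw [e, zero_smul]))
    · exact h.not_gen hvm (hgenF.translate hE hg hc e)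
  · rw [eq_top_iff]
    intro w _
    have hle : ∀ z ∈ fixSub x, z ∈ Submodule.span K {F, v} ∧ y z ∈ Submodule.span K {F, v} := by
      intro z hz
      obtain ⟨k, rfl⟩ := h.scalar_line h1 hvm hv hz
      refine ⟨Submodule.smul_mem _ _ (Submodule.subset_span (by simp)), ?_⟩
      rw [map_smul]
      refine Submodule.smul_mem _ _ ?_
      rw [show y v = t⁻¹ • (F - v) by rw [hF, add_sub_cancel_left, inv_smul_smul₀ ht0]]
      exact Submodule.smul_mem _ _ (Submodule.sub_mem _ (Submodule.subset_span (by simp))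
        (Submodule.subset_span (by simp)))
    rw [← h.sum_comp w]
    refine Submodule.sum_mem _ fun k hk => ?_
    rcases (show k = 0 ∨ k = 1 by have := Finset.mem_range.1 hk; omega) with rfl | rfl
    · rw [pow_zero, one_apply']; exact (hle _ (h.comp 0 w).2).1
    · rw [pow_one]; exact (hle _ (h.comp 1 w).2).2

/-- A free pair on the fixed space with first vector in general position gives one on the whole
space in degree two. -/
theorem exists_free2 [Finite V] [Nontrivial V] (h : Split E 2 x y ζ) (hE : Op E) (hH : Norms H E)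
    {v₀ u₀ : fixSub x} (hv₀ : v₀ ≠ 0) (hgen : Gen (CoprimeBase.restrict E (fixSub x)) v₀)
    (hfree : Free2 (CoprimeBase.restrict H (fixSub x)) v₀ u₀) : ∃ v u : V, Free2 H v u := by
  let z : ℕ → fixSub x := fun k => if k = 1 then v₀ else u₀
  refine ⟨h.blockVec z, v₀, fun a ha haF hav => ?_⟩
  have hmaps : ∀ w ∈ fixSub x, a w ∈ fixSub x := fun w hw =>
    h.maps_of_fix hE hgen hv₀ (hH a ha) hav hw
  obtain ⟨e, he, hae⟩ := mem_restrict_of_maps ha hmaps
  have hau : a (u₀ : V) = u₀ := by
    obtain ⟨j, hj, q, hq, hqx, hg⟩ := h.decomp hE (hH a ha y h.y_mem)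
    have h1 : a (y (v₀ : V)) = (y ^ j) (q (v₀ : V)) := by
      conv_rhs => rw [← mul_apply' (y ^ j) q, ← hg, mul_apply', mul_apply', ← hav, inv_apply']
    have hF : h.blockVec z = (u₀ : V) + y v₀ := by
      simp [blockVec, Finset.sum_range_succ, z, one_apply', pow_one]
    rw [hF, map_add, h1] at haF
    rcases (show j = 0 ∨ j = 1 by omega) with rfl | rfl
    · exfalso
      rw [pow_zero, one_apply'] at haF
      have h2 : (u₀ : V) + y v₀ ∈ fixSub x :=
        haF ▸ (fixSub x).add_mem (hmaps _ u₀.2) (maps_fixSub hqx v₀.2)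
      have h3 : x (y (v₀ : V)) = y v₀ := by
        have h4 := (fixSub x).sub_mem h2 u₀.2
        rw [add_sub_cancel_left] at h4
        exact h4
      rw [h.twist, mem_fixSub.1 v₀.2] at h3
      exact h.zeta_ne (smul_left_injective K
        (fun e1 => hv₀ (Subtype.ext (y.map_eq_zero_iff.1 e1)))
        (show ζ • y (v₀ : V) = (1 : K) • y (v₀ : V) by rw [one_smul]; exact h3))
    · have h2 := congrArg (fun w => (h.comp 0 w : V)) haF
      have b1 := h.comp_fix Nat.two_pos (hmaps _ u₀.2) 0 Nat.two_pos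
      have b2 := h.comp_fix Nat.two_pos (maps_fixSub hqx v₀.2) 1 Nat.one_lt_two
      have b3 := h.comp_fix Nat.two_pos u₀.2 0 Nat.two_pos
      have b4 := h.comp_fix Nat.two_pos v₀.2 1 Nat.one_lt_two
      rw [pow_zero, one_apply', if_pos rfl] at b1 b3
      rw [if_neg (by norm_num)] at b2 b4
      rw [pow_one] at b2 b4 h2
      simp only [map_add, Submodule.coe_add, b1, b2, b3, b4, add_zero] at h2
      exact h2
  have he1 := hfree e he (Subtype.ext (by rw [← hae, hav])) (Subtype.ext (by rw [← hae, hau]))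
  refine h.eq_one_of_fix hE hgen hv₀ (z := z) (if_pos rfl) (fun hlt => absurd hlt (lt_irrefl 2))
    (hH a ha y h.y_mem) (fun w hw => by rw [hae ⟨w, hw⟩, he1]; rfl) haF
    fun j hj hj1 p hp hpx hg _ => ?_
  obtain rfl : j = 0 := by omega
  rw [pow_zero, one_mul] at hg
  -- such an element would move the second block into the first
  have h1 := apply_block (y := y) (show a (v₀ : V) = v₀ from hav) 1
  rw [pow_one, pow_one, hg] at h1
  have h2 : a (y (v₀ : V)) ∈ fixSub x := h1 ▸ maps_fixSub hpx v₀.2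
  have h3 : a (y (v₀ : V)) = y v₀ := a.injective (by rw [hae ⟨_, h2⟩, he1]; rfl)
  rw [h3, mem_fixSub, h.twist, mem_fixSub.1 v₀.2] at h2
  exact h.zeta_ne (smul_left_injective K (fun e1 => hv₀ (Subtype.ext (y.map_eq_zero_iff.1 e1)))
    (show ζ • y (v₀ : V) = (1 : K) • y (v₀ : V) by rw [one_smul]; exact h2))

end Split

end CfsgLib.CoprimeBase
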