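import Cfsg.Agent.Lib.CoprimeBase.Model

/-!
Reading properties of a group of operators off explicit coordinates.
-/

set_option autoImplicit false
set_option linter.unusedSectionVars false
set_option linter.style.haveILetI false

namespace CfsgLib.CoprimeBase

universe u w

variable {K : Type u} [Field K] {V : Type w} [AddCommGroup V] [Module K V]
variable {p : ℕ} {W : Type} [AddCommGroup W] [Module (ZMod p) W] {ι : Type} {M : ι → W → W}
variable {E H : Subgroup (V ≃ₗ[K] V)} {Φ : V ≃+ W}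

/-- An operator in coordinates. -/
def coord (Φ : V ≃+ W) (g : V ≃ₗ[K] V) : W →+ W :=
  (Φ.toAddMonoidHom.comp g.toLinearMap.toAddMonoidHom).comp Φ.symm.toAddMonoidHom

theorem coord_apply (Φ : V ≃+ W) (g : V ≃ₗ[K] V) (f : W) : coord Φ g f = Φ (g (Φ.symm f)) := rfl

theorem coord_mul (Φ : V ≃+ W) (g h : V ≃ₗ[K] V) (f : W) :
    coord Φ (g * h) f = coord Φ g (coord Φ h f) := by
  simp [coord_apply, mul_apply']

theorem eq_one_of_coord {Φ : V ≃+ W} {g : V ≃ₗ[K] V} (h : ∀ f, coord Φ g f = f) : g = 1 :=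
  LinearEquiv.ext fun v => Φ.injective (by
    have := h (Φ v)
    rwa [coord_apply, Φ.symm_apply_apply] at this)

theorem map_zmod_smul (F : W →+ W) (s : ZMod p) (f : W) : F (s • f) = s • F f :=
  ZMod.map_smul F s f

/-- Scalars of the field act as scalars in the coordinates. -/
theorem exists_smul [Finite K] [Fact p.Prime] (hK : Nat.card K = p) (Φ : V ≃+ W) (c : K) :
    ∃ s : ZMod p, ∀ v, Φ (c • v) = s • Φ v := by
  obtain ⟨n, rfl⟩ := exists_int hK c
  exact ⟨n, fun v => map_intCast_smul Φ n v⟩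

/-- Additive maps on pairs of indices are equal when they agree on the standard vectors. -/
theorem pi_pi_ext {I J Y : Type} [Finite I] [Finite J] [DecidableEq I] [DecidableEq J]
    [AddCommGroup Y] {F G : (I → J → ZMod p) →+ Y}
    (h : ∀ i j, F (Pi.single i (Pi.single j 1)) = G (Pi.single i (Pi.single j 1)))
    (f : I → J → ZMod p) : F f = G f := by
  refine DFunLike.congr_fun (AddMonoidHom.functions_ext _ F G fun i g => ?_) f
  refine DFunLike.congr_fun (AddMonoidHom.functions_ext _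
    (F.comp (AddMonoidHom.single (fun _ : I => J → ZMod p) i))
    (G.comp (AddMonoidHom.single (fun _ : I => J → ZMod p) i)) fun j x => ?_) g
  simp only [AddMonoidHom.comp_apply, AddMonoidHom.single_apply]
  obtain ⟨n, rfl⟩ := ZMod.intCast_surjective x
  have e : (Pi.single i (Pi.single j (n : ZMod p)) : I → J → ZMod p) =
      n • Pi.single i (Pi.single j 1) := by
    rw [← Pi.single_smul, ← Pi.single_smul, zsmul_one]
  rw [e, map_zsmul, map_zsmul, h]

/-- Additive maps on triples of indices are equal when they agree on the standard vectors. -/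
theorem pi_pi_pi_ext {I J L Y : Type} [Finite I] [Finite J] [Finite L] [DecidableEq I]
    [DecidableEq J] [DecidableEq L] [AddCommGroup Y] {F G : (I → J → L → ZMod p) →+ Y}
    (h : ∀ i j l, F (Pi.single i (Pi.single j (Pi.single l 1))) =
      G (Pi.single i (Pi.single j (Pi.single l 1))))
    (f : I → J → L → ZMod p) : F f = G f := by
  refine DFunLike.congr_fun (AddMonoidHom.functions_ext _ F G fun i g => ?_) f
  exact pi_pi_ext (F := F.comp (AddMonoidHom.single (fun _ : I => J → L → ZMod p) i))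
    (G := G.comp (AddMonoidHom.single (fun _ : I => J → L → ZMod p) i)) (h i) g

namespace Mdl

theorem exists_coord (hM : Mdl (p := p) E M Φ) (k : ι) :
    ∃ g ∈ E, ∀ f, coord Φ g f = M k f := by
  obtain ⟨g, hg, he⟩ := hM.mem k
  exact ⟨g, hg, fun f => by rw [coord_apply, he, Φ.apply_symm_apply]⟩

theorem cls_coord (hM : Mdl (p := p) E M Φ) {g : V ≃ₗ[K] V} (hg : g ∈ E) :
    ∃ (k : ι) (s : ZMod p), ∀ f, coord Φ g f = s • M k f := by
  obtain ⟨k, s, he⟩ := hM.cls g hg
  exact ⟨k, s, fun f => by rw [coord_apply, he, Φ.apply_symm_apply]⟩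

theorem map_smul' (hM : Mdl (p := p) E M Φ) (k : ι) (s : ZMod p) (f : W) :
    M k (s • f) = s • M k f := by
  obtain ⟨g, -, he⟩ := hM.exists_coord k
  rw [← he, ← he, map_zmod_smul]

theorem map_add' (hM : Mdl (p := p) E M Φ) (k : ι) (f f' : W) :
    M k (f + f') = M k f + M k f' := by
  obtain ⟨g, -, he⟩ := hM.exists_coord k
  rw [← he, ← he, ← he, map_add]

/-- General position, checked in the coordinates. -/
theorem gen [Finite K] [Fact p.Prime] (hK : Nat.card K = p) (hM : Mdl (p := p) E M Φ)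
    (hE : Op E) {k₀ : ι} (h0 : ∀ f, M k₀ f = f) {v : W} (hv0 : v ≠ 0)
    (hv : ∀ k, ∀ s t : ZMod p, s • M k v = t • v → k = k₀ ∨ s = 0) : Gen E (Φ.symm v) := by
  intro g hg c hc
  obtain ⟨k, s, hks⟩ := hM.cls_coord hg
  obtain ⟨t, ht⟩ := exists_smul (p := p) hK Φ c
  have h1 : s • M k v = t • v := by
    rw [← hks, coord_apply, hc, ht, Φ.apply_symm_apply]
  rcases hv k s t h1 with rfl | rfl
  · refine ⟨((s.cast : ℤ) : K), fun z => Φ.injective ?_⟩
    rw [map_intCast_smul (p := p), ZMod.intCast_zmod_cast]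
    have := hks (Φ z)
    rwa [coord_apply, Φ.symm_apply_apply, h0] at this
  · exfalso
    have h2 : coord Φ g v = 0 := by rw [hks, zero_smul]
    rw [coord_apply, AddEquiv.map_eq_zero_iff, LinearEquiv.map_eq_zero_iff,
      AddEquiv.map_eq_zero_iff] at h2
    exact hv0 h2

/-- Off the orbit, checked in the coordinates. -/
theorem orbit [Finite K] [Fact p.Prime] (hK : Nat.card K = p) (hM : Mdl (p := p) E M Φ)
    {v u : W} (hv0 : v ≠ 0) (hvu : ∀ k, ∀ s t : ZMod p, s • M k v = t • u → s = 0) :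
    ∀ g ∈ E, ∀ c : K, g (Φ.symm v) ≠ c • Φ.symm u := by
  intro g hg c hc
  obtain ⟨k, s, hks⟩ := hM.cls_coord hg
  obtain ⟨t, ht⟩ := exists_smul (p := p) hK Φ c
  have h1 : s • M k v = t • u := by
    rw [← hks, coord_apply, hc, ht, Φ.apply_symm_apply]
  have h2 : coord Φ g v = 0 := by rw [hks, hvu k s t h1, zero_smul]
  rw [coord_apply, AddEquiv.map_eq_zero_iff, LinearEquiv.map_eq_zero_iff,
    AddEquiv.map_eq_zero_iff] at h2
  exact hv0 h2

/-- The conjugation of the classes. -/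
theorem exists_conj (hM : Mdl (p := p) E M Φ) (hH : Norms H E) {a : V ≃ₗ[K] V} (ha : a ∈ H)
    (k : ι) : ∃ (k' : ι) (s : ZMod p),
      ∀ f, coord Φ a (M k f) = s • M k' (coord Φ a f) := by
  obtain ⟨g, hg, he⟩ := hM.exists_coord k
  obtain ⟨k', s, hks⟩ := hM.cls_coord (hH a ha g hg)
  refine ⟨k', s, fun f => ?_⟩
  rw [← he, ← hks, ← coord_mul, ← coord_mul, show a * g * a⁻¹ * a = a * g by group]

/-- A class singled out by a relation between two fixed vectors is fixed up to sign. -/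
theorem conj_sign [Fact p.Prime] (hM : Mdl (p := p) E M Φ) (hH : Norms H E) {a : V ≃ₗ[K] V}
    (ha : a ∈ H) {v l : W} (hav : coord Φ a v = v) (hal : coord Φ a l = l) (ε c : ZMod p)
    (w k₀ : ι) (s₀ t₀ : ZMod p) (hs₀ : s₀ ≠ 0) (hsq : s₀ • M w (s₀ • M w v) = ε • v)
    (hwit : t₀ • M k₀ l = v + s₀ • M w v)
    (hcom : t₀ • M k₀ (s₀ • M w v) = c • (s₀ • M w (t₀ • M k₀ v)))
    (huniq : ∀ k, ∀ s : ZMod p, s • M k (s • M k v) = ε • v → ∀ k', ∀ t : ZMod p,
      t • M k' l = v + s • M k v → t • M k' (s • M k v) = c • (s • M k (t • M k' v)) →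
        k = w ∧ (s = s₀ ∨ s = -s₀)) :
    ∃ σ : ZMod p, (σ = 1 ∨ σ = -1) ∧ ∀ f, coord Φ a (M w f) = σ • M w (coord Φ a f) := by
  obtain ⟨k, s, hk⟩ := hM.exists_conj hH ha w
  obtain ⟨k', s', hk'⟩ := hM.exists_conj hH ha k₀
  have hA : ∀ (r : ZMod p) f, coord Φ a (r • M w f) = (r * s) • M k (coord Φ a f) := fun r f => by
    rw [map_zmod_smul, hk, smul_smul]
  have hA' : ∀ (r : ZMod p) f, coord Φ a (r • M k₀ f) = (r * s') • M k' (coord Φ a f) := fun r f => by
    rw [map_zmod_smul, hk', smul_smul]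
  have h1 : (s₀ * s) • M k ((s₀ * s) • M k v) = ε • v := by
    have := congrArg (coord Φ a) hsq
    rwa [hA, hA, map_zmod_smul, hav] at this
  have h2 : (t₀ * s') • M k' l = v + (s₀ * s) • M k v := by
    have := congrArg (coord Φ a) hwit
    rwa [hA', map_add, hA, hav, hal] at this
  have h3 : (t₀ * s') • M k' ((s₀ * s) • M k v) =
      c • ((s₀ * s) • M k ((t₀ * s') • M k' v)) := by
    have := congrArg (coord Φ a) hcom
    rwa [hA', hA, map_zmod_smul _ c, hA, hA', hav] at this
  obtain ⟨rfl, hs⟩ := huniq k _ h1 k' _ h2 h3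
  refine ⟨s, ?_, hk⟩
  rcases hs with e | e
  · exact Or.inl ((mul_eq_left₀ hs₀).1 e)
  · refine Or.inr (mul_left_cancel₀ hs₀ ?_)
    rw [e, mul_neg_one]

end Mdl

end CfsgLib.CoprimeBase
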