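import Cfsg.Agent.Lib.CoprimeBase.Rigid
import Cfsg.Agent.Lib.OddBase.SetOrbit

/-!
Three colours for a primitive solvable permutation group of order prime to three.
-/

set_option autoImplicit false
set_option linter.style.haveILetI false

open Subgroup

namespace CfsgLib.CoprimeBase

open CfsgLib.OddBase

universe u

/-- Sets left invariant by a permutation with few fixed points. -/
theorem card_perm_invariant_sets_le {X : Type u} [Finite X] (g : Equiv.Perm X) {f : ℕ}
    (hf : Nat.card {x : X // g x = x} ≤ f) :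
    Nat.card {s : Set X // ∀ x, g x ∈ s ↔ x ∈ s} ≤ 2 ^ ((Nat.card X + f) / 2) := by
  classical
  cases nonempty_fintype X
  let Ω := MulAction.orbitRel.Quotient (Subgroup.zpowers g) X
  haveI : Fintype Ω := Fintype.ofFinite Ω
  let F : {s : Set X // ∀ x, g x ∈ s ↔ x ∈ s} → Set Ω := fun s => {ω | ω.out ∈ s.1}
  have hF : Function.Injective F := by
    intro s t h
    apply Subtype.ext
    ext x
    obtain ⟨⟨b, hb⟩, hx⟩ : x ∈ MulAction.orbit (Subgroup.zpowers g) (Quotient.out (⟦x⟧ : Ω)) :=
      MulAction.orbitRel_apply.1 (Quotient.exact (Quotient.out_eq (⟦x⟧ : Ω)).symm)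
    have key : ∀ (r : {s : Set X // ∀ x, g x ∈ s ↔ x ∈ s}),
        x ∈ r.1 ↔ Quotient.out (⟦x⟧ : Ω) ∈ r.1 := by
      intro r
      have hg : g ∈ setStab (G := Equiv.Perm X) r.1 := r.2
      rw [← (Subgroup.zpowers_le.2 hg) hb (Quotient.out (⟦x⟧ : Ω))]
      exact iff_of_eq (congrArg (· ∈ r.1) hx.symm)
    rw [key s, key t]
    exact Set.ext_iff.1 h ⟦x⟧
  refine (Nat.card_le_card_of_injective F hF).trans ?_
  rw [Nat.card_eq_fintype_card, Fintype.card_set]
  refine Nat.pow_le_pow_right (by norm_num) ?_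
  rw [Nat.le_div_iff_mul_le (by norm_num)]
  have hsum : Nat.card X = ∑ ω : Ω, Nat.card (MulAction.orbit (Subgroup.zpowers g) ω.out) := by
    rw [Nat.card_congr (MulAction.selfEquivSigmaOrbits (Subgroup.zpowers g) X), Nat.card_sigma]
  have hone : ∀ ω : Ω, 2 ≤ Nat.card (MulAction.orbit (Subgroup.zpowers g) ω.out) +
      if g ω.out = ω.out then 1 else 0 := by
    intro ω
    have hpos : 0 < Nat.card (MulAction.orbit (zpowers g) ω.out) := by
      haveI : Nonempty (MulAction.orbit (zpowers g) ω.out) :=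
        ⟨⟨ω.out, MulAction.mem_orbit_self _⟩⟩
      exact Nat.card_pos
    split_ifs with hfx
    · omega
    · have h1 : Nat.card (MulAction.orbit (zpowers g) ω.out) ≠ 1 := by
        intro h
        apply hfx
        have hs := (Nat.card_eq_one_iff_unique.1 h).1
        exact congrArg Subtype.val (Subsingleton.elim
          (⟨g ω.out, ⟨⟨g, Subgroup.mem_zpowers g⟩, rfl⟩⟩ : MulAction.orbit (zpowers g) ω.out)
          ⟨ω.out, MulAction.mem_orbit_self _⟩)
      omega
  have hfix : (∑ ω : Ω, if g ω.out = ω.out then 1 else 0) ≤ f := by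
    refine le_trans ?_ hf
    rw [← Finset.card_filter, ← Fintype.card_subtype, ← Nat.card_eq_fintype_card]
    exact Nat.card_le_card_of_injective (fun ω => (⟨_, ω.2⟩ : {x : X // g x = x}))
      fun a b h => Subtype.ext (Quotient.out_injective (congrArg Subtype.val h))
  have hle := Finset.sum_le_sum (s := Finset.univ) (fun ω _ => hone ω)
  rw [Finset.sum_const, Finset.card_univ, smul_eq_mul, Finset.sum_add_distrib, ← hsum] at hle
  omega

variable {R : Type u} [AddCommGroup R] [Finite R] {H : Type u} [Group H] [Finite H]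

/-- The nonzero vectors moved onto themselves by the whole action. -/
@[reducible] noncomputable def nzAction (σ : H →* AddMonoid.End R) :
    MulAction H {x : R // x ≠ 0} where
  smul h x := ⟨σ h x, fun e => x.2 (apply_injective σ h (e.trans (map_zero _).symm))⟩
  one_smul x := Subtype.ext (by show σ 1 (x : R) = x; rw [map_one]; rfl)
  mul_smul a b x := Subtype.ext (apply_mul σ a b x)

/-- Few sets are fixed by nonidentity elements. -/
theorem exists_stable_of_count (σ : H →* AddMonoid.End R) {f : ℕ}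
    (hf : ∀ h : H, h ≠ 1 → Nat.card {x : {x : R // x ≠ 0} // σ h x = x} ≤ f)
    (hlt : Nat.card H * 2 ^ ((Nat.card {x : R // x ≠ 0} + f) / 2) <
      2 ^ Nat.card {x : R // x ≠ 0}) :
    ∃ Y : Set R, (0 : R) ∉ Y ∧ ∀ h : H, (∀ x, σ h x ∈ Y ↔ x ∈ Y) → h = 1 := by
  classical
  letI := nzAction σ
  by_contra hcon
  push Not at hcon
  have hcov : ∀ s : Set {x : R // x ≠ 0}, ∃ h : H, h ≠ 1 ∧ ∀ x, h • x ∈ s ↔ x ∈ s := by
    intro s
    obtain ⟨h, hs, hne⟩ := hcon (Subtype.val '' s) fun ⟨x, _, e⟩ => x.2 e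
    refine ⟨h, hne, fun x => ?_⟩
    have := hs x.1
    rwa [show σ h x.1 = (h • x : {x : R // x ≠ 0}).1 from rfl,
      Subtype.val_injective.mem_set_image, Subtype.val_injective.mem_set_image] at this
  choose g hg1 hg using hcov
  cases nonempty_fintype H
  cases nonempty_fintype R
  have hle : Nat.card (Set {x : R // x ≠ 0}) ≤ ∑ h : {h : H // h ≠ 1},
      Nat.card {s : Set {x : R // x ≠ 0} //
        ∀ x, MulAction.toPermHom H {x : R // x ≠ 0} h.1 x ∈ s ↔ x ∈ s} := by
    refine (Nat.card_le_card_of_injective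
      (fun s => (⟨⟨g s, hg1 s⟩, ⟨s, hg s⟩⟩ : Σ h : {h : H // h ≠ 1},
        {s : Set {x : R // x ≠ 0} //
          ∀ x, MulAction.toPermHom H {x : R // x ≠ 0} h.1 x ∈ s ↔ x ∈ s})) ?_).trans_eq
      Nat.card_sigma
    intro s s' e
    exact congrArg (fun z : Σ h : {h : H // h ≠ 1}, {s : Set {x : R // x ≠ 0} //
      ∀ x, MulAction.toPermHom H {x : R // x ≠ 0} h.1 x ∈ s ↔ x ∈ s} => z.2.1) e
  have hsum := Finset.sum_le_card_nsmul (Finset.univ : Finset {h : H // h ≠ 1})
    (fun h => Nat.card {s : Set {x : R // x ≠ 0} //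
      ∀ x, MulAction.toPermHom H {x : R // x ≠ 0} h.1 x ∈ s ↔ x ∈ s})
    (2 ^ ((Nat.card {x : R // x ≠ 0} + f) / 2)) fun h _ => by
      refine card_perm_invariant_sets_le _ (le_trans ?_ (hf h.1 h.2))
      exact Nat.card_le_card_of_injective (fun x => ⟨x.1, congrArg Subtype.val x.2⟩)
        fun a b e => Subtype.ext (congrArg (fun z : {x : {x : R // x ≠ 0} // σ h.1 x = x} => z.1) e)
  have h2 : Nat.card (Set {x : R // x ≠ 0}) = 2 ^ Nat.card {x : R // x ≠ 0} := by
    rw [Nat.card_eq_fintype_card, Nat.card_eq_fintype_card, Fintype.card_set]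
  have h3 : (Finset.univ : Finset {h : H // h ≠ 1}).card ≤ Nat.card H := by
    rw [Finset.card_univ, ← Nat.card_eq_fintype_card]
    exact Nat.card_le_card_of_injective _ Subtype.val_injective
  rw [smul_eq_mul] at hsum
  have := (h2 ▸ hle).trans (hsum.trans (Nat.mul_le_mul_right _ h3))
  omega

/-- An irreducible solvable linear group of order prime to three over the field with two elements,
in dimension at most five. -/
theorem exists_stable_small [Group.IsSolvable H] (σ : H →* AddMonoid.End R)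
    (hinj : Function.Injective σ) (hirr : Irr σ) (hexp : ∀ v : R, 2 • v = 0) {d : ℕ}
    (hR : Nat.card R = 2 ^ d) (hd : d ≤ 5) (h3 : ¬ 3 ∣ Nat.card H) :
    ∃ Y : Set R, (0 : R) ∉ Y ∧ ∀ h : H, (∀ x, σ h x ∈ Y ↔ x ∈ Y) → h = 1 := by
  classical
  rcases subsingleton_or_nontrivial H with hH | hH
  · exact ⟨∅, fun h => h.elim, fun h _ => Subsingleton.elim _ _⟩
  obtain ⟨R₀, hR₀⟩ := CfsgLib.MinNormal.exists_isMinNormal (G := H)
  haveI := hR₀.1
  obtain ⟨q, hq, ⟨hab, -⟩, hqR, m, hm, hRc⟩ := hR₀.elementaryAbelian_of_solvable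
  haveI := Fact.mk hq
  haveI : Fact (Nat.Prime 2) := ⟨Nat.prime_two⟩
  -- the common fixed vectors
  let F : AddSubgroup R :=
    { carrier := {v | ∀ r ∈ R₀, σ r v = v}
      zero_mem' := fun r _ => map_zero _
      add_mem' := fun {x y} hx hy r hr => by rw [map_add, hx r hr, hy r hr]
      neg_mem' := fun {x} hx r hr => by rw [map_neg, hx r hr] }
  have hF : F = ⊥ := by
    refine (hirr F ?_).resolve_right fun h => hR₀.2.1 ((Subgroup.eq_bot_iff_forall _).2 ?_)
    · intro a v hv r hr
      have := hv _ (Normal.conj_mem' hR₀.1 r hr a)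
      rw [apply_mul, apply_mul] at this
      have h2 := congrArg (σ a) this
      rwa [apply_apply_inv] at h2
    · intro r hr
      refine hinj (AddMonoidHom.ext fun v => ?_)
      rw [map_one]
      exact (h.symm ▸ (trivial : v ∈ (⊤ : AddSubgroup R)) : v ∈ F) r hr
  letI act : MulAction R₀ R :=
    { smul := fun r v => σ r v
      one_smul := fun v => by show σ ((1 : R₀) : H) v = v; rw [OneMemClass.coe_one, map_one]; rfl
      mul_smul := fun a b v => apply_mul σ a b v }
  -- stable subgroups have order congruent to one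
  have hmod : ∀ W : AddSubgroup R, (∀ r ∈ R₀, ∀ v ∈ W, σ r v ∈ W) →
      Nat.card W ≡ 1 [MOD q] := by
    intro W hW
    letI : MulAction R₀ W :=
      { smul := fun r v => ⟨σ r v, hW r r.2 v v.2⟩
        one_smul := fun v => Subtype.ext (one_smul R₀ (v : R))
        mul_smul := fun a b v => Subtype.ext (mul_smul a b (v : R)) }
    have h := hqR.card_modEq_card_fixedPoints W
    have h1 : Nat.card (MulAction.fixedPoints R₀ W) = 1 := by
      rw [Nat.card_eq_one_iff_unique]
      refine ⟨⟨fun a b => ?_⟩, ⟨⟨0, fun r => Subtype.ext (map_zero (σ r))⟩⟩⟩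
      have hz : ∀ a : MulAction.fixedPoints R₀ W, (a.1 : R) = 0 := fun a => by
        have : (a.1 : R) ∈ F := fun r hr => congrArg Subtype.val (a.2 ⟨r, hr⟩)
        rwa [hF, AddSubgroup.mem_bot] at this
      exact Subtype.ext (Subtype.ext ((hz a).trans (hz b).symm))
    rwa [h1] at h
  have hqd : q ∣ 2 ^ d - 1 := by
    have := hmod ⊤ fun _ _ _ _ => trivial
    rw [AddSubgroup.card_top, hR] at this
    exact (Nat.modEq_iff_dvd' Nat.one_le_two_pow).1 this.symm
  have hq3 : q ≠ 3 := by
    rintro rfl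
    exact h3 ((hRc ▸ dvd_pow_self 3 hm.ne').trans (Subgroup.card_subgroup_dvd_card R₀))
  -- the prime and its exponent
  have hgl := card_dvd_end hR hexp (σ.comp R₀.subtype) (hinj.comp R₀.subtype_injective)
  rw [hRc] at hgl
  have hcases : (d = 0) ∨ (d = 3 ∧ q = 7) ∨ (d = 4 ∧ q = 5) ∨ (d = 5 ∧ q = 31) := by
    have hq1 := hq.one_lt
    interval_cases d
    · omega
    · have := Nat.le_of_dvd (by norm_num) hqd; omega
    · have := Nat.le_of_dvd (by norm_num) hqd
      have hq2 := Nat.le_antisymm (show q ≤ 3 by omega) (by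
        by_contra hc
        interval_cases q
        exact absurd hqd (by norm_num))
      omega
    · rcases (Nat.dvd_prime (by norm_num : Nat.Prime 7)).1 hqd with h | h <;> omega
    · have h15 : q ∣ 3 * 5 := hqd
      rcases hq.dvd_mul.1 h15 with h | h
      · rcases (Nat.dvd_prime (by norm_num : Nat.Prime 3)).1 h with h | h <;> omega
      · rcases (Nat.dvd_prime (by norm_num : Nat.Prime 5)).1 h with h | h <;> omega
    · rcases (Nat.dvd_prime (by norm_num : Nat.Prime 31)).1 hqd with h | h <;> omega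
  rcases hcases with rfl | hcases
  · haveI : Subsingleton R := (Nat.card_eq_one_iff_unique.1 (by rw [hR, pow_zero])).1
    refine ⟨∅, fun h => h.elim, fun h _ => hinj ?_⟩
    ext v
    exact Subsingleton.elim _ _
  have hm1 : Nat.card R₀ = q := by
    rcases (show m = 1 ∨ 2 ≤ m by omega) with rfl | h2
    · rw [hRc, pow_one]
    exfalso
    have hd' := (pow_dvd_pow q h2).trans hgl
    rcases hcases with ⟨rfl, rfl⟩ | ⟨rfl, rfl⟩ | ⟨rfl, rfl⟩ <;>
      simp [Fin.prod_univ_succ] at hd'
  have hcyc : IsCyclic R₀ := isCyclic_of_prime_card hm1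
  -- free on nonzero vectors
  have hfpf : ∀ r ∈ R₀, ∀ v : R, v ≠ 0 → σ r v = v → r = 1 := by
    intro r hr v hv hrv
    by_contra hne
    refine hv ?_
    have : v ∈ F := by
      intro s hs
      have htop : Subgroup.zpowers (⟨r, hr⟩ : R₀) = ⊤ :=
        zpowers_eq_top_of_prime_card hm1 (fun e => hne (congrArg Subtype.val e))
      have hstab : Subgroup.zpowers (⟨r, hr⟩ : R₀) ≤ MulAction.stabilizer R₀ v :=
        Subgroup.zpowers_le.2 hrv
      exact hstab (htop ▸ mem_top (⟨s, hs⟩ : R₀))
    rwa [hF, AddSubgroup.mem_bot] at this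
  let C := centralizer (R₀ : Set H)
  have hC : ∀ h ∈ C, ∀ v : R, v ≠ 0 → σ h v = v → h = 1 := by
    intro h hh v hv hhv
    let W : AddSubgroup R :=
      { carrier := {v | σ h v = v}
        zero_mem' := map_zero _
        add_mem' := fun {x y} hx hy => by
          simp only [Set.mem_setOf_eq] at hx hy ⊢
          rw [map_add, hx, hy]
        neg_mem' := fun {x} hx => by
          simp only [Set.mem_setOf_eq] at hx ⊢
          rw [map_neg, hx] }
    have hW : ∀ r ∈ R₀, ∀ w ∈ W, σ r w ∈ W := by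
      intro r hr w hw
      show σ h (σ r w) = σ r w
      rw [← apply_mul, ← hh r hr, apply_mul]
      exact congrArg (σ r) hw
    have hj := hmod W hW
    obtain ⟨j, hjd, hj'⟩ : ∃ j, j ≤ d ∧ Nat.card W = 2 ^ j :=
      (Nat.dvd_prime_pow Nat.prime_two).1 (hR ▸ AddSubgroup.card_addSubgroup_dvd_card W)
    have hj0 : j ≠ 0 := by
      rintro rfl
      rw [pow_zero, AddSubgroup.card_eq_one] at hj'
      have : v ∈ W := hhv
      rw [hj', AddSubgroup.mem_bot] at this
      exact hv this
    rw [hj'] at hj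
    have hd' : j = d := by
      have hdiv := (Nat.modEq_iff_dvd' Nat.one_le_two_pow).1 hj.symm
      rcases hcases with ⟨rfl, rfl⟩ | ⟨rfl, rfl⟩ | ⟨rfl, rfl⟩ <;> interval_cases j <;>
        first | rfl | omega | norm_num at hdiv
    have hWtop : W = ⊤ := AddSubgroup.eq_top_of_card_eq W (by rw [hj', hd', hR])
    refine hinj (AddMonoidHom.ext fun x => ?_)
    rw [map_one]
    exact (hWtop.symm ▸ (trivial : x ∈ (⊤ : AddSubgroup R)) : x ∈ W)
  have hnz : Nat.card {x : R // x ≠ 0} = 2 ^ d - 1 := by
    cases nonempty_fintype R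
    rw [Nat.card_eq_fintype_card, Fintype.card_subtype_compl, Fintype.card_subtype_eq,
      ← Nat.card_eq_fintype_card, hR]
  -- fixed vectors outside the centraliser
  have hfix : ∀ h : H, h ≠ 1 → Nat.card {x : {x : R // x ≠ 0} // σ h x = x} * q ≤ 2 ^ d - 1 := by
    intro h hne
    by_cases hh : h ∈ C
    · haveI : IsEmpty {x : {x : R // x ≠ 0} // σ h x = x} :=
        ⟨fun x => hne (hC h hh _ x.1.2 x.2)⟩
      simp
    rw [← hm1, ← Nat.card_prod, ← hnz]
    refine Nat.card_le_card_of_injective (fun z : {x : {x : R // x ≠ 0} // σ h x = x} × R₀ =>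
      (⟨σ z.2 z.1.1, fun e => z.1.1.2 (apply_injective σ _ (e.trans (map_zero _).symm))⟩ :
        {x : R // x ≠ 0})) ?_
    rintro ⟨⟨⟨x, hx⟩, hhx⟩, r⟩ ⟨⟨⟨y, hy⟩, hhy⟩, s⟩ e
    have e' : σ r x = σ s y := congrArg Subtype.val e
    simp only at hhx hhy
    have hyx : y = σ ((s : H)⁻¹ * r) x := by rw [apply_mul, e', apply_inv_apply]
    set t := (s : H)⁻¹ * r with ht
    have htR : t ∈ R₀ := R₀.mul_mem (R₀.inv_mem s.2) r.2
    have hu : t⁻¹ * (h * t * h⁻¹) = 1 := by
      refine hfpf _ (R₀.mul_mem (R₀.inv_mem htR) (hR₀.1.conj_mem t htR h)) x hx ?_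
      rw [apply_mul, apply_mul, apply_mul, show σ h⁻¹ x = x by
        conv_lhs => rw [← hhx]
        rw [apply_inv_apply], ← hyx, hhy, hyx, apply_inv_apply]
    have hht : h * t = t * h := mul_inv_eq_iff_eq_mul.1 (inv_mul_eq_one.1 hu).symm
    have ht1 : t = 1 := by
      by_contra hne'
      refine hh fun a ha => ?_
      have htop : Subgroup.zpowers (⟨t, htR⟩ : R₀) = ⊤ :=
        zpowers_eq_top_of_prime_card hm1 (fun e => hne' (congrArg Subtype.val e))
      have hle : Subgroup.zpowers (⟨t, htR⟩ : R₀) ≤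
          (Subgroup.centralizer ({h} : Set H)).subgroupOf R₀ :=
        Subgroup.zpowers_le.2 (by rw [Subgroup.mem_subgroupOf, Subgroup.mem_centralizer_singleton_iff]; exact hht.symm)
      have := hle (htop ▸ mem_top (⟨a, ha⟩ : R₀))
      rw [Subgroup.mem_subgroupOf, Subgroup.mem_centralizer_singleton_iff] at this
      exact this
    have hrs : (s : H) = r := inv_mul_eq_one.1 ht1
    obtain rfl : s = r := Subtype.ext hrs
    obtain rfl : x = y := apply_injective σ _ e'
    rfl
  -- order and index of the centraliser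
  have hCcard : Nat.card C ≤ 2 ^ d - 1 := by
    rw [← hnz]
    obtain ⟨v, hv⟩ : ∃ v : R, v ≠ 0 := by
      by_contra hc
      push Not at hc
      obtain ⟨h, hh⟩ := exists_ne (1 : H)
      exact hh (hinj (AddMonoidHom.ext fun v => by rw [hc v]; exact (map_zero _).trans (map_zero _).symm))
    refine Nat.card_le_card_of_injective (fun c : C =>
      (⟨σ c v, fun e => hv (apply_injective σ _ (e.trans (map_zero _).symm))⟩ :
        {x : R // x ≠ 0})) fun a b e => ?_
    have e' : σ a v = σ b v := congrArg Subtype.val e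
    have := hC _ (C.mul_mem (C.inv_mem b.2) a.2) v hv (by rw [apply_mul, e', apply_inv_apply])
    exact Subtype.ext (inv_mul_eq_one.1 this).symm
  have hker : (MulAut.conjNormal : H →* MulAut R₀).ker = C := by
    ext x
    rw [MonoidHom.mem_ker, Subgroup.mem_centralizer_iff, MulEquiv.ext_iff]
    constructor
    · intro h y hy
      have := congrArg Subtype.val (h ⟨y, hy⟩)
      rw [MulAut.conjNormal_apply, MulAut.one_apply] at this
      exact (mul_inv_eq_iff_eq_mul.1 this).symm
    · intro h y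
      apply Subtype.ext
      rw [MulAut.conjNormal_apply, MulAut.one_apply, mul_inv_eq_iff_eq_mul, h y y.2]
  have hidx : C.index ∣ q - 1 := by
    rw [← hker, Subgroup.index_ker]
    refine (Subgroup.card_subgroup_dvd_card _).trans ?_
    rw [IsCyclic.card_mulAut, hm1, Nat.totient_prime hq]
  have hcard : Nat.card H ≤ (2 ^ d - 1) * (q - 1) := by
    rw [← C.card_mul_index]
    exact Nat.mul_le_mul hCcard (Nat.le_of_dvd (by have := hq.two_le; omega) hidx)
  rcases hcases with ⟨rfl, rfl⟩ | ⟨rfl, rfl⟩ | ⟨rfl, rfl⟩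
  · -- one point suffices
    obtain ⟨v, hv⟩ : ∃ v : R, v ≠ 0 := by
      by_contra hc
      push Not at hc
      haveI : Subsingleton R := ⟨fun a b => (hc a).trans (hc b).symm⟩
      have := Nat.card_unique (α := R)
      omega
    refine ⟨{v}, fun e => hv (Set.mem_singleton_iff.1 e).symm, fun h hh => ?_⟩
    have hhv : σ h v = v := (hh v).2 rfl
    by_contra hne
    have h2C : h * h ∈ C := by
      haveI : C.Normal := by rw [← hker]; infer_instance
      have hd2 : C.index ∣ 2 := by
        have h3' : ¬ 3 ∣ C.index := fun e => h3 (e.trans (C.index_dvd_card))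
        refine ((Nat.Prime.coprime_iff_not_dvd (by norm_num)).2 h3').symm.dvd_of_dvd_mul_left ?_
        exact hidx
      obtain ⟨k, hk⟩ := hd2
      rw [← pow_two, hk, pow_mul]
      exact pow_mem (Subgroup.pow_index_mem C h) k
    have hsq : h * h = 1 := hC _ h2C v hv (by rw [apply_mul, hhv, hhv])
    -- an involution fixes at least half of the coordinates
    let g : R →+ R := AddMonoidHom.mk' (fun x => σ h x + x) fun x y => by rw [map_add]; abel
    have hrange : g.range ≤ g.ker := by
      rintro _ ⟨x, rfl⟩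
      show σ h (σ h x + x) + (σ h x + x) = 0
      rw [map_add, ← apply_mul, hsq, map_one, AddMonoid.End.coe_one, id_eq, add_comm x,
        ← two_nsmul, hexp]
    have hle : Nat.card g.range ≤ Nat.card g.ker :=
      Nat.card_le_card_of_injective _ (AddSubgroup.inclusion_injective hrange)
    have hmul : Nat.card g.range * Nat.card g.ker = 8 := by
      rw [← AddSubgroup.index_ker, AddSubgroup.index_mul_card, hR]; rfl
    have hk : 3 ≤ Nat.card g.ker := by nlinarith
    have h1 := hfix h hne
    have h2 : Nat.card g.ker ≤ Nat.card {x : {x : R // x ≠ 0} // σ h x = x} + 1 := by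
      rw [← Finite.card_option]
      refine Nat.card_le_card_of_injective (fun x : g.ker => if hx : (x : R) = 0 then none else
        some ⟨⟨x, hx⟩, ?_⟩) ?_
      · have e : σ h (x : R) + x = 0 := x.2
        have e2 : (x : R) + x = 0 := by rw [← two_nsmul, hexp]
        exact add_right_cancel (e.trans e2.symm)
      · intro a b e
        simp only at e
        split_ifs at e with ha hb hb
        · exact Subtype.ext (ha.trans hb.symm)
        · exact Subtype.ext (congrArg (fun z : {x : {x : R // x ≠ 0} // σ h x = x} => z.1.1)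
            (Option.some.inj e))
    omega
  · refine exists_stable_of_count σ (f := 3) (fun h hh => by have := hfix h hh; omega) ?_
    rw [hnz]
    calc _ ≤ ((2 ^ 4 - 1) * (5 - 1)) * 2 ^ ((2 ^ 4 - 1 + 3) / 2) := Nat.mul_le_mul_right _ hcard
      _ < _ := by norm_num
  · refine exists_stable_of_count σ (f := 1) (fun h hh => by have := hfix h hh; omega) ?_
    rw [hnz]
    calc _ ≤ ((2 ^ 5 - 1) * (31 - 1)) * 2 ^ ((2 ^ 5 - 1 + 1) / 2) := Nat.mul_le_mul_right _ hcard
      _ < _ := by norm_num

/-- A set of nonzero vectors with trivial stabiliser. -/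
theorem exists_stable [Group.IsSolvable H] (σ : H →* AddMonoid.End R) (hinj : Function.Injective σ)
    (hirr : Irr σ) {p : ℕ} [Fact p.Prime] (hexp : ∀ v : R, p • v = 0) (hp : p ≠ 3)
    (h3 : ¬ 3 ∣ Nat.card H) :
    ∃ Y : Set R, (0 : R) ∉ Y ∧ ∀ h : H, (∀ x, σ h x ∈ Y ↔ x ∈ Y) → h = 1 := by
  letI : Module (ZMod p) R := AddCommGroup.zmodModule (n := p) hexp
  haveI : Module.Finite (ZMod p) R := Module.Finite.of_finite
  obtain ⟨d, hd⟩ : ∃ d, Module.finrank (ZMod p) R = d := ⟨_, rfl⟩
  have hcard : Nat.card R = p ^ d := by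
    rw [Module.natCard_eq_pow_finrank (K := ZMod p) (V := R), Nat.card_zmod, hd]
  let B := Module.finBasisOfFinrankEq (ZMod p) R hd
  have hconc : ∀ Y : Set R, (∀ f : R →+ R, Function.Injective f → (∀ x, f x ∈ Y ↔ x ∈ Y) →
      ∀ x, f x = x) → ∀ h : H, (∀ x, σ h x ∈ Y ↔ x ∈ Y) → h = 1 := fun Y hY h hh =>
    hinj (AddMonoidHom.ext fun x => by
      rw [map_one]; exact hY (σ h) (apply_injective σ h) hh x)
  rcases (show p = 2 ∨ 5 ≤ p by
    have h2 := (Fact.out : p.Prime).two_le
    have h4 : p ≠ 4 := fun e => absurd (e ▸ (Fact.out : p.Prime)) (by norm_num)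
    omega) with rfl | hp5
  · rcases Nat.lt_or_ge d 6 with h | h
    · exact exists_stable_small σ hinj hirr hexp hcard (by omega) h3
    · obtain ⟨Y, h0, hY⟩ := exists_rigid_two h B
      exact ⟨Y, h0, hconc Y hY⟩
  · obtain ⟨Y, h0, hY⟩ := exists_rigid_five hp5 B
    exact ⟨Y, h0, hconc Y fun f hf hfY => hY f hf fun x hx => (hfY x).2 hx⟩

/-- The core-free case. -/
theorem exists_three_colouring_corefree {G : Type u} [Group G] [Finite G] [Group.IsSolvable G]
    (h3 : ¬ 3 ∣ Nat.card G) {M : Subgroup G} (hM : IsCoatom M) (hcore : M.normalCore = ⊥) :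
    ∃ col : G ⧸ M → Fin 3, ∀ a : G, (∀ x, col (a • x) = col x) → a = 1 := by
  classical
  haveI : Nontrivial G := by
    by_contra h
    rw [not_nontrivial_iff_subsingleton] at h
    exact hM.1 (Subsingleton.elim _ _)
  obtain ⟨R, hR⟩ := CfsgLib.MinNormal.exists_isMinNormal (G := G)
  haveI := hR.1
  obtain ⟨r, hr, ⟨hab, hexp'⟩, hRp, k, hk, hRc⟩ := hR.elementaryAbelian_of_solvable
  haveI : Fact r.Prime := ⟨hr⟩
  have hr3 : r ≠ 3 := by
    rintro rfl
    exact h3 ((hRc ▸ dvd_pow_self 3 hk.ne').trans (Subgroup.card_subgroup_dvd_card R))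
  have hRM : ¬ R ≤ M := fun h =>
    hR.2.1 (le_bot_iff.1 (hcore ▸ (Subgroup.normal_le_normalCore.2 h : R ≤ M.normalCore)))
  have hcompl := hR.isComplement'_of_isCoatom hab hM hRM
  have hidx : M.index = Nat.card R := hcompl.index_eq_card
  letI : CommGroup R := { (inferInstance : Group R) with mul_comm := fun a b => hab.is_comm.comm a b }
  let φ : M →* MulAut R := MulAut.conjNormal.comp M.subtype
  have hφval : ∀ (m : M) (x : R), ((φ m x : R) : G) = m * x * (m : G)⁻¹ := fun m x =>
    MulAut.conjNormal_apply _ _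
  have hφ : Function.Injective φ := by
    rw [injective_iff_map_eq_one]
    intro m hm
    have h1 : (m : G) ∈ centralizer (R : Set G) ⊓ M := by
      refine ⟨fun x hx => ?_, m.2⟩
      have := congrArg Subtype.val (DFunLike.congr_fun hm (⟨x, hx⟩ : R))
      rw [hφval, MulAut.one_apply] at this
      exact (mul_inv_eq_iff_eq_mul.1 this).symm
    rw [CoreFreeMaximal.centralizer_inf_eq_bot hM hcore hR.2.1, mem_bot] at h1
    exact Subtype.ext h1
  have hσ : Function.Injective (addRep φ) := by
    rw [injective_iff_map_eq_one]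
    exact fun m hm => (injective_iff_map_eq_one φ).1 hφ m ((addRep_eq_one φ m).1 hm)
  have hexp : ∀ v : Additive R, r • v = 0 := fun v => by
    have h : v.toMul ^ r = 1 := Subtype.ext (hexp' _ v.toMul.2)
    exact congrArg Additive.ofMul h
  have hirr : Irr (addRep φ) := by
    intro U hU
    let N : Subgroup G :=
      { carrier := {g | ∃ hg : g ∈ R, Additive.ofMul (⟨g, hg⟩ : R) ∈ U}
        one_mem' := ⟨R.one_mem, U.zero_mem⟩
        mul_mem' := fun ⟨ha, ha'⟩ ⟨hb, hb'⟩ => ⟨R.mul_mem ha hb, U.add_mem ha' hb'⟩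
        inv_mem' := fun ⟨ha, ha'⟩ => ⟨R.inv_mem ha, U.neg_mem ha'⟩ }
    have hN : N.Normal := by
      refine ⟨fun n hn g => ?_⟩
      obtain ⟨hnR, hnU⟩ := hn
      have htop : R ⊔ M = ⊤ := hM.2 _ (lt_of_le_of_ne le_sup_right fun e => hRM
        (le_sup_left.trans e.ge))
      have hg : g ∈ R ⊔ M := by rw [htop]; exact mem_top g
      obtain ⟨x, hx, m, hm, rfl⟩ := Subgroup.mem_sup_of_normal_left.1 hg
      refine ⟨hR.1.conj_mem n hnR _, ?_⟩
      have hmU := hU ⟨m, hm⟩ _ hnU
      rw [addRep_apply, toMul_ofMul] at hmU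
      convert hmU using 2
      apply Subtype.ext
      rw [hφval]
      show x * m * n * (x * m)⁻¹ = m * n * m⁻¹
      have h := congrArg Subtype.val (hab.is_comm.comm (⟨x, hx⟩ : R) ⟨m * n * m⁻¹,
        hR.1.conj_mem n hnR m⟩)
      simp only [Subgroup.coe_mul] at h
      calc x * m * n * (x * m)⁻¹ = x * (m * n * m⁻¹) * x⁻¹ := by group
        _ = m * n * m⁻¹ := by rw [h]; group
    rcases hR.2.2 N hN (fun g hg => hg.1) with h | h
    · left
      rw [eq_bot_iff]
      intro v hv
      have : ((v.toMul : R) : G) ∈ N := ⟨v.toMul.2, hv⟩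
      rw [h, mem_bot] at this
      exact AddSubgroup.mem_bot.2 (congrArg Additive.ofMul (Subtype.ext this : v.toMul = 1))
    · right
      rw [eq_top_iff]
      intro v _
      have : ((v.toMul : R) : G) ∈ N := h.symm ▸ v.toMul.2
      exact this.2
  obtain ⟨Y, hY0, hY⟩ := exists_stable (addRep φ) hσ hirr hexp hr3
    (fun e => h3 (e.trans (Subgroup.card_subgroup_dvd_card M)))
  let pt : R → G ⧸ M := fun x => ((x : G) : G ⧸ M)
  have hpt : Function.Bijective pt := by
    have hinj : Function.Injective pt := by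
      intro x y h
      have hm : (x : G)⁻¹ * y ∈ M := QuotientGroup.eq.1 h
      have : (x : G)⁻¹ * y ∈ (⊥ : Subgroup G) :=
        hcompl.disjoint.le_bot ⟨R.mul_mem (R.inv_mem x.2) y.2, hm⟩
      exact Subtype.ext (inv_mul_eq_one.1 (mem_bot.1 this))
    exact (Nat.bijective_iff_injective_and_card pt).2 ⟨hinj, by rw [← hidx]; rfl⟩
  have hmpt : ∀ (m : M) (x : R), (m : G) • pt x = pt (φ m x) := by
    intro m x
    show (((m : G) * x : G) : G ⧸ M) = ((φ m x : G) : G ⧸ M)
    rw [hφval, QuotientGroup.eq]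
    convert M.inv_mem m.2 using 1
    group
  let e := Equiv.ofBijective pt hpt
  let c : Additive R → Fin 3 := fun v => if v = 0 then 0 else if v ∈ Y then 1 else 2
  refine ⟨fun x => c (Additive.ofMul (e.symm x)), fun a ha => ?_⟩
  have hback : ∀ x : R, e.symm (pt x) = x := e.symm_apply_apply
  have haM : a ∈ M := by
    have h1 := ha (pt 1)
    simp only [hback, ofMul_one, c, if_true] at h1
    have h2 : e.symm (a • pt 1) = 1 := by
      by_contra hne
      have hne' : Additive.ofMul (e.symm (a • pt 1)) ≠ 0 := fun h => hne (congrArg Additive.toMul h)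
      rw [if_neg hne'] at h1
      split_ifs at h1 <;> exact absurd h1 (by decide)
    rw [Equiv.symm_apply_eq] at h2
    have h3 : a • ((1 : G) : G ⧸ M) = ((1 : G) : G ⧸ M) := h2
    rw [MulAction.Quotient.smul_coe, QuotientGroup.eq] at h3
    simpa [smul_eq_mul] using h3
  have h1 : (⟨a, haM⟩ : M) = 1 := hY _ fun v => by
    have h1 := ha (pt v.toMul)
    rw [show a • pt v.toMul = pt (φ ⟨a, haM⟩ v.toMul) from hmpt ⟨a, haM⟩ _] at h1
    simp only [hback, ← addRep_apply, ofMul_toMul] at h1
    rcases eq_or_ne v 0 with rfl | hv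
    · rw [map_zero]
    · have hv' : addRep φ ⟨a, haM⟩ v ≠ 0 := fun h =>
        hv (apply_injective (addRep φ) _ (h.trans (map_zero _).symm))
      simp only [c, if_neg hv, if_neg hv'] at h1
      split_ifs at h1 with hb hc hc <;>
        first | exact iff_of_true hb hc | exact iff_of_false hb hc | exact absurd h1 (by decide)
  exact congrArg Subtype.val h1

/-- The cosets of a maximal subgroup of a solvable group of order prime to three have a colouring
with three colours preserved only by elements fixing every coset. -/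
theorem exists_three_colouring {G : Type u} [Group G] [Finite G] [Group.IsSolvable G]
    (h3 : ¬ 3 ∣ Nat.card G) {M : Subgroup G} (hM : IsCoatom M) :
    ∃ col : G ⧸ M → Fin 3, ∀ a : G, (∀ x, col (a • x) = col x) → ∀ x : G ⧸ M, a • x = x := by
  let K := M.normalCore
  let f : G →* G ⧸ K := QuotientGroup.mk' K
  have hf : Function.Surjective f := QuotientGroup.mk'_surjective K
  have hker : f.ker ≤ M := by rw [QuotientGroup.ker_mk']; exact M.normalCore_le
  have hcomap : (M.map f).comap f = M := Subgroup.comap_map_eq_self hker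
  have hM' : IsCoatom (M.map f) := by
    refine ⟨fun e => hM.1 (hcomap.symm.trans ((congrArg (Subgroup.comap f) e).trans
      (Subgroup.comap_top f))), fun Y hY => ?_⟩
    have h := hM.2 (Y.comap f) (lt_of_le_of_ne (hcomap.ge.trans (comap_mono hY.le))
      fun e => hY.ne ((congrArg (Subgroup.map f) e).trans (map_comap_eq_self_of_surjective hf Y)))
    rw [← map_comap_eq_self_of_surjective hf Y, h, map_top_of_surjective f hf]
  have hcore : (M.map f).normalCore = ⊥ := by
    rw [eq_bot_iff]
    intro y hy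
    obtain ⟨g, rfl⟩ := hf y
    have hle : ((M.map f).normalCore).comap f ≤ M.normalCore :=
      Subgroup.normal_le_normalCore.2 (le_trans (comap_mono (normalCore_le _)) hcomap.le)
    rw [mem_bot, ← MonoidHom.mem_ker, QuotientGroup.ker_mk']
    exact hle hy
  obtain ⟨col, hcol⟩ := exists_three_colouring_corefree
    (fun e => h3 (e.trans (Subgroup.card_quotient_dvd_card K))) hM' hcore
  let π : G ⧸ M → (G ⧸ K) ⧸ (M.map f) := Quotient.map' f fun a b h => by
    rw [QuotientGroup.leftRel_apply] at h ⊢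
    exact ⟨_, h, by rw [map_mul, map_inv]⟩
  have hπ : ∀ (a : G) (x : G ⧸ M), π (a • x) = f a • π x := by
    intro a x
    induction x using QuotientGroup.induction_on with
    | _ g =>
      show ((f (a * g) : G ⧸ K) : (G ⧸ K) ⧸ (M.map f)) = ((f a * f g : G ⧸ K) : _)
      rw [map_mul]
  have hπs : Function.Surjective π := by
    intro y
    induction y using QuotientGroup.induction_on with
    | _ z =>
      obtain ⟨g, rfl⟩ := hf z
      exact ⟨(g : G ⧸ M), rfl⟩
  refine ⟨col ∘ π, fun a ha x => ?_⟩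
  have h1 : f a = 1 := hcol (f a) fun y => by
    obtain ⟨x, rfl⟩ := hπs y
    rw [← hπ]
    exact ha x
  rw [← MonoidHom.mem_ker, QuotientGroup.ker_mk'] at h1
  induction x using QuotientGroup.induction_on with
  | _ g =>
    rw [MulAction.Quotient.smul_coe, QuotientGroup.eq]
    have h2 := inv_mem (h1 g⁻¹)
    simpa [mul_assoc] using h2

end CfsgLib.CoprimeBase
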