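import Cfsg.Agent.Lib.CoprimeBase.EightBasic

/-!
Degree eight over three elements: the second pair.
-/

set_option autoImplicit false
set_option linter.style.haveILetI false
set_option synthInstance.maxSize 2000

namespace CfsgLib.CoprimeBase

universe u w

/-- The first vector of a pair. -/
def v8b : Fin 2 → Fin 2 → Fin 2 → ZMod 3 := ![![![2, 1], ![0, 1]], ![![2, 2], ![0, 1]]]

/-- The second vector of a pair. -/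
def u8b : Fin 2 → Fin 2 → Fin 2 → ZMod 3 := ![![![1, 2], ![2, 0]], ![![0, 1], ![0, 0]]]

theorem v8b_ne : v8b ≠ 0 ∧ u8b ≠ 0 := by decide +kernel

theorem v8b_gen : ∀ k, ∀ s t : ZMod 3, s • M8 k v8b = t • v8b → k = (0, 0, 0, 0, 0, 0) ∨ s = 0 := by
  decide +kernel

theorem v8b_orbit : ∀ k, ∀ s t : ZMod 3, s • M8 k v8b = t • u8b → s = 0 := by decide +kernel

theorem v8b_rel0 :
    (1 : ZMod 3) • M8 (0, 0, 0, 0, 0, 1) ((1 : ZMod 3) • M8 (0, 0, 0, 0, 0, 1) v8b) = (2 : ZMod 3) • v8b ∧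
    (2 : ZMod 3) • M8 (1, 1, 1, 0, 1, 1) (u8b + (2 : ZMod 3) • v8b) = v8b + (1 : ZMod 3) • M8 (0, 0, 0, 0, 0, 1) v8b ∧
    (2 : ZMod 3) • M8 (1, 1, 1, 0, 1, 1) ((1 : ZMod 3) • M8 (0, 0, 0, 0, 0, 1) v8b) =
      (2 : ZMod 3) • ((1 : ZMod 3) • M8 (0, 0, 0, 0, 0, 1) ((2 : ZMod 3) • M8 (1, 1, 1, 0, 1, 1) v8b)) := by
  decide +kernel

theorem v8b_unique0 : ∀ k, ∀ s : ZMod 3, s • M8 k (s • M8 k v8b) = (2 : ZMod 3) • v8b →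
    ∀ k', ∀ t : ZMod 3, t • M8 k' (u8b + (2 : ZMod 3) • v8b) = v8b + s • M8 k v8b →
      t • M8 k' (s • M8 k v8b) = (2 : ZMod 3) • (s • M8 k (t • M8 k' v8b)) →
        k = (0, 0, 0, 0, 0, 1) ∧ (s = 1 ∨ s = -1) := by
  decide +kernel

theorem v8b_rel1 :
    (1 : ZMod 3) • M8 (0, 1, 1, 0, 0, 1) ((1 : ZMod 3) • M8 (0, 1, 1, 0, 0, 1) v8b) = (2 : ZMod 3) • v8b ∧
    (2 : ZMod 3) • M8 (1, 0, 1, 0, 0, 0) u8b = v8b + (1 : ZMod 3) • M8 (0, 1, 1, 0, 0, 1) v8b ∧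
    (2 : ZMod 3) • M8 (1, 0, 1, 0, 0, 0) ((1 : ZMod 3) • M8 (0, 1, 1, 0, 0, 1) v8b) =
      (2 : ZMod 3) • ((1 : ZMod 3) • M8 (0, 1, 1, 0, 0, 1) ((2 : ZMod 3) • M8 (1, 0, 1, 0, 0, 0) v8b)) := by
  decide +kernel

theorem v8b_unique1 : ∀ k, ∀ s : ZMod 3, s • M8 k (s • M8 k v8b) = (2 : ZMod 3) • v8b →
    ∀ k', ∀ t : ZMod 3, t • M8 k' u8b = v8b + s • M8 k v8b →
      t • M8 k' (s • M8 k v8b) = (2 : ZMod 3) • (s • M8 k (t • M8 k' v8b)) →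
        k = (0, 1, 1, 0, 0, 1) ∧ (s = 1 ∨ s = -1) := by
  decide +kernel

theorem v8b_rel2 :
    (1 : ZMod 3) • M8 (1, 1, 1, 1, 0, 1) ((1 : ZMod 3) • M8 (1, 1, 1, 1, 0, 1) v8b) = (2 : ZMod 3) • v8b ∧
    (1 : ZMod 3) • M8 (0, 1, 0, 0, 0, 0) (u8b + v8b) = v8b + (1 : ZMod 3) • M8 (1, 1, 1, 1, 0, 1) v8b ∧
    (1 : ZMod 3) • M8 (0, 1, 0, 0, 0, 0) ((1 : ZMod 3) • M8 (1, 1, 1, 1, 0, 1) v8b) =
      (2 : ZMod 3) • ((1 : ZMod 3) • M8 (1, 1, 1, 1, 0, 1) ((1 : ZMod 3) • M8 (0, 1, 0, 0, 0, 0) v8b)) := by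
  decide +kernel

theorem v8b_unique2 : ∀ k, ∀ s : ZMod 3, s • M8 k (s • M8 k v8b) = (2 : ZMod 3) • v8b →
    ∀ k', ∀ t : ZMod 3, t • M8 k' (u8b + v8b) = v8b + s • M8 k v8b →
      t • M8 k' (s • M8 k v8b) = (2 : ZMod 3) • (s • M8 k (t • M8 k' v8b)) →
        k = (1, 1, 1, 1, 0, 1) ∧ (s = 1 ∨ s = -1) := by
  decide +kernel

theorem v8b_relation : M8 (0, 1, 1, 0, 0, 1) u8b =
    M8 (0, 1, 1, 0, 0, 1) v8b + M8 (1, 1, 1, 1, 0, 1) v8b + (2 : ZMod 3) • M8 (0, 0, 0, 0, 0, 1) u8b := by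
  decide +kernel

theorem v8b_signs : ∀ r s t : ZMod 3, (r = 1 ∨ r = -1) → (s = 1 ∨ s = -1) → (t = 1 ∨ t = -1) →
    s • M8 (0, 1, 1, 0, 0, 1) u8b =
      s • M8 (0, 1, 1, 0, 0, 1) v8b + t • M8 (1, 1, 1, 1, 0, 1) v8b + (2 : ZMod 3) • (r • M8 (0, 0, 0, 0, 0, 1) u8b) →
    s = r ∧ t = r := by
  decide +kernel

/-- Coefficients of the standard vectors. -/
def c8b : Fin 2 → Fin 2 → Fin 2 → Fin 8 → ZMod 3 := ![![![![2, 2, 2, 1, 0, 1, 2, 1],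
    ![2, 0, 0, 0, 2, 1, 2, 2]], ![![2, 1, 1, 0, 1, 2, 0, 2],
    ![0, 0, 1, 0, 0, 2, 0, 2]]], ![![![0, 1, 1, 2, 0, 2, 2, 0],
    ![2, 0, 2, 2, 0, 2, 0, 0]], ![![2, 1, 1, 0, 1, 2, 1, 1],
    ![0, 0, 1, 2, 1, 2, 2, 0]]]]

/-- The possible nontrivial element of the stabiliser. -/
def t8b : (Fin 2 → Fin 2 → Fin 2 → ZMod 3) →+ (Fin 2 → Fin 2 → Fin 2 → ZMod 3) :=
  cols ![![![![![![2, 0], ![1, 1]], ![![2, 0], ![1, 1]]],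
    ![![![2, 1], ![0, 2]], ![![2, 1], ![0, 2]]]], ![![![![1, 1], ![2, 0]], ![![2, 2], ![1, 0]]],
    ![![![0, 2], ![2, 1]], ![![0, 1], ![1, 2]]]]], ![![![![![2, 0], ![2, 2]], ![![2, 0], ![2, 2]]],
    ![![![2, 1], ![0, 1]], ![![2, 1], ![0, 1]]]], ![![![![1, 1], ![1, 0]], ![![2, 2], ![2, 0]]],
    ![![![0, 2], ![1, 2]], ![![0, 1], ![2, 1]]]]]]

/-- The word combination of a standard vector, with sign `s` for each letter. -/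
def word8b (s : ZMod 3) (i j l : Fin 2) : Fin 2 → Fin 2 → Fin 2 → ZMod 3 :=
  c8b i j l 0 • v8b + c8b i j l 1 • u8b + c8b i j l 2 • (s • M8 (0, 0, 0, 0, 0, 1) v8b) +
    c8b i j l 3 • (s • M8 (0, 1, 1, 0, 0, 1) v8b) + c8b i j l 4 • (s • M8 (1, 1, 1, 1, 0, 1) v8b) +
    c8b i j l 5 • (s • M8 (0, 0, 0, 0, 0, 1) u8b) + c8b i j l 6 • (s • M8 (0, 1, 1, 0, 0, 1) (s • M8 (0, 0, 0, 0, 0, 1) v8b)) +
    c8b i j l 7 • (s • M8 (1, 1, 1, 1, 0, 1) (s • M8 (0, 0, 0, 0, 0, 1) v8b))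

theorem v8b_basis : ∀ i j l, word8b 1 i j l =
    (Pi.single i (Pi.single j (Pi.single l (1 : ZMod 3))) : Fin 2 → Fin 2 → Fin 2 → ZMod 3) ∧
    word8b (-1) i j l = t8b (Pi.single i (Pi.single j (Pi.single l 1))) := by
  decide +kernel

variable {K : Type u} [Field K] {V : Type w} [AddCommGroup V] [Module K V] in
/-- An element fixing the pair is the identity or the given one. -/
theorem stab8b {E H : Subgroup (V ≃ₗ[K] V)} (hH : Norms H E)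
    {Φ : V ≃+ (Fin 2 → Fin 2 → Fin 2 → ZMod 3)} (hM : Mdl (p := 3) E M8 Φ) {a : V ≃ₗ[K] V}
    (ha : a ∈ H) (hav : coord Φ a v8b = v8b) (hau : coord Φ a u8b = u8b) (hne : a ≠ 1) :
    ∀ f, coord Φ a f = t8b f := by
  haveI : Fact (Nat.Prime 3) := ⟨Nat.prime_three⟩
  obtain ⟨r0, hr0, hA0⟩ := hM.conj_sign hH ha hav (by rw [map_add, map_zmod_smul, hau, hav]) 2 2 (0, 0, 0, 0, 0, 1) (1, 1, 1, 0, 1, 1) 1 2
    one_ne_three.1 v8b_rel0.1 v8b_rel0.2.1 v8b_rel0.2.2 v8b_unique0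
  obtain ⟨r1, hr1, hA1⟩ := hM.conj_sign hH ha hav hau 2 2 (0, 1, 1, 0, 0, 1) (1, 0, 1, 0, 0, 0) 1 2
    one_ne_three.1 v8b_rel1.1 v8b_rel1.2.1 v8b_rel1.2.2 v8b_unique1
  obtain ⟨r2, hr2, hA2⟩ := hM.conj_sign hH ha hav (by rw [map_add, hau, hav]) 2 2 (1, 1, 1, 1, 0, 1) (0, 1, 0, 0, 0, 0) 1 1
    one_ne_three.1 v8b_rel2.1 v8b_rel2.2.1 v8b_rel2.2.2 v8b_unique2
  have h3 := congrArg (coord Φ a) v8b_relation
  simp only [map_add, map_zmod_smul, hA0, hA1, hA2, hav, hau] at h3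
  obtain ⟨e1, e2⟩ := v8b_signs r0 r1 r2 hr0 hr1 hr2 h3
  rw [e1] at hA1; rw [e2] at hA2
  have hbase : ∀ i j l, coord Φ a (word8b 1 i j l) = word8b r0 i j l := fun i j l => by
    simp only [word8b, one_smul, map_add, map_zmod_smul, hA0, hA1, hA2, hav, hau]
  rcases hr0 with rfl | rfl
  · refine absurd (eq_one_of_coord (Φ := Φ) fun f => ?_) hne
    refine pi_pi_pi_ext (F := coord Φ a) (G := AddMonoidHom.id _) (fun i j l => ?_) f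
    rw [AddMonoidHom.id_apply, ← (v8b_basis i j l).1, hbase]
  · intro f
    refine pi_pi_pi_ext (F := coord Φ a) (G := t8b) (fun i j l => ?_) f
    rw [← (v8b_basis i j l).2, ← hbase, (v8b_basis i j l).1]

end CfsgLib.CoprimeBase
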