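import Cfsg.Agent.Lib.CoprimeBase.EightA
import Cfsg.Agent.Lib.CoprimeBase.EightB

/-!
Degree eight over three elements: two pairs whose stabilisers cannot both be nontrivial.
-/

set_option autoImplicit false
set_option linter.style.haveILetI false
set_option synthInstance.maxSize 2000

namespace CfsgLib.CoprimeBase

universe u w

theorem t8_order : (∀ i j l, t8a (t8b (t8a (t8b (t8a (t8b (Pi.single i (Pi.single j (Pi.single l 1)))))))) =
      Pi.single i (Pi.single j (Pi.single l 1))) ∧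
    t8a (t8b (Pi.single 0 (Pi.single 0 (Pi.single 0 1)))) ≠
      Pi.single 0 (Pi.single 0 (Pi.single 0 1)) := by
  decide +kernel

variable {K : Type u} [Field K] {V : Type w} [AddCommGroup V] [Module K V]

/-- A free pair in general position in the coordinates of degree eight over three elements. -/
theorem good_eight [Finite K] (hK : Nat.card K = 3) {E H : Subgroup (V ≃ₗ[K] V)} (hE : Op E)
    (hH : Norms H E) (hC : Cop H) {Φ : V ≃+ (Fin 2 → Fin 2 → Fin 2 → ZMod 3)}
    (hM : Mdl (p := 3) E M8 Φ) : Good E H := by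
  haveI : Fact (Nat.Prime 3) := ⟨Nat.prime_three⟩
  have h1 : Φ.symm v8a ≠ 0 := fun e => v8a_ne.1 (by simpa using congrArg Φ e)
  have h2 : Φ.symm v8b ≠ 0 := fun e => v8b_ne.1 (by simpa using congrArg Φ e)
  by_cases hfa : Free2 H (Φ.symm v8a) (Φ.symm u8a)
  · exact ⟨_, _, h1, fun e => v8a_ne.2 (by simpa using congrArg Φ e),
      hM.gen hK hE m8_zero v8a_ne.1 v8a_gen, hM.orbit hK v8a_ne.1 v8a_orbit, hfa⟩
  refine ⟨_, _, h2, fun e => v8b_ne.2 (by simpa using congrArg Φ e),
    hM.gen hK hE m8_zero v8b_ne.1 v8b_gen, hM.orbit hK v8b_ne.1 v8b_orbit, ?_⟩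
  by_contra hfb
  simp only [Free2, not_forall, exists_prop] at hfa hfb
  obtain ⟨a, ha, hav, hau, ha1⟩ := hfa
  obtain ⟨b, hb, hbv, hbu, hb1⟩ := hfb
  have hfix : ∀ {g : V ≃ₗ[K] V} {f : Fin 2 → Fin 2 → Fin 2 → ZMod 3},
      g (Φ.symm f) = Φ.symm f → coord Φ g f = f := fun h => by
    rw [coord_apply, h, AddEquiv.apply_symm_apply]
  have hA := stab8a hH hM ha (hfix hav) (hfix hau) ha1
  have hB := stab8b hH hM hb (hfix hbv) (hfix hbu) hb1
  have h3 : (a * b) ^ 3 = 1 := eq_one_of_coord (Φ := Φ) fun f => by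
    refine pi_pi_pi_ext (F := coord Φ ((a * b) ^ 3)) (G := AddMonoidHom.id _) (fun i j l => ?_) f
    rw [AddMonoidHom.id_apply, pow_succ, pow_two]
    simp only [coord_mul, hA, hB]
    exact t8_order.1 i j l
  have hne : a * b ≠ 1 := fun e => t8_order.2 (by
    rw [← hB, ← hA, ← coord_mul, e, coord_apply, one_apply', AddEquiv.apply_symm_apply])
  have hcop := hC _ (H.mul_mem ha hb)
  haveI := charP_of_card hK
  rw [orderOf_eq_prime h3 hne, ringChar.eq K 3] at hcop
  exact absurd hcop (by norm_num)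

end CfsgLib.CoprimeBase
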