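import Cfsg.Agent.Lib.CoprimeBase.Base

/-!
Degree four: a free pair when the class of a split element is fixed by the group.
-/

set_option autoImplicit false
set_option linter.unusedSectionVars false
set_option linter.style.haveILetI false

namespace CfsgLib.CoprimeBase

universe u w

variable {K : Type u} [Field K] {V : Type w} [AddCommGroup V] [Module K V]
variable {E H : Subgroup (V ≃ₗ[K] V)} {x y : V ≃ₗ[K] V} {ζ : K}

namespace Split

theorem zeta_two (h : Split E 2 x y ζ) : ζ = -1 :=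
  (sq_eq_one_iff.1 h.zeta_pow).resolve_left h.zeta_ne

theorem two_ne (h : Split E 2 x y ζ) : (2 : K) ≠ 0 := by simpa using h.cast_ne_zero

theorem apply_y_fix (h : Split E 2 x y ζ) {z : V} (hz : x z = z) : x (y z) = -y z := by
  rw [h.twist, h.zeta_two, hz, neg_one_smul]

/-- The components of a sum of two eigenvectors. -/
theorem eigen_unique (h : Split E 2 x y ζ) {P P' Q Q' : V} (hP : x P = P) (hP' : x P' = P')
    (hQ : x Q = -Q) (hQ' : x Q' = -Q') (e : P + Q = P' + Q') : P = P' ∧ Q = Q' := by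
  have h1 := congrArg x e
  rw [map_add, map_add, hP, hP', hQ, hQ'] at h1
  have h2 : (2 : K) • (P - P') = 0 := by linear_combination (norm := module) e + h1
  have h3 : P = P' := sub_eq_zero.1 ((smul_eq_zero.1 h2).resolve_left h.two_ne)
  exact ⟨h3, by rw [h3] at e; exact add_left_cancel e⟩

/-- In degree two every element permutes the two eigenlines. -/
theorem mono_line [Finite V] [Nontrivial V] [FiniteDimensional K V] (h : Split E 2 x y ζ)
    (hE : Op E) (h1 : Module.finrank K (fixSub x) = 1) {a : V} (ha : a ∈ fixSub x) (ha0 : a ≠ 0)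
    {g : V ≃ₗ[K] V} (hg : g ∈ E) : ∃ μ ν : K, μ ≠ 0 ∧ ν ≠ 0 ∧
      ((g a = μ • a ∧ g (y a) = ν • y a) ∨ (g a = μ • y a ∧ g (y a) = ν • a)) := by
  obtain ⟨j, hj, p, hp, hpx, rfl⟩ := h.decomp hE hg
  obtain ⟨μ, hμ⟩ := h.scalar_line h1 ha ha0 (maps_fixSub hpx ha)
  have hμ0 : μ ≠ 0 := fun e => ha0 (p.map_eq_zero_iff.1 (by rw [hμ, e, zero_smul]))
  obtain ⟨κ, hκ⟩ := hE.comm p hp y h.y_mem
  have hκ0 : κ ≠ 0 := twist_ne_zero hκ
  rcases (show j = 0 ∨ j = 1 by omega) with rfl | rfl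
  · refine ⟨μ, κ * μ, hμ0, mul_ne_zero hκ0 hμ0, Or.inl ⟨by simpa using hμ, ?_⟩⟩
    rw [pow_zero, one_mul, hκ, hμ, map_smul, smul_smul]
  · have hyy : y (y a) ∈ fixSub x := by
      rw [mem_fixSub, h.twist, h.apply_y_fix ha, map_neg, h.zeta_two, neg_one_smul, neg_neg]
    obtain ⟨d, hd⟩ := h.scalar_line h1 ha ha0 hyy
    have hd0 : d ≠ 0 := fun e => ha0 (y.map_eq_zero_iff.1 (y.map_eq_zero_iff.1
      (by rw [hd, e, zero_smul])))
    refine ⟨μ, κ * μ * d, hμ0, mul_ne_zero (mul_ne_zero hκ0 hμ0) hd0, Or.inr ⟨?_, ?_⟩⟩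
    · rw [pow_one, mul_apply', hμ, map_smul]
    · rw [pow_one, mul_apply', hκ, hμ, map_smul, map_smul, map_smul, hd, smul_smul, smul_smul]

/-- A free pair in general position when the class of the split element is fixed. -/
theorem good_of_fixed [Finite V] [Nontrivial V] [FiniteDimensional K V] (h : Split E 2 x y ζ)
    (hE : Op E) (hH : Norms H E) (hC : Cop H) {x' y' : fixSub x ≃ₗ[K] fixSub x} {ζ' : K}
    (h' : Split (CoprimeBase.restrict E (fixSub x)) 2 x' y' ζ')
    (h1 : Module.finrank K (fixSub x') = 1)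
    (hclass : ∀ g ∈ H, (∀ v, x (g v) = g (x v)) ∨ (∀ v, x (g v) = -g (x v))) : Good E H := by
  obtain ⟨z₀, hz₀, hz₀0⟩ := Submodule.exists_mem_ne_zero_of_ne_bot h.fixSub_ne_bot
  haveI : Nontrivial (fixSub x) := ⟨⟨⟨z₀, hz₀⟩, 0, fun e => hz₀0 (congrArg Subtype.val e)⟩⟩
  have hE' := h.op_restrict hE
  obtain ⟨a, ha, ha0⟩ := Submodule.exists_mem_ne_zero_of_ne_bot h'.fixSub_ne_bot
  set b := y' a with hb
  have hb0 : b ≠ 0 := fun e => ha0 (y'.map_eq_zero_iff.1 e)
  have hxb : x' b = -b := h'.apply_y_fix ha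
  have hindep : ∀ s t : K, s • a + t • b = 0 → s = 0 ∧ t = 0 := fun s t e => by
    have := h'.eigen_unique (P := s • a) (P' := 0) (Q := t • b) (Q' := 0)
      (by rw [map_smul, mem_fixSub.1 ha]) (map_zero _) (by rw [map_smul, hxb, smul_neg])
      (by rw [map_zero, neg_zero]) (by rw [e, add_zero])
    exact ⟨(smul_eq_zero.1 this.1).resolve_right ha0, (smul_eq_zero.1 this.2).resolve_right hb0⟩
  have hspan : ∀ z : fixSub x, ∃ s t : K, z = s • a + t • b := fun z => by
    obtain ⟨s, hs⟩ := h'.scalar_line h1 ha ha0 (h'.comp 0 z).2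
    obtain ⟨t, ht⟩ := h'.scalar_line h1 ha ha0 (h'.comp 1 z).2
    refine ⟨s, t, ?_⟩
    conv_lhs => rw [← h'.sum_comp z]
    simp only [Finset.sum_range_succ, Finset.sum_range_zero, zero_add, pow_zero, pow_one,
      one_apply']
    rw [hs, ht, map_smul]
  -- what the group induces on the fixed space
  have hW : ∀ p ∈ E, (∀ v, x (p v) = p (x v)) → ∃ μ ν : K, μ ≠ 0 ∧ ν ≠ 0 ∧
      ((p (a : V) = μ • (a : V) ∧ p (b : V) = ν • (b : V)) ∨
       (p (a : V) = μ • (b : V) ∧ p (b : V) = ν • (a : V))) := fun p hp hpx => by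
    obtain ⟨e, he, hpe⟩ := mem_restrict_of_maps hp fun w hw => maps_fixSub hpx hw
    obtain ⟨μ, ν, hμ, hν, hh⟩ := h'.mono_line hE' h1 ha ha0 he
    refine ⟨μ, ν, hμ, hν, ?_⟩
    rcases hh with ⟨e1, e2⟩ | ⟨e1, e2⟩
    · exact Or.inl ⟨by rw [hpe, e1]; rfl, by rw [hpe, e2]; rfl⟩
    · exact Or.inr ⟨by rw [hpe, e1]; rfl, by rw [hpe, e2]; rfl⟩
  have hcoe : ∀ s t : K, s • (a : V) + t • (b : V) = 0 → s = 0 ∧ t = 0 := fun s t e =>
    hindep s t (Subtype.ext (by simpa using e))
  set c := a + b with hc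
  have hpc : ∀ p ∈ E, (∀ v, x (p v) = p (x v)) →
      ∃ s t : K, s ≠ 0 ∧ t ≠ 0 ∧ p (c : V) = s • (a : V) + t • (b : V) := fun p hp hpx => by
    obtain ⟨μ, ν, hμ, hν, hh⟩ := hW p hp hpx
    have e0 : p (c : V) = p (a : V) + p (b : V) := by rw [hc, Submodule.coe_add, map_add]
    rcases hh with ⟨e1, e2⟩ | ⟨e1, e2⟩
    · exact ⟨μ, ν, hμ, hν, by rw [e0, e1, e2]⟩
    · exact ⟨ν, μ, hν, hμ, by rw [e0, e1, e2, add_comm]⟩
  have hin : ∀ z : fixSub x, x (z : V) = z := fun z => z.2
  have hout : ∀ z : fixSub x, x (y (z : V)) = -y (z : V) := fun z => h.apply_y_fix z.2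
  set v : V := (a : V) + y (c : V) with hv
  have hc0 : (c : V) ≠ 0 := fun e => one_ne_zero (hcoe 1 1 (by
    rw [one_smul, one_smul, ← Submodule.coe_add]; exact e)).1
  have hv0 : v ≠ 0 := fun e => ha0 (Subtype.ext (h.eigen_unique (hin a) (map_zero _) (hout c)
    (by rw [map_zero, neg_zero]) (show (a : V) + y (c : V) = 0 + 0 by rw [add_zero]; exact e)).1)
  -- the images of a vector in the two layouts
  have himg : ∀ g ∈ E, ∀ z w : fixSub x, (∃ p ∈ E, (∀ v, x (p v) = p (x v)) ∧ ∃ κ : K, κ ≠ 0 ∧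
      (g ((z : V) + y (w : V)) = p (z : V) + y (κ • p (w : V)) ∧ g = p ∧
        (∀ u, p (y u) = κ • y (p u)))) ∨
      (∃ p ∈ E, (∀ v, x (p v) = p (x v)) ∧ ∃ q ∈ E, (∀ v, x (q v) = q (x v)) ∧ ∃ κ : K, κ ≠ 0 ∧
        g ((z : V) + y (w : V)) = κ • q (w : V) + y (p (z : V))) := by
    intro g hg z w
    obtain ⟨j, hj, p, hp, hpx, rfl⟩ := h.decomp hE hg
    obtain ⟨κ, hκ⟩ := hE.comm p hp y h.y_mem
    have hκ0 := twist_ne_zero hκ
    rcases (show j = 0 ∨ j = 1 by omega) with rfl | rfl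
    · refine Or.inl ⟨p, hp, hpx, κ, hκ0, ?_, by rw [pow_zero, one_mul], hκ⟩
      rw [pow_zero, one_mul, map_add, hκ, map_smul]
    · refine Or.inr ⟨p, hp, hpx, y * y * p, E.mul_mem (E.mul_mem h.y_mem h.y_mem) hp, fun u => ?_,
        κ, hκ0, ?_⟩
      · simp only [mul_apply']
        rw [h.twist, h.twist, map_smul, smul_smul, hpx, h.zeta_two]
        norm_num
      · rw [pow_one, mul_apply', map_add, hκ, map_add, map_smul, mul_apply', mul_apply', add_comm]
  have hsep : ∀ {P Q : V} {z w : fixSub x} {k : K}, x P = P → x Q = Q →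
      P + y Q = k • ((z : V) + y (w : V)) → P = k • (z : V) ∧ Q = k • (w : V) := by
    intro P Q z w k hP hQ e
    rw [smul_add, ← map_smul] at e
    obtain ⟨e1, e2⟩ := h.eigen_unique hP (by rw [map_smul, hin]) (h.apply_y_fix hQ)
      (h.apply_y_fix (by rw [map_smul, hin])) e
    exact ⟨e1, y.injective e2⟩
  have hgen : Gen E v := by
    intro g hg k hk
    rcases himg g hg a c with ⟨p, hp, hpx, κ, hκ0, he, rfl, hκ⟩ | ⟨p, hp, hpx, q, hq, hqx, κ, hκ0, he⟩
    · obtain ⟨e1, e2⟩ := hsep (maps_fixSub hpx a.2)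
        ((fixSub x).smul_mem κ (maps_fixSub hpx c.2)) (he.symm.trans hk)
      obtain ⟨μ, ν, hμ, hν, hh⟩ := hW g hp hpx
      rcases hh with ⟨f1, f2⟩ | ⟨f1, f2⟩
      · have hμk : μ = k :=
          smul_left_injective K (fun e => ha0 (Subtype.ext e)) (f1.symm.trans e1)
        have e3 : (κ * μ - k) • (a : V) + (κ * ν - k) • (b : V) = 0 := by
          rw [hc, Submodule.coe_add, map_add, f1, f2] at e2
          linear_combination (norm := module) e2
        obtain ⟨g1, g2⟩ := hcoe _ _ e3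
        have hκ1 : κ = 1 := by
          rw [hμk, sub_eq_zero] at g1
          exact (mul_eq_right₀ (hμk ▸ hμ)).1 g1
        subst hκ1
        rw [one_mul, sub_eq_zero] at g2
        have hsc : ∀ z ∈ fixSub x, g z = k • z := fun z hz => by
          obtain ⟨s, t, hst⟩ := hspan ⟨z, hz⟩
          rw [show z = s • (a : V) + t • (b : V) from congrArg Subtype.val hst, map_add, map_smul,
            map_smul, f1, f2, hμk, g2]
          module
        refine ⟨k, fun u => ?_⟩
        have hall : g = LinearEquiv.smulOfUnit (Units.mk0 k (hμk ▸ hμ)) :=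
          h.ext_blocks fun i hi z hz => by
            rw [smulUnit_apply, Units.val_mk0]
            rcases (show i = 0 ∨ i = 1 by omega) with rfl | rfl
            · rw [pow_zero, one_apply', hsc z hz]
            · rw [pow_one, hκ, one_smul, hsc z hz, map_smul]
        rw [hall, smulUnit_apply, Units.val_mk0]
      · have e3 : (-k) • (a : V) + μ • (b : V) = 0 := by
          rw [f1] at e1
          linear_combination (norm := module) e1
        exact absurd (hcoe _ _ e3).2 hμ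
    · exfalso
      obtain ⟨e1, e2⟩ := hsep ((fixSub x).smul_mem κ (maps_fixSub hqx c.2)) (maps_fixSub hpx a.2)
        (he.symm.trans hk)
      obtain ⟨μ, ν, hμ, hν, hh⟩ := hW p hp hpx
      rw [hc, Submodule.coe_add] at e2
      rcases hh with ⟨f1, -⟩ | ⟨f1, -⟩ <;> rw [f1] at e2
      · have e3 : (μ - k) • (a : V) + (-k) • (b : V) = 0 := by
          linear_combination (norm := module) e2
        obtain ⟨g1, g2⟩ := hcoe _ _ e3
        rw [neg_eq_zero] at g2
        rw [g2, sub_zero] at g1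
        exact hμ g1
      · have e3 : (-k) • (a : V) + (μ - k) • (b : V) = 0 := by
          linear_combination (norm := module) e2
        obtain ⟨g1, g2⟩ := hcoe _ _ e3
        rw [neg_eq_zero] at g1
        rw [g1, sub_zero] at g2
        exact hμ g2
  have horb : ∀ e : fixSub x, (e = -a ∨ e = b) →
      ∀ g ∈ E, ∀ k : K, g v ≠ k • ((b : V) + y (e : V)) := by
    intro e he g hg k hk
    have hk0 : k ≠ 0 := fun e0 => hv0 (g.map_eq_zero_iff.1 (by rw [hk, e0, zero_smul]))
    rcases himg g hg a c with ⟨p, hp, hpx, κ, hκ0, h2, -, -⟩ | ⟨p, hp, hpx, q, hq, hqx, κ, hκ0, h2⟩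
    · obtain ⟨-, e2⟩ := hsep (maps_fixSub hpx a.2)
        ((fixSub x).smul_mem κ (maps_fixSub hpx c.2)) (h2.symm.trans hk)
      obtain ⟨s, t, hs, ht, hst⟩ := hpc p hp hpx
      rw [hst] at e2
      rcases he with rfl | rfl
      · have e3 : (κ * s + k) • (a : V) + (κ * t) • (b : V) = 0 := by
          rw [Submodule.coe_neg] at e2
          linear_combination (norm := module) e2
        exact mul_ne_zero hκ0 ht (hcoe _ _ e3).2
      · have e3 : (κ * s) • (a : V) + (κ * t - k) • (b : V) = 0 := by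
          linear_combination (norm := module) e2
        exact mul_ne_zero hκ0 hs (hcoe _ _ e3).1
    · obtain ⟨e1, -⟩ := hsep ((fixSub x).smul_mem κ (maps_fixSub hqx c.2)) (maps_fixSub hpx a.2)
        (h2.symm.trans hk)
      obtain ⟨s, t, hs, ht, hst⟩ := hpc q hq hqx
      rw [hst] at e1
      have e3 : (κ * s) • (a : V) + (κ * t - k) • (b : V) = 0 := by
        linear_combination (norm := module) e1
      exact mul_ne_zero hκ0 hs (hcoe _ _ e3).1
  set u₁ : V := (b : V) + y ((-a : fixSub x) : V) with hu₁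
  set u₂ : V := (b : V) + y (b : V) with hu₂
  have hu₁0 : u₁ ≠ 0 := fun e => hb0 (Subtype.ext (h.eigen_unique (hin b) (map_zero _) (hout (-a))
    (by rw [map_zero, neg_zero])
    (show (b : V) + y ((-a : fixSub x) : V) = 0 + 0 by rw [add_zero]; exact e)).1)
  have hu₂0 : u₂ ≠ 0 := fun e => hb0 (Subtype.ext (h.eigen_unique (hin b) (map_zero _) (hout b)
    (by rw [map_zero, neg_zero]) (show (b : V) + y (b : V) = 0 + 0 by rw [add_zero]; exact e)).1)
  have horb1 := horb (-a) (Or.inl rfl)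
  have horb2 := horb b (Or.inr rfl)
  -- the element of the stabiliser exchanges the halves
  have hswap : ∀ e : fixSub x, (∃ s t : K, s • c + t • e = a) → (∃ s t : K, s • c + t • e = b) →
      ∀ g ∈ H, g v = v → g ((b : V) + y (e : V)) = (b : V) + y (e : V) → g ≠ 1 →
      g (a : V) = y (c : V) ∧ g (y (c : V)) = a ∧
        g (b : V) = y (e : V) ∧ g (y (e : V)) = b := by
    intro e hea heb g hg hgv hgu hg1
    rcases hclass g hg with hcm | hcm
    · exfalso
      have hfix : ∀ z w : fixSub x, g ((z : V) + y (w : V)) = (z : V) + y (w : V) →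
          g (z : V) = z ∧ g (y (w : V)) = y (w : V) := fun z w hzw => by
        rw [map_add] at hzw
        exact h.eigen_unique (by rw [hcm, hin]) (hin z) (by rw [hcm, hout, map_neg]) (hout w) hzw
      obtain ⟨ga, gc⟩ := hfix a c hgv
      obtain ⟨gb, ge⟩ := hfix b e hgu
      refine hg1 (h.ext_blocks fun i hi z hz => ?_)
      obtain ⟨s, t, hst⟩ := hspan ⟨z, hz⟩
      have hz' : z = s • (a : V) + t • (b : V) := congrArg Subtype.val hst
      rcases (show i = 0 ∨ i = 1 by omega) with rfl | rfl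
      · rw [pow_zero, one_apply', one_apply', hz', map_add, map_smul, map_smul, ga, gb]
      · obtain ⟨s1, t1, h11⟩ := hea
        obtain ⟨s2, t2, h22⟩ := heb
        have hz2 : z = (s * s1 + t * s2) • (c : V) + (s * t1 + t * t2) • (e : V) := by
          rw [hz', ← congrArg Subtype.val h11, ← congrArg Subtype.val h22]
          simp only [Submodule.coe_add, Submodule.coe_smul]
          module
        rw [pow_one, one_apply', hz2]
        simp only [map_add, map_smul, gc, ge]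
    · have hex : ∀ z w : fixSub x, g ((z : V) + y (w : V)) = (z : V) + y (w : V) →
          g (z : V) = y (w : V) ∧ g (y (w : V)) = z := fun z w hzw => by
        rw [map_add, add_comm] at hzw
        obtain ⟨e1, e2⟩ := h.eigen_unique (by rw [hcm, hout, map_neg, neg_neg]) (hin z)
          (by rw [hcm, hin]) (hout w) hzw
        exact ⟨e2, e1⟩
      exact ⟨(hex a c hgv).1, (hex a c hgv).2, (hex b e hgu).1, (hex b e hgu).2⟩
  by_cases hf1 : Free2 H v u₁
  · exact ⟨v, u₁, hv0, hu₁0, hgen, horb1, hf1⟩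
  refine ⟨v, u₂, hv0, hu₂0, hgen, horb2, ?_⟩
  by_contra hf2
  simp only [Free2, not_forall, exists_prop] at hf1 hf2
  obtain ⟨g₁, hg₁, hg₁v, hg₁u, hg₁1⟩ := hf1
  obtain ⟨g₂, hg₂, hg₂v, hg₂u, hg₂1⟩ := hf2
  obtain ⟨-, i2, -, i4⟩ := hswap (-a) ⟨0, -1, by simp⟩ ⟨1, 1, by simp [hc]⟩
    g₁ hg₁ hg₁v hg₁u hg₁1
  obtain ⟨j1, -, j3, -⟩ := hswap b ⟨1, -1, by rw [hc]; simp⟩ ⟨0, 1, by simp⟩
    g₂ hg₂ hg₂v hg₂u hg₂1
  have k1 : (g₁ * g₂) (a : V) = a := by rw [mul_apply', j1, i2]
  have k2 : (g₁ * g₂) (b : V) = (b : V) + (1 : K) • (a : V) := by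
    rw [mul_apply', j3, show (b : V) = (c : V) + ((-a : fixSub x) : V) by
      rw [hc, Submodule.coe_add, Submodule.coe_neg]; abel, map_add, map_add, i2, i4, one_smul,
      add_comm]
    rw [show (c : V) + ((-a : fixSub x) : V) = (b : V) by
      rw [hc, Submodule.coe_add, Submodule.coe_neg]; abel]
  rcases hC.pow_fix (H.mul_mem hg₁ hg₂) k1 k2 with h2 | h2
  · exact one_ne_zero h2
  · exact ha0 (Subtype.ext h2)

end Split

end CfsgLib.CoprimeBase
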