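import Cfsg.Agent.Lib.CoprimeBase.Cert
import Cfsg.Agent.Lib.CoprimeBase.Fixed

/-!
Degree four over three elements, split type: a coprime group fixes one of the nine classes of
noncentral involutions.
-/

set_option autoImplicit false
set_option linter.style.haveILetI false
set_option synthInstance.maxSize 2000

namespace CfsgLib.CoprimeBase

universe u w

/-- The coordinates. -/
abbrev M9 : Fin 2 × Fin 2 × Fin 2 × Fin 2 × Fin 1 → (Fin 2 → Fin 2 → ZMod 3) →
    (Fin 2 → Fin 2 → ZMod 3) :=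
  extM 3 (extM 3 (lineM 3))

/-- The standard vectors. -/
def std9 (i j : Fin 2) : Fin 2 → Fin 2 → ZMod 3 := Pi.single i (Pi.single j 1)

/-- A noncentral involution. -/
abbrev Inv9 (k : Fin 2 × Fin 2 × Fin 2 × Fin 2 × Fin 1) : Prop :=
  k ≠ (0, 0, 0, 0, 0) ∧ ∀ i j, M9 k (M9 k (std9 i j)) = std9 i j

/-- Distinct commuting classes. -/
abbrev Adj9 (k l : Fin 2 × Fin 2 × Fin 2 × Fin 2 × Fin 1) : Prop :=
  k ≠ l ∧ ∀ i j, M9 k (M9 l (std9 i j)) = M9 l (M9 k (std9 i j))

theorem m9_zero : ∀ f, M9 (0, 0, 0, 0, 0) f = f := by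
  intro f
  funext a b
  simp [M9, extM, lineM, sgn]

theorem card_inv9 : Fintype.card {k // Inv9 k} = 9 := by decide +kernel

theorem card_adj9 : ∀ k : {k // Inv9 k}, Fintype.card {l : {k // Inv9 k} // Adj9 k.1 l.1} = 4 := by
  decide +kernel

theorem diam9 : ∀ k l : {k // Inv9 k}, l = k ∨ Adj9 k.1 l.1 ∨
    ∃ m : {k // Inv9 k}, Adj9 k.1 m.1 ∧ Adj9 m.1 l.1 := by
  decide +kernel

theorem exists_adj9 : ∀ k : {k // Inv9 k}, ∃ l : {k // Inv9 k}, Adj9 k.1 l.1 := by
  decide +kernel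

theorem inj9 : ∀ k l, ∀ s t : ZMod 3, (∀ i j, s • M9 k (std9 i j) = t • M9 l (std9 i j)) →
    k = l ∨ s = 0 := by
  decide +kernel

theorem inv9_of_square : ∀ k, ∀ s : ZMod 3, k ≠ (0, 0, 0, 0, 0) →
    (∀ i j, s • M9 k (s • M9 k (std9 i j)) = std9 i j) → Inv9 k ∧ (s = 1 ∨ s = -1) := by
  decide +kernel

theorem factorial_four {l : ℕ} (hl : l.Prime) (h5 : 5 ≤ l) : ¬ l ∣ Nat.factorial 4 := fun h =>
  absurd ((hl.dvd_factorial).1 h) (by omega)

variable {K : Type u} [Field K] {V : Type w} [AddCommGroup V] [Module K V]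

theorem Mdl.class_inv9 {E H : Subgroup (V ≃ₗ[K] V)} (hH : Norms H E)
    {Φ : V ≃+ (Fin 2 → Fin 2 → ZMod 3)} (hM : Mdl (p := 3) E M9 Φ) {a : V ≃ₗ[K] V} (ha : a ∈ H)
    {k : Fin 2 × Fin 2 × Fin 2 × Fin 2 × Fin 1} (hk : Inv9 k) :
    ∃ l, Inv9 l ∧ ∃ s : ZMod 3, (s = 1 ∨ s = -1) ∧
      ∀ f, coord Φ a (M9 k f) = s • M9 l (coord Φ a f) := by
  obtain ⟨l, s, hl⟩ := hM.exists_conj hH ha k
  have hback : ∀ f, coord Φ a (coord Φ a⁻¹ f) = f := fun f => by
    rw [← coord_mul, mul_inv_cancel, coord_apply, one_apply', AddEquiv.apply_symm_apply]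
  obtain ⟨g, -, hg⟩ := hM.exists_coord k
  have hsq : ∀ f, M9 k (M9 k f) = f := fun f => by
    rw [← hg, ← hg, ← coord_mul]
    exact pi_pi_ext (F := coord Φ (g * g)) (G := AddMonoidHom.id _)
      (fun i j => by rw [coord_mul, hg, hg]; exact hk.2 i j) f
  have hsq' : ∀ i j, s • M9 l (s • M9 l (std9 i j)) = std9 i j := fun i j => by
    have h1 := hl (M9 k (coord Φ a⁻¹ (std9 i j)))
    rwa [hsq, hl, hback, eq_comm] at h1
  have hl0 : l ≠ (0, 0, 0, 0, 0) := by
    rintro rfl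
    refine hk.1 ?_
    have e : ∀ i j, (1 : ZMod 3) • M9 k (std9 i j) = s • M9 (0, 0, 0, 0, 0) (std9 i j) := fun i j => by
      have h1 := congrArg (coord Φ a⁻¹) (hl (std9 i j))
      rw [← coord_mul, inv_mul_cancel, coord_apply, one_apply', AddEquiv.apply_symm_apply,
        m9_zero, map_zmod_smul, ← coord_mul, inv_mul_cancel, coord_apply, one_apply',
        AddEquiv.apply_symm_apply] at h1
      rw [one_smul, m9_zero]
      exact h1
    exact (inj9 _ _ _ _ e).resolve_right one_ne_zero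
  obtain ⟨hi, hs⟩ := inv9_of_square l s hl0 hsq'
  exact ⟨l, hi, s, hs, hl⟩

theorem Mdl.class_unique9 {Φ : V ≃+ (Fin 2 → Fin 2 → ZMod 3)} {a : V ≃ₗ[K] V}
    {k l l' : Fin 2 × Fin 2 × Fin 2 × Fin 2 × Fin 1} {s t : ZMod 3} (hs : s ≠ 0)
    (h1 : ∀ f, coord Φ a (M9 k f) = s • M9 l (coord Φ a f))
    (h2 : ∀ f, coord Φ a (M9 k f) = t • M9 l' (coord Φ a f)) : l = l' := by
  refine (inj9 l l' s t fun i j => ?_).resolve_right hs
  have h3 : coord Φ a (coord Φ a⁻¹ (std9 i j)) = std9 i j := by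
    rw [← coord_mul, mul_inv_cancel, coord_apply, one_apply', AddEquiv.apply_symm_apply]
  have e1 := h1 (coord Φ a⁻¹ (std9 i j))
  rw [h2, h3] at e1
  exact e1.symm

/-- A class fixed by the whole group. -/
theorem Mdl.exists_fixed9 [Finite V] [Finite K] (hK : Nat.card K = 3) {E H : Subgroup (V ≃ₗ[K] V)}
    (hH : Norms H E) (hC : Cop H) {Φ : V ≃+ (Fin 2 → Fin 2 → ZMod 3)}
    (hM : Mdl (p := 3) E M9 Φ) : ∃ k, Inv9 k ∧ ∀ a ∈ H, ∃ s : ZMod 3, (s = 1 ∨ s = -1) ∧
      ∀ f, coord Φ a (M9 k f) = s • M9 k (coord Φ a f) := by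
  classical
  haveI : Fact (Nat.Prime 3) := ⟨Nat.prime_three⟩
  haveI : Fact (Nat.Prime 2) := ⟨Nat.prime_two⟩
  haveI : Finite (V ≃ₗ[K] V) := Finite.of_injective _ DFunLike.coe_injective
  let S := {k // Inv9 k}
  have hne : ∀ {s : ZMod 3}, (s = 1 ∨ s = -1) → s ≠ 0 := by
    rintro s (rfl | rfl)
    · exact one_ne_zero
    · exact neg_ne_zero.2 one_ne_zero
  choose f hf σ hσ hfσ using fun (a : H) (k : S) => hM.class_inv9 hH a.2 k.2
  letI : MulAction H S :=
    { smul := fun a k => ⟨f a k, hf a k⟩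
      one_smul := fun k => by
        refine Subtype.ext (Mdl.class_unique9 (Φ := Φ) (hne (hσ 1 k)) (hfσ 1 k) (t := 1)
          (fun g => ?_))
        rw [one_smul, coord_apply, coord_apply, OneMemClass.coe_one, one_apply', one_apply',
          AddEquiv.apply_symm_apply, AddEquiv.apply_symm_apply]
      mul_smul := fun a b k => by
        refine Subtype.ext (Mdl.class_unique9 (Φ := Φ) (hne (hσ (a * b) k)) (hfσ (a * b) k)
          (t := σ b k * σ a ⟨f b k, hf b k⟩) (fun g => ?_))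
        show coord Φ ((a : V ≃ₗ[K] V) * (b : V ≃ₗ[K] V)) (M9 k.1 g) = _
        rw [coord_mul, hfσ b k, map_zmod_smul, hfσ a ⟨f b k, hf b k⟩, smul_smul]
        congr 2
        exact (coord_mul Φ _ _ g).symm }
  have hadj : ∀ (a : H) (k l : S), Adj9 k.1 l.1 → Adj9 (a • k).1 (a • l).1 := by
    intro a k l hkl
    refine ⟨fun e => hkl.1 ?_, fun i j => ?_⟩
    · exact congrArg Subtype.val (MulAction.injective a (Subtype.ext e : a • k = a • l))
    obtain ⟨g, -, hg⟩ := hM.exists_coord k.1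
    obtain ⟨g', -, hg'⟩ := hM.exists_coord l.1
    have hall : ∀ x, M9 k.1 (M9 l.1 x) = M9 l.1 (M9 k.1 x) := fun x => by
      rw [← hg, ← hg', ← coord_mul, ← hg, ← hg', ← coord_mul]
      exact pi_pi_ext (F := coord Φ (g * g')) (G := coord Φ (g' * g))
        (fun i j => by rw [coord_mul, coord_mul, hg', hg, hg', hg]; exact hkl.2 i j) x
    have h3 : coord Φ (a : V ≃ₗ[K] V) (coord Φ (a : V ≃ₗ[K] V)⁻¹ (std9 i j)) = std9 i j := by
      rw [← coord_mul, mul_inv_cancel, coord_apply, one_apply', AddEquiv.apply_symm_apply]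
    have h4 := congrArg (coord Φ (a : V ≃ₗ[K] V)) (hall (coord Φ (a : V ≃ₗ[K] V)⁻¹ (std9 i j)))
    rw [hfσ a k, hfσ a l, hfσ a l, hfσ a k, h3, hM.map_smul', hM.map_smul', smul_smul, smul_smul,
      mul_comm (σ a l)] at h4
    exact smul_right_injective _ (mul_ne_zero (hne (hσ a k)) (hne (hσ a l))) h4
  let G := (MulAction.toPermHom H S).range
  have hG2 : IsPGroup 2 G := by
    refine IsPGroup.of_card
      (Nat.eq_prime_pow_of_unique_prime_dvd Nat.card_pos.ne' fun {l} hl hld => ?_)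
    by_contra hl2
    haveI : Fact l.Prime := ⟨hl⟩
    have hlH : l ∣ Nat.card H := hld.trans (Subgroup.card_range_dvd _)
    rcases (show l = 3 ∨ 5 ≤ l by
      have := hl.two_le
      by_contra hh
      have : l = 4 := by omega
      exact absurd hl (by rw [this]; norm_num)) with rfl | h5
    · obtain ⟨b, hb⟩ := exists_prime_orderOf_dvd_card' 3 hlH
      haveI := charP_of_card hK
      have := hC b b.2
      rw [Subgroup.orderOf_coe, hb, ringChar.eq K 3] at this
      exact absurd this (by norm_num)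
    obtain ⟨π, hπ⟩ := exists_prime_orderOf_dvd_card' l hld
    have hπadj : ∀ k m : S, Adj9 k.1 m.1 → Adj9 ((π : Equiv.Perm S) k).1 ((π : Equiv.Perm S) m).1 := by
      obtain ⟨b, hb⟩ := π.2
      intro k m hkm
      rw [← hb]
      exact hadj b k m hkm
    have hπo : orderOf (π : Equiv.Perm S) = l := by rw [Subgroup.orderOf_coe, hπ]
    have hP : IsPGroup l (Subgroup.zpowers (π : Equiv.Perm S)) :=
      IsPGroup.of_card (n := 1) (by rw [Nat.card_zpowers, hπo, pow_one])
    obtain ⟨k₀, hk₀⟩ := hP.nonempty_fixed_point_of_prime_not_dvd_card S (by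
      rw [Nat.card_eq_fintype_card, card_inv9]
      intro h9
      have : l ∣ 3 := hl.dvd_of_dvd_pow (n := 2) h9
      exact absurd (Nat.le_of_dvd (by norm_num) this) (by omega))
    have hk₀' : (π : Equiv.Perm S) k₀ = k₀ :=
      hk₀ ⟨_, Subgroup.mem_zpowers (π : Equiv.Perm S)⟩
    have hstep : ∀ k : S, (π : Equiv.Perm S) k = k → ∀ m : S, Adj9 k.1 m.1 →
        (π : Equiv.Perm S) m = m := by
      intro k hk m hkm
      have hmem : ∀ x : S, Adj9 k.1 x.1 ↔ Adj9 k.1 ((π : Equiv.Perm S) x).1 := by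
        have hfin : Set.BijOn (π : Equiv.Perm S) {x | Adj9 k.1 x.1} {x | Adj9 k.1 x.1} := by
          have hmaps : Set.MapsTo (π : Equiv.Perm S) {x | Adj9 k.1 x.1} {x | Adj9 k.1 x.1} := by
            intro x hx
            have := hπadj k x hx
            rwa [hk] at this
          exact ((Set.toFinite _).injOn_iff_bijOn_of_mapsTo hmaps).1 (Equiv.injective _).injOn
        intro x
        refine ⟨fun hx => hfin.mapsTo hx, fun hx => ?_⟩
        obtain ⟨z, hz, e⟩ := hfin.surjOn hx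
        rwa [← (Equiv.injective _) e]
      let ρ : Equiv.Perm {x : S // Adj9 k.1 x.1} :=
        (π : Equiv.Perm S).subtypePerm fun x => (hmem x).symm
      have hρl : ρ ^ l = 1 := by
        rw [Equiv.Perm.subtypePerm_pow]
        refine Equiv.ext fun x => Subtype.ext ?_
        show ((π : Equiv.Perm S) ^ l) x.1 = x.1
        rw [← hπo, pow_orderOf_eq_one]
        rfl
      have hρ : ρ = 1 := by
        rw [← orderOf_eq_one_iff]
        rcases (Nat.dvd_prime hl).1 (orderOf_dvd_of_pow_eq_one hρl) with h | h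
        · exact h
        · exfalso
          have h24 := orderOf_dvd_natCard ρ
          rw [h, Nat.card_perm, Nat.card_eq_fintype_card, card_adj9] at h24
          exact factorial_four hl h5 h24
      exact congrArg Subtype.val (DFunLike.congr_fun hρ ⟨m, hkm⟩)
    have hall : (π : Equiv.Perm S) = 1 := Equiv.ext fun m => by
      rcases diam9 k₀ m with rfl | h | ⟨z, h1, h2⟩
      · exact hk₀'
      · exact hstep k₀ hk₀' m h
      · exact hstep z (hstep k₀ hk₀' z h1) m h2
    rw [hall, orderOf_one] at hπo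
    exact hl.one_lt.ne hπo
  obtain ⟨k, hk⟩ := hG2.nonempty_fixed_point_of_prime_not_dvd_card S (by
    rw [Nat.card_eq_fintype_card, card_inv9]; norm_num)
  refine ⟨k.1, k.2, fun a ha => ⟨σ ⟨a, ha⟩ k, hσ ⟨a, ha⟩ k, fun g => ?_⟩⟩
  have h1 : f ⟨a, ha⟩ k = k.1 :=
    congrArg Subtype.val (hk ⟨_, ⟨⟨a, ha⟩, rfl⟩⟩)
  have h2 := hfσ ⟨a, ha⟩ k g
  rwa [h1] at h2

/-- A free pair in general position in the monomial coordinates over three elements. -/
theorem good_nine [Finite V] [Finite K] [FiniteDimensional K V] (hK : Nat.card K = 3)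
    {E H : Subgroup (V ≃ₗ[K] V)} (hE : Op E) (hH : Norms H E) (hC : Cop H)
    {Φ : V ≃+ (Fin 2 → Fin 2 → ZMod 3)} (hM : Mdl (p := 3) E M9 Φ) : Good E H := by
  haveI : Fact (Nat.Prime 3) := ⟨Nat.prime_three⟩
  have hdim : Module.finrank K V = 4 := by
    have h1 := Module.natCard_eq_pow_finrank (K := K) (V := V)
    rw [Nat.card_congr Φ.toEquiv, hK] at h1
    refine (Nat.pow_right_injective (le_refl 2 |>.trans (by norm_num : 2 ≤ 3)) ?_).symm
    simp only
    rw [← h1]
    simp [Nat.card_eq_fintype_card]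
  haveI : Nontrivial V := Module.nontrivial_of_finrank_pos (R := K) (by omega)
  obtain ⟨k, hk, hfix⟩ := hM.exists_fixed9 hK hH hC
  obtain ⟨g, hg, hge⟩ := hM.exists_coord k
  have hgg : ∀ v, g (g v) = v := fun v => by
    have h1 : g * g = 1 := eq_one_of_coord (Φ := Φ) fun f =>
      pi_pi_ext (F := coord Φ (g * g)) (G := AddMonoidHom.id _)
        (fun i j => by rw [coord_mul, hge, hge]; exact hk.2 i j) f
    rw [← mul_apply', h1, one_apply']
  have hgscal : ∀ c : K, ¬ ∀ v, g v = c • v := by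
    intro c hc
    obtain ⟨s, hs⟩ := exists_smul (p := 3) hK Φ c
    refine hk.1 ((inj9 k _ 1 s fun i j => ?_).resolve_right one_ne_zero)
    rw [one_smul, m9_zero, ← hge, coord_apply, hc, hs, AddEquiv.apply_symm_apply]
  obtain ⟨x, y, ζ, hx, hxg⟩ := hE.split_of_root hg (fun ⟨c, hc⟩ => hgscal c hc) Nat.prime_two
    (μ := 1) fun v => by rw [pow_two, mul_apply', hgg, one_pow, one_smul]
  have hxe : x = g := LinearEquiv.ext fun v => by rw [hxg, inv_one, one_smul]
  subst hxe
  obtain ⟨⟨l, hl⟩, hkl⟩ := exists_adj9 ⟨k, hk⟩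
  obtain ⟨g', hg', hge'⟩ := hM.exists_coord l
  have hcomm : ∀ v, x (g' v) = g' (x v) := fun v => by
    have h1 : x * g' = g' * x := LinearEquiv.ext fun u => Φ.injective (by
      have := pi_pi_ext (F := coord Φ (x * g')) (G := coord Φ (g' * x))
        (fun i j => by rw [coord_mul, coord_mul, hge', hge, hge', hge]; exact hkl.2 i j) (Φ u)
      rwa [coord_apply, coord_apply, Φ.symm_apply_apply] at this)
    rw [← mul_apply', h1, mul_apply']
  obtain ⟨e, he, hge2⟩ := mem_restrict_of_maps hg' fun w hw => Split.maps_fixSub hcomm hw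
  have hens : ¬ IsScalar e := by
    rintro ⟨c, hc⟩
    obtain ⟨μ, i, hμ⟩ := hx.scalar_mul_pow hE hg' hcomm fun p hp hpx z hz => by
      have e1 : ∀ w : fixSub x, g' w = c • (w : V) := fun w => by rw [hge2, hc]; rfl
      rw [e1 ⟨p z, Split.maps_fixSub hpx hz⟩, e1 ⟨z, hz⟩, map_smul]
    obtain ⟨s, hs⟩ := exists_smul (p := 3) hK Φ μ
    rcases Nat.even_or_odd i with ⟨m, rfl⟩ | ⟨m, rfl⟩
    · refine hl.1 ((inj9 l _ 1 s fun a b => ?_).resolve_right one_ne_zero)
      rw [one_smul, m9_zero, ← hge', coord_apply, hμ, ← two_mul, pow_mul, hx.x_pow, one_pow,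
        one_apply', hs, AddEquiv.apply_symm_apply]
    · refine hkl.1 ((inj9 l _ 1 s fun a b => ?_).resolve_right one_ne_zero).symm
      rw [one_smul, ← hge', ← hge, coord_apply, coord_apply, hμ, pow_succ, pow_mul, hx.x_pow,
        one_pow, one_mul, hs]
  haveI : Nontrivial (fixSub x) := by
    obtain ⟨z₀, hz₀, hz₀0⟩ := Submodule.exists_mem_ne_zero_of_ne_bot hx.fixSub_ne_bot
    exact ⟨⟨⟨z₀, hz₀⟩, 0, fun e => hz₀0 (congrArg Subtype.val e)⟩⟩
  obtain ⟨x', y', ζ', hx', -⟩ := (hx.op_restrict hE).split_of_root he hens Nat.prime_two (μ := 1)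
    fun z => Subtype.ext (by
      rw [one_pow, one_smul, ← restrict_pow hge2, pow_two, mul_apply']
      have h1 : g' * g' = 1 := eq_one_of_coord (Φ := Φ) fun f =>
        pi_pi_ext (F := coord Φ (g' * g')) (G := AddMonoidHom.id _)
          (fun i j => by rw [coord_mul, hge', hge']; exact hl.2 i j) f
      rw [← mul_apply', h1, one_apply'])
  have h2 := hx.finrank_eq
  have h3 := hx'.finrank_eq
  refine hx.good_of_fixed hE hH hC hx' (by omega) fun a ha => ?_
  obtain ⟨s, hs, hsa⟩ := hfix a ha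
  have hkey : ∀ v, Φ (a (x v)) = s • Φ (x (a v)) := fun v => by
    have := hsa (Φ v)
    rw [← hge, ← hge] at this
    simpa [coord_apply] using this
  rcases hs with rfl | rfl
  · refine Or.inl fun v => Φ.injective ?_
    rw [hkey, one_smul]
  · refine Or.inr fun v => Φ.injective ?_
    rw [map_neg, hkey, neg_one_smul, neg_neg]

end CfsgLib.CoprimeBase
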