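import Cfsg.Agent.Lib.CoprimeBase.Five
import Cfsg.Agent.Lib.CoprimeBase.Eight
import Cfsg.Agent.Lib.CoprimeBase.Nine

/-!
Two vectors with trivial common stabiliser in a coprime group normalising an irreducible group of
operators with scalar commutators.
-/

set_option autoImplicit false
set_option linter.unusedSectionVars false
set_option linter.style.haveILetI false

namespace CfsgLib.CoprimeBase

universe u w

variable {K : Type u} [Field K] {V : Type w} [AddCommGroup V] [Module K V]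
variable {E H : Subgroup (V ≃ₗ[K] V)}

theorem pow_card_units [Finite K] {c : K} (hc : c ≠ 0) : c ^ (Nat.card K - 1) = 1 := by
  haveI := Fintype.ofFinite K
  rw [Nat.card_eq_fintype_card]
  exact FiniteField.pow_card_sub_one_eq_one c hc

theorem eq_two_of_root [Finite K] (hq : Nat.card K = 3 ∨ Nat.card K = 5) {r : ℕ} (hr : r.Prime)
    {c : K} (h1 : c ^ r = 1) (hne : c ≠ 1) : r = 2 := by
  haveI : Fact r.Prime := ⟨hr⟩
  have hc : c ≠ 0 := fun e => by rw [e, zero_pow hr.ne_zero] at h1; exact zero_ne_one h1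
  have hd : r ∣ Nat.card K - 1 := by
    rw [← orderOf_eq_prime h1 hne]
    exact orderOf_dvd_of_pow_eq_one (pow_card_units hc)
  rcases hq with e | e <;> rw [e] at hd
  · exact (Nat.prime_dvd_prime_iff_eq hr Nat.prime_two).1 hd
  · exact (Nat.prime_dvd_prime_iff_eq hr Nat.prime_two).1 (hr.dvd_of_dvd_pow (n := 2) hd)

theorem exists_nonscalar [FiniteDimensional K V] (hE : Op E) (h2 : 2 ≤ Module.finrank K V) :
    ∃ g ∈ E, ¬ IsScalar g := by
  haveI : Nontrivial V := Module.nontrivial_of_finrank_pos (R := K) (by omega)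
  by_contra hcon
  push Not at hcon
  obtain ⟨v, hv⟩ := exists_ne (0 : V)
  have htop := hE.irr (Submodule.span K {v}) (by simpa using hv) fun g hg w hw => by
    obtain ⟨c, hc⟩ := hcon g hg
    rw [hc]; exact Submodule.smul_mem _ _ hw
  have := finrank_span_singleton (K := K) hv
  rw [htop, finrank_top] at this
  omega

/-- A nonscalar element with scalar square. -/
theorem exists_sq_scalar [Finite K] [Finite V] [FiniteDimensional K V]
    (hq : Nat.card K = 3 ∨ Nat.card K = 5) (hE : Op E) (h2 : 2 ≤ Module.finrank K V) :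
    ∃ g ∈ E, ¬ IsScalar g ∧ ∃ d : K, d ≠ 0 ∧ ∀ v, g (g v) = d • v := by
  haveI : Nontrivial V := Module.nontrivial_of_finrank_pos (R := K) (by omega)
  obtain ⟨g₀, hg₀, hns⟩ := exists_nonscalar hE h2
  obtain ⟨r, m, hr, hxns, d, hd⟩ := exists_prime_power hns
  obtain ⟨y, -, c, hc1, hc⟩ := hE.exists_twist (E.pow_mem hg₀ m) hxns
  obtain ⟨v, hv⟩ := exists_ne (0 : V)
  have hd0 : d ≠ 0 := by
    rintro rfl
    exact hv (((g₀ ^ m) ^ r).map_eq_zero_iff.1 (by rw [hd, zero_smul]))
  have h1 := pow_apply_of_twist hc r v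
  rw [hd, hd, map_smul, smul_smul] at h1
  have hcr : c ^ r = 1 :=
    (mul_eq_right₀ hd0).1 (smul_left_injective K (fun e => hv (y.map_eq_zero_iff.1 e)) h1).symm
  obtain rfl := eq_two_of_root hq hr hcr hc1
  exact ⟨g₀ ^ m, E.pow_mem hg₀ m, hxns, d, hd0, fun w => by rw [← hd, pow_two, mul_apply']⟩

theorem sq_cases_three [Finite K] (hK : Nat.card K = 3) {d : K} (hd : d ≠ 0) :
    d = 1 ∨ d = -1 := by
  have := pow_card_units hd
  rw [hK] at this
  exact sq_eq_one_iff.1 this

theorem neg_one_square_five [Finite K] (hK : Nat.card K = 5) : IsSquare (-1 : K) := by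
  haveI : Fact (Nat.Prime 5) := ⟨by norm_num⟩
  haveI := charP_of_card hK
  refine ⟨2, ?_⟩
  have h5 : ((5 : ℕ) : K) = 0 := CharP.cast_eq_zero K 5
  push_cast at h5
  linear_combination -h5

theorem sq_of_nonsquare_five [Finite K] (hK : Nat.card K = 5) {d : K} (hd : ¬ IsSquare d) :
    d ^ 2 = -1 := by
  have hd0 : d ≠ 0 := fun e => hd (e ▸ IsSquare.zero)
  have := pow_card_units hd0
  rw [hK] at this
  rcases sq_eq_one_iff.1 (show (d ^ 2) ^ 2 = 1 by rw [← pow_mul]; exact this) with h | h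
  · exfalso
    rcases sq_eq_one_iff.1 h with rfl | rfl
    · exact hd IsSquare.one
    · exact hd (neg_one_square_five hK)
  · exact h

theorem isSquare_mul_five [Finite K] (hK : Nat.card K = 5) {d e : K} (hd : ¬ IsSquare d)
    (he : ¬ IsSquare e) : IsSquare (d * e) := by
  have h : (d * e) ^ 2 = 1 := by
    rw [mul_pow, sq_of_nonsquare_five hK hd, sq_of_nonsquare_five hK he]; norm_num
  rcases sq_eq_one_iff.1 h with h | h <;> rw [h]
  · exact IsSquare.one
  · exact neg_one_square_five hK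

namespace Split

variable {r : ℕ} {x y : V ≃ₗ[K] V} {ζ : K}

theorem commutes_of_restrict [Nontrivial V] (h : Split E r x y ζ) (hE : Op E) {g : V ≃ₗ[K] V}
    (hg : g ∈ E) (hmaps : ∀ z ∈ fixSub x, g z ∈ fixSub x) : ∀ v, x (g v) = g (x v) := by
  obtain ⟨z, hz, hz0⟩ := Submodule.exists_mem_ne_zero_of_ne_bot h.fixSub_ne_bot
  obtain ⟨c, hc⟩ := hE.comm x h.x_mem g hg
  have h1 : c = 1 := by
    refine smul_left_injective K (fun e1 => hz0 (g.map_eq_zero_iff.1 e1))
      (show c • g z = (1 : K) • g z from ?_)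
    have h2 := hc z
    rw [mem_fixSub.1 hz, mem_fixSub.1 (hmaps z hz)] at h2
    rw [one_smul]; exact h2.symm
  intro v
  rw [hc, h1, one_smul]

theorem nontrivial_fix [Nontrivial V] (h : Split E r x y ζ) : Nontrivial (fixSub x) := by
  obtain ⟨z, hz, hz0⟩ := Submodule.exists_mem_ne_zero_of_ne_bot h.fixSub_ne_bot
  exact ⟨⟨⟨z, hz⟩, 0, fun e => hz0 (congrArg Subtype.val e)⟩⟩

/-- A partner with scalar square. -/
theorem exists_two [Finite V] [Nontrivial V] (h : Split E 2 x y ζ) (hE : Op E) :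
    ∃ y', Split E 2 x y' ζ ∧ ∃ d : K, d ≠ 0 ∧ ∀ v, y' (y' v) = d • v := by
  haveI : Finite (V ≃ₗ[K] V) := Finite.of_injective _ DFunLike.coe_injective
  obtain ⟨k, n, hn, hkn⟩ := Nat.exists_eq_pow_mul_and_not_dvd (orderOf_pos y).ne' 2 (by norm_num)
  obtain ⟨d, hd⟩ := hE.scalar_of_pow_prime (E.pow_mem h.y_mem n) Nat.prime_two k
    (by rw [← pow_mul, mul_comm, ← hkn, pow_orderOf_eq_one]
        exact ⟨1, fun v => by rw [one_apply', one_smul]⟩)
  refine ⟨y ^ n, ⟨h.prime, h.x_mem, E.pow_mem h.y_mem n, h.zeta_pow, h.zeta_ne, h.x_pow, fun v => ?_⟩,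
    d, ?_, fun v => by rw [← hd, pow_two, mul_apply']⟩
  · rw [apply_pow_of_twist h.twist, h.zeta_two,
      (Nat.odd_iff.2 (Nat.two_dvd_ne_zero.1 hn)).neg_one_pow]
  · rintro rfl
    obtain ⟨v, hv⟩ := exists_ne (0 : V)
    exact hv (((y ^ n) ^ 2).map_eq_zero_iff.1 (by rw [hd, zero_smul]))

/-- Rescaling the partner. -/
theorem exists_sq_one_of_square [Finite V] [Nontrivial V] (h : Split E 2 x y ζ) (hE : Op E)
    {d : K} (hd0 : d ≠ 0) (hd : ∀ v, y (y v) = d • v) (hsq : IsSquare d) :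
    ∃ y', Split E 2 x y' ζ ∧ ∀ v, y' (y' v) = v := by
  obtain ⟨μ, rfl⟩ := hsq
  have hμ : μ ≠ 0 := fun e => hd0 (by rw [e, mul_zero])
  refine ⟨LinearEquiv.smulOfUnit (Units.mk0 μ⁻¹ (inv_ne_zero hμ)) * y,
    ⟨h.prime, h.x_mem, E.mul_mem (hE.scalar_mem _) h.y_mem, h.zeta_pow, h.zeta_ne, h.x_pow,
      fun v => ?_⟩, fun v => ?_⟩
  · simp only [mul_apply', smulUnit_apply, Units.val_mk0, map_smul, h.twist, smul_smul, mul_comm]
  · simp only [mul_apply', smulUnit_apply, Units.val_mk0, map_smul, hd, smul_smul]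
    rw [show μ⁻¹ * (μ * μ * μ⁻¹) = 1 by field_simp, one_smul]

theorem exists_sq_one_three [Finite K] [Finite V] [Nontrivial V] (hK : Nat.card K = 3)
    (h : Split E 2 x y ζ) (hE : Op E) : ∃ y', Split E 2 x y' ζ ∧ ∀ v, y' (y' v) = v := by
  obtain ⟨y', h', d, hd0, hd⟩ := h.exists_two hE
  rcases sq_cases_three hK hd0 with rfl | rfl
  · exact ⟨y', h', fun v => by rw [hd, one_smul]⟩
  · have hxx : ∀ v, x (x v) = v := fun v => by rw [← mul_apply', ← pow_two, h.x_pow, one_apply']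
    refine ⟨y' * x, ⟨h'.prime, h'.x_mem, E.mul_mem h'.y_mem h'.x_mem, h'.zeta_pow, h'.zeta_ne,
      h'.x_pow, fun v => ?_⟩, fun v => ?_⟩
    · rw [mul_apply', mul_apply', h'.twist]
    · rw [mul_apply', mul_apply', h'.twist, map_smul, hd, smul_smul, hxx, h'.zeta_two]
      simp

end Split

/-- In the small fields every split element has prime two. -/
theorem exists_split_two [Finite K] [Finite V] [FiniteDimensional K V]
    (hq : Nat.card K = 3 ∨ Nat.card K = 5) (hodd : ringChar K ≠ 2) (hE : Op E)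
    (h2 : 2 ≤ Module.finrank K V) :
    (∃ x y ζ, Split E 2 x y ζ) ∨ Quat E := by
  rcases hE.split_or_quat hodd h2 with ⟨r, x, y, ζ, h⟩ | hQ
  · obtain rfl := eq_two_of_root hq h.prime h.zeta_pow h.zeta_ne
    exact Or.inl ⟨x, y, ζ, h⟩
  · exact Or.inr hQ

theorem two_dvd_finrank [Finite K] [Finite V] [FiniteDimensional K V]
    (hq : Nat.card K = 3 ∨ Nat.card K = 5) (hodd : ringChar K ≠ 2) (hE : Op E)
    (h2 : 2 ≤ Module.finrank K V) : 2 ∣ Module.finrank K V := by
  rcases exists_split_two hq hodd hE h2 with ⟨x, y, ζ, h⟩ | hQ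
  · exact ⟨_, h.finrank_eq⟩
  · rw [hQ.finrank]

/-- Degree two over five elements with a nonsquare square. -/
theorem good_two_five [Finite K] [Finite V] [FiniteDimensional K V] (hK : Nat.card K = 5)
    (hodd : ringChar K ≠ 2) (hE : Op E) (hn : Module.finrank K V = 2) {g : V ≃ₗ[K] V} (hg : g ∈ E)
    {d : K} (hd : ¬ IsSquare d) (hgg : ∀ v, g (g v) = d • v) : Good E H := by
  haveI : Nontrivial V := Module.nontrivial_of_finrank_pos (R := K) (by omega)
  rcases exists_split_two (Or.inr hK) hodd hE hn.ge with ⟨x, y, ζ, h⟩ | hQ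
  swap
  · exact hQ.good hK.ge
  have h1 : Module.finrank K (fixSub x) = 1 := by have := h.finrank_eq; omega
  obtain ⟨v, hv, hv0⟩ := Submodule.exists_mem_ne_zero_of_ne_bot h.fixSub_ne_bot
  have hv' : (⟨v, hv⟩ : fixSub x) ≠ 0 := fun e => hv0 (congrArg Subtype.val e)
  have hyy : y (y v) ∈ fixSub x := by
    rw [mem_fixSub, h.twist, h.apply_y_fix hv, map_neg, h.zeta_two, neg_one_smul, neg_neg]
  obtain ⟨δ, hδ⟩ := h.scalar_line h1 hv hv0 hyy
  obtain ⟨j, hj, p, hp, hpx, rfl⟩ := h.decomp hE hg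
  obtain ⟨μ', hμ'⟩ := h.scalar_line h1 hv hv0 (Split.maps_fixSub hpx hv)
  obtain ⟨μ, i, hμ⟩ := h.eig_fix hE (h.gen_line h1 hv') hv' hp (c := μ') hμ'
  have hxi : (x ^ i) v = v := by simpa [one_apply'] using h.xpow_ypow i 0 hv
  rcases (show j = 0 ∨ j = 1 by omega) with rfl | rfl
  · refine absurd ⟨μ, ?_⟩ hd
    have h3 := hgg v
    rw [pow_zero, one_mul, show p v = μ • v by rw [hμ, hxi], map_smul,
      show p v = μ • v by rw [hμ, hxi], smul_smul] at h3
    exact (smul_left_injective K hv0 h3).symm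
  · have h3 := hgg v
    have hxiy : (x ^ i) (y v) = ζ ^ i • y v := by simpa [pow_one] using h.xpow_ypow i 1 hv
    rw [pow_one, mul_apply', mul_apply', hμ v, hxi, map_smul, map_smul, hμ (y v), hxiy, map_smul,
      map_smul, map_smul, hδ, smul_smul, smul_smul, smul_smul] at h3
    have h4 : d = μ * μ * ζ ^ i * δ := (smul_left_injective K hv0 h3).symm
    have hδns : ¬ IsSquare δ := fun hsq => hd (by
      rw [h4]
      refine ((IsSquare.mul_self μ).mul ?_).mul hsq
      rw [h.zeta_two]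
      exact (neg_one_square_five hK).pow i)
    refine h.good_base_two hE h1 hv hv0 hδ one_ne_zero ?_
    rw [one_pow, one_mul, sq_of_nonsquare_five hK hδns]
    intro e
    exact h.two_ne (by linear_combination -e)

/-- A split element commuting with an element of nonsquare square. -/
theorem exists_split_comm [Finite K] [Finite V] [FiniteDimensional K V] (hK : Nat.card K = 5)
    (hE : Op E) {x y : V ≃ₗ[K] V} {ζ : K} (h : Split E 2 x y ζ)
    (hm : 2 ≤ Module.finrank K (fixSub x)) {g : V ≃ₗ[K] V} (hg : g ∈ E) {d : K}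
    (hd : ¬ IsSquare d) (hgg : ∀ v, g (g v) = d • v) :
    ∃ (x₂ y₂ : V ≃ₗ[K] V) (ζ₂ : K), Split E 2 x₂ y₂ ζ₂ ∧ ∀ v, x₂ (g v) = g (x₂ v) := by
  have h0 := h.finrank_eq
  haveI : Nontrivial V := Module.nontrivial_of_finrank_pos (R := K) (by omega)
  have hd0 : d ≠ 0 := fun e => hd (e ▸ IsSquare.zero)
  obtain ⟨σ, hσ⟩ := hE.comm x h.x_mem g hg
  rcases eq_or_ne σ 1 with rfl | hσ1
  · exact ⟨x, y, ζ, h, fun v => by rw [hσ, one_smul]⟩
  obtain rfl : σ = -1 := neg_one_eq_of_sq ⟨1, fun v => by rw [h.x_pow, one_apply', one_smul]⟩ hσ1 hσ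
  haveI := h.nontrivial_fix
  obtain ⟨y₁, h₁, δ, hδ0, hδ⟩ := h.exists_two hE
  obtain ⟨e, he, hens, c, hc0, hee⟩ := exists_sq_scalar (Or.inr hK) (h.op_restrict hE) hm
  obtain ⟨p, hp, hpe⟩ := he
  have hpx : ∀ v, x (p v) = p (x v) := h.commutes_of_restrict hE hp fun z hz => by
    rw [hpe ⟨z, hz⟩]; exact (e ⟨z, hz⟩).2
  obtain ⟨z₀, hz₀, hz₀0⟩ := Submodule.exists_mem_ne_zero_of_ne_bot h.fixSub_ne_bot
  obtain ⟨κ, hκ⟩ := hE.comm p hp y₁ h₁.y_mem
  have hκ2 : κ * κ = 1 := by
    have h2 := apply_pow_of_twist hκ 2 z₀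
    rw [pow_two y₁, mul_apply', mul_apply', hδ, hδ, map_smul, smul_smul] at h2
    exact (mul_eq_right₀ hδ0).1
      ((smul_left_injective K (fun e1 => hz₀0 (p.map_eq_zero_iff.1 e1)) h2).trans (by ring)).symm
  have hpp : ∀ v, p (p v) = c • v := by
    have hfix : ∀ z ∈ fixSub x, p (p z) = c • z := fun z hz => by
      rw [hpe ⟨z, hz⟩, hpe, hee]; rfl
    have h1 : p * p = LinearEquiv.smulOfUnit (Units.mk0 c hc0) := h₁.ext_blocks fun i hi z hz => by
      rw [smulUnit_apply, Units.val_mk0, mul_apply']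
      rcases (show i = 0 ∨ i = 1 by omega) with rfl | rfl
      · rw [pow_zero, one_apply', hfix z hz]
      · rw [pow_one, hκ, map_smul, hκ, smul_smul, hκ2, one_smul, hfix z hz, map_smul]
    intro v
    rw [← mul_apply', h1, smulUnit_apply, Units.val_mk0]
  obtain ⟨κ', hκ'⟩ := hE.comm g hg p hp
  have hκ'2 : κ' * κ' = 1 := by
    have h2 := pow_apply_of_twist hκ' 2 z₀
    rw [pow_two g, mul_apply', mul_apply', hgg, hgg, map_smul, smul_smul] at h2
    exact (mul_eq_right₀ hd0).1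
      ((smul_left_injective K (fun e1 => hz₀0 (p.map_eq_zero_iff.1 e1)) h2).trans (by ring)).symm
  have hxx : ∀ v, x (x v) = v := fun v => by rw [← mul_apply', ← pow_two, h.x_pow, one_apply']
  have hgx : ∀ v, g (x v) = -x (g v) := fun v => by rw [hσ, neg_one_smul, neg_neg]
  -- a partner in the centraliser of both
  obtain ⟨P, hP, hPx, hPg, hPP, hPns⟩ : ∃ P ∈ E, (∀ v, x (P v) = P (x v)) ∧
      (∀ v, g (P v) = P (g v)) ∧ (∀ v, P (P v) = c • v) ∧ ¬ IsScalar P := by
    have hns : ¬ IsScalar p := fun ⟨t, ht⟩ => hens ⟨t, fun z => Subtype.ext (by rw [← hpe, ht]; rfl)⟩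
    rcases eq_or_ne κ' 1 with rfl | hne
    · exact ⟨p, hp, hpx, fun v => by rw [hκ', one_smul], hpp, hns⟩
    · obtain rfl : κ' = -1 := (mul_self_eq_one_iff.1 hκ'2).resolve_left hne
      refine ⟨x * p, E.mul_mem h.x_mem hp, fun v => ?_, fun v => ?_, fun v => ?_, ?_⟩
      · rw [mul_apply', mul_apply', hpx v]
      · rw [mul_apply', mul_apply', hgx, hκ', map_smul, neg_one_smul, neg_neg]
      · rw [mul_apply', mul_apply', ← hpx, hxx, hpp]
      · rintro ⟨t, ht⟩
        refine hens ⟨t, fun z => Subtype.ext ?_⟩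
        have h5 := ht (z : V)
        rw [mul_apply', hpx, mem_fixSub.1 z.2, hpe] at h5
        exact h5
  by_cases hcsq : IsSquare c
  · obtain ⟨μ, rfl⟩ := hcsq
    obtain ⟨x₂, y₂, ζ₂, h₂, hx₂⟩ := hE.split_of_root hP hPns Nat.prime_two (μ := μ) fun v => by
      rw [pow_two, mul_apply', hPP, pow_two]
    exact ⟨x₂, y₂, ζ₂, h₂, fun v => by rw [hx₂, hx₂, map_smul, hPg]⟩
  · obtain ⟨μ, hμ⟩ := isSquare_mul_five hK hd hcsq
    have hQns : ¬ IsScalar (g * P) := by
      rintro ⟨t, ht⟩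
      have h5 : x ((g * P) z₀) = -(g * P) (x z₀) := by
        rw [mul_apply', mul_apply', hσ, neg_one_smul, hPx]
      have hz : x z₀ = z₀ := hz₀
      rw [ht, hz, map_smul, hz, ht] at h5
      have h6 : (2 * t) • z₀ = 0 := by linear_combination (norm := module) h5
      rw [smul_eq_zero, or_iff_left hz₀0, mul_eq_zero, or_iff_right h.two_ne] at h6
      exact hz₀0 ((g * P).map_eq_zero_iff.1 (by rw [ht, h6, zero_smul]))
    obtain ⟨x₂, y₂, ζ₂, h₂, hx₂⟩ := hE.split_of_root (E.mul_mem hg hP) hQns Nat.prime_two (μ := μ)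
      fun v => by
        rw [pow_two, mul_apply', mul_apply', mul_apply', ← hPg, hgg, hPP, smul_smul, pow_two, ← hμ]
    exact ⟨x₂, y₂, ζ₂, h₂, fun v => by rw [hx₂, hx₂, map_smul, mul_apply', mul_apply', ← hPg]⟩

/-- Degree four over five elements, all squares of elements being squares. -/
theorem good_four_five [Finite K] [Finite V] [FiniteDimensional K V] (hK : Nat.card K = 5)
    (hodd : ringChar K ≠ 2) (hE : Op E) (hH : Norms H E) {x y : V ≃ₗ[K] V} {ζ : K}
    (h : Split E 2 x y ζ) (hm : Module.finrank K (fixSub x) = 2)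
    (hall : ∀ g ∈ E, ∀ d : K, (∀ v, g (g v) = d • v) → IsSquare d) : Good E H := by
  haveI : Fact (Nat.Prime 5) := ⟨by norm_num⟩
  have h0 := h.finrank_eq
  haveI : Nontrivial V := Module.nontrivial_of_finrank_pos (R := K) (by omega)
  haveI := h.nontrivial_fix
  obtain ⟨y₀, hy₀, d, hd0, hd⟩ := h.exists_two hE
  obtain ⟨y₁, h₁, hy₁⟩ := hy₀.exists_sq_one_of_square hE hd0 hd (hall y₀ hy₀.y_mem d hd)
  have hE' := h.op_restrict hE
  have hall' : ∀ e ∈ CoprimeBase.restrict E (fixSub x), ∀ c : K, c ≠ 0 → (∀ z, e (e z) = c • z) →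
      IsSquare c := by
    intro e he c hc0 hee
    obtain ⟨p, hp, hpe⟩ := he
    refine hall p hp c ?_
    obtain ⟨κ, hκ⟩ := hE.comm p hp y₁ h₁.y_mem
    obtain ⟨z₀, hz₀, hz₀0⟩ := Submodule.exists_mem_ne_zero_of_ne_bot h.fixSub_ne_bot
    have hκ2 : κ * κ = 1 := by
      have h2 := apply_pow_of_twist hκ 2 z₀
      rw [pow_two y₁, mul_apply', mul_apply', hy₁, hy₁] at h2
      refine (smul_left_injective K (fun e1 => hz₀0 (p.map_eq_zero_iff.1 e1)) ?_).symm
      show (1 : K) • p z₀ = (κ * κ) • p z₀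
      rw [one_smul, ← pow_two]; exact h2
    have hfix : ∀ z ∈ fixSub x, p (p z) = c • z := fun z hz => by
      rw [hpe ⟨z, hz⟩, hpe, hee]; rfl
    have h1 : p * p = LinearEquiv.smulOfUnit (Units.mk0 c hc0) := h₁.ext_blocks fun i hi z hz => by
      rw [smulUnit_apply, Units.val_mk0, mul_apply']
      rcases (show i = 0 ∨ i = 1 by omega) with rfl | rfl
      · rw [pow_zero, one_apply', hfix z hz]
      · rw [pow_one, hκ, map_smul, hκ, smul_smul, hκ2, one_smul, hfix z hz, map_smul]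
    intro v
    rw [← mul_apply', h1, smulUnit_apply, Units.val_mk0]
  rcases exists_split_two (Or.inr hK) hodd hE' hm.ge with ⟨x', y', ζ', h'⟩ | hQ
  swap
  · exfalso
    obtain ⟨e, he, hens, c, hc0, hee⟩ := exists_sq_scalar (Or.inr hK) hE' hm.ge
    obtain ⟨μ, rfl⟩ := hall' e he c hc0 hee
    obtain ⟨z, hz⟩ := exists_ne (0 : fixSub x)
    by_cases hz' : e z + μ • z = 0
    · exact hens (hQ.gen z hz e he (-μ) (by rw [neg_smul]; exact eq_neg_of_add_eq_zero_left hz'))
    · exact hens (hQ.gen _ hz' e he μ (by rw [map_add, map_smul, hee, smul_add, smul_smul, add_comm]))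
  obtain ⟨y₂, hy₂, d', hd'0, hd'⟩ := h'.exists_two hE'
  obtain ⟨y₃, h₃, hy₃⟩ :=
    hy₂.exists_sq_one_of_square hE' hd'0 hd' (hall' y₂ hy₂.y_mem d' hd'0 hd')
  have h1 : Module.finrank K (fixSub x') = 1 := by have := h'.finrank_eq; omega
  obtain ⟨Φ₀, hΦ₀⟩ := exists_mdl_line (E := CoprimeBase.restrict (CoprimeBase.restrict E (fixSub x))
    (fixSub x')) hK h1
  obtain ⟨Φ₁, hΦ₁⟩ := h₃.exists_mdl hK hE' (fun z _ => hy₃ z) hΦ₀
  obtain ⟨Φ₂, hΦ₂⟩ := h₁.exists_mdl hK hE (fun z _ => hy₁ z) hΦ₁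
  exact good_five hK hE hH hΦ₂

/-- Degree four over three elements of split type. -/
theorem good_four_three [Finite K] [Finite V] [FiniteDimensional K V] (hK : Nat.card K = 3)
    (hE : Op E) (hH : Norms H E) (hC : Cop H) {x y : V ≃ₗ[K] V} {ζ : K} (h : Split E 2 x y ζ)
    (hm : Module.finrank K (fixSub x) = 2) {x' y' : fixSub x ≃ₗ[K] fixSub x} {ζ' : K}
    (h' : Split (CoprimeBase.restrict E (fixSub x)) 2 x' y' ζ') : Good E H := by
  haveI : Fact (Nat.Prime 3) := ⟨Nat.prime_three⟩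
  have h0 := h.finrank_eq
  haveI : Nontrivial V := Module.nontrivial_of_finrank_pos (R := K) (by omega)
  haveI := h.nontrivial_fix
  have hE' := h.op_restrict hE
  have h1 : Module.finrank K (fixSub x') = 1 := by have := h'.finrank_eq; omega
  obtain ⟨y₁, h₁, hy₁⟩ := h.exists_sq_one_three hK hE
  obtain ⟨y₃, h₃, hy₃⟩ := h'.exists_sq_one_three hK hE'
  obtain ⟨Φ₀, hΦ₀⟩ := exists_mdl_line (E := CoprimeBase.restrict (CoprimeBase.restrict E (fixSub x))
    (fixSub x')) hK h1
  obtain ⟨Φ₁, hΦ₁⟩ := h₃.exists_mdl hK hE' (fun z _ => hy₃ z) hΦ₀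
  obtain ⟨Φ₂, hΦ₂⟩ := h₁.exists_mdl hK hE (fun z _ => hy₁ z) hΦ₁
  exact good_nine hK hE hH hC hΦ₂

/-- Degree eight over three elements. -/
theorem good_eight_three [Finite K] [Finite V] [FiniteDimensional K V] (hK : Nat.card K = 3)
    (hodd : ringChar K ≠ 2) (hE : Op E) (hH : Norms H E) (hC : Cop H) {x y : V ≃ₗ[K] V} {ζ : K}
    (h : Split E 2 x y ζ) (hm : Module.finrank K (fixSub x) = 4) : Good E H := by
  haveI : Fact (Nat.Prime 3) := ⟨Nat.prime_three⟩
  have h0 := h.finrank_eq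
  haveI : Nontrivial V := Module.nontrivial_of_finrank_pos (R := K) (by omega)
  haveI := h.nontrivial_fix
  have hE' := h.op_restrict hE
  rcases exists_split_two (Or.inl hK) hodd hE' (by omega) with ⟨x', y', ζ', h'⟩ | hQ
  swap
  · have := hQ.finrank
    omega
  have hm' : Module.finrank K (fixSub x') = 2 := by have := h'.finrank_eq; omega
  haveI := h'.nontrivial_fix
  have hE'' := h'.op_restrict hE'
  rcases exists_split_two (Or.inl hK) hodd hE'' hm'.ge with ⟨x'', y'', ζ'', h''⟩ | hQ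
  · exact h.good_step hE hH
      (good_four_three hK hE' (hH.restrict _) (hC.restrict _) h' hm' h'')
  · obtain ⟨y₁, h₁, hy₁⟩ := h.exists_sq_one_three hK hE
    obtain ⟨y₃, h₃, hy₃⟩ := h'.exists_sq_one_three hK hE'
    obtain ⟨Φ₀, hΦ₀⟩ := Quat.exists_mdl hE'' hQ hK
    obtain ⟨Φ₁, hΦ₁⟩ := h₃.exists_mdl hK hE' (fun z _ => hy₃ z) hΦ₀
    obtain ⟨Φ₂, hΦ₂⟩ := h₁.exists_mdl hK hE (fun z _ => hy₁ z) hΦ₁
    exact good_eight hK hE hH hC hΦ₂

theorem exists_scale [Finite K] (h7 : 7 ≤ Nat.card K) (d : K) (hd : d ≠ 0) :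
    ∃ t : K, t ≠ 0 ∧ (t ^ 2 * d) ^ 2 ≠ 1 := by
  by_cases h1 : d ^ 2 = 1
  · obtain ⟨g, hg⟩ := IsCyclic.exists_generator (α := Kˣ)
    refine ⟨g, g.ne_zero, fun e => ?_⟩
    rw [mul_pow, h1, mul_one, ← pow_mul, ← Units.val_pow_eq_pow_val, Units.val_eq_one] at e
    have h2 := Nat.le_of_dvd (by norm_num) (orderOf_dvd_of_pow_eq_one e)
    rw [orderOf_eq_card_of_forall_mem_zpowers hg, Nat.card_units] at h2
    omega
  · exact ⟨1, one_ne_zero, by rwa [one_pow, one_mul]⟩

/-- Free pairs in general position, outside a few small cases. -/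
theorem exists_good [Finite K] (hodd : ringChar K ≠ 2) : ∀ (n : ℕ) (V : Type w) [AddCommGroup V]
    [Module K V] [Finite V] [FiniteDimensional K V] (E H : Subgroup (V ≃ₗ[K] V)), Op E → Norms H E →
    Cop H → Module.finrank K V = n → 2 ≤ n →
    (7 ≤ Nat.card K ∨ (Nat.card K = 5 ∧ (4 ≤ n ∨
      ∃ g ∈ E, ∃ d : K, ¬ IsSquare d ∧ ∀ v, g (g v) = d • v)) ∨ (Nat.card K = 3 ∧ 8 ≤ n)) →
    Good E H := by
  intro n
  induction n using Nat.strong_induction_on with
  | _ n ih =>
  intro V _ _ _ _ E H hE hH hC hn h2 hcase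
  haveI : Nontrivial V := Module.nontrivial_of_finrank_pos (R := K) (by omega)
  rcases hcase with h7 | ⟨hK, h5⟩ | ⟨hK, h8⟩
  · rcases hE.split_or_quat hodd (by omega) with ⟨r, x, y, ζ, h⟩ | hQ
    swap
    · exact hQ.good (by omega)
    have hf := h.finrank_eq
    have hr := h.prime.two_le
    haveI := h.nontrivial_fix
    have hpos : 0 < Module.finrank K (fixSub x) := Module.finrank_pos
    rcases Nat.lt_or_ge (Module.finrank K (fixSub x)) 2 with h1 | h1
    · have h1' : Module.finrank K (fixSub x) = 1 := by omega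
      rcases Nat.lt_or_ge 2 r with hr2 | hr2
      · exact h.good_base_odd hE hH hodd hr2 h1'
      · obtain rfl : r = 2 := by omega
        obtain ⟨v, hv, hv0⟩ := Submodule.exists_mem_ne_zero_of_ne_bot h.fixSub_ne_bot
        have hyy : y (y v) ∈ fixSub x := by
          rw [mem_fixSub, h.twist, h.apply_y_fix hv, map_neg, h.zeta_two, neg_one_smul, neg_neg]
        obtain ⟨d, hd⟩ := h.scalar_line h1' hv hv0 hyy
        have hd0 : d ≠ 0 := fun e => hv0 (y.map_eq_zero_iff.1 (y.map_eq_zero_iff.1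
          (by rw [hd, e, zero_smul])))
        obtain ⟨t, ht0, ht⟩ := exists_scale h7 d hd0
        exact h.good_base_two hE h1' hv hv0 hd ht0 ht
    · refine h.good_step hE hH (ih _ ?_ _ _ _ (h.op_restrict hE) (hH.restrict _) (hC.restrict _)
        rfl h1 (Or.inl h7))
      rw [← hn, hf]
      exact lt_mul_left (by omega) (by omega)
  · by_cases hn2 : n = 2
    · obtain ⟨g, hg, d, hd, hgg⟩ := h5.resolve_left (by omega)
      exact good_two_five hK hodd hE (hn.trans hn2) hg hd hgg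
    rcases exists_split_two (Or.inr hK) hodd hE (by omega) with ⟨x, y, ζ, h⟩ | hQ
    swap
    · exact absurd (hn.symm.trans hQ.finrank) hn2
    have hf := h.finrank_eq
    haveI := h.nontrivial_fix
    have hE' := h.op_restrict hE
    have hpos : 0 < Module.finrank K (fixSub x) := Module.finrank_pos
    have hm2 : 2 ≤ Module.finrank K (fixSub x) := by omega
    have hev := two_dvd_finrank (Or.inr hK) hodd hE' hm2
    by_cases hm4 : 4 ≤ Module.finrank K (fixSub x)
    · exact h.good_step hE hH (ih _ (by omega) _ _ _ hE' (hH.restrict _) (hC.restrict _) rfl hm2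
        (Or.inr (Or.inl ⟨hK, Or.inl hm4⟩)))
    have hm : Module.finrank K (fixSub x) = 2 := by omega
    by_cases hall : ∀ g ∈ E, ∀ d : K, (∀ v, g (g v) = d • v) → IsSquare d
    · exact good_four_five hK hodd hE hH h hm hall
    simp only [not_forall, exists_prop] at hall
    obtain ⟨g, hg, d, hgg, hd⟩ := hall
    obtain ⟨x₂, y₂, ζ₂, h₂, hcomm⟩ := exists_split_comm hK hE h hm2 hg hd hgg
    have hf₂ := h₂.finrank_eq
    obtain ⟨e, he, hge⟩ := mem_restrict_of_maps hg fun w hw => Split.maps_fixSub hcomm hw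
    refine h₂.good_step hE hH (ih _ (by omega) _ _ _ (h₂.op_restrict hE) (hH.restrict _)
      (hC.restrict _) rfl (by omega)
      (Or.inr (Or.inl ⟨hK, Or.inr ⟨e, he, d, hd, fun z => Subtype.ext ?_⟩⟩)))
    rw [← hge, ← hge, hgg]; rfl
  · rcases exists_split_two (Or.inl hK) hodd hE (by omega) with ⟨x, y, ζ, h⟩ | hQ
    swap
    · have := hQ.finrank
      omega
    have hf := h.finrank_eq
    haveI := h.nontrivial_fix
    have hE' := h.op_restrict hE
    have hm2 : 2 ≤ Module.finrank K (fixSub x) := by omega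
    have hev := two_dvd_finrank (Or.inl hK) hodd hE' hm2
    by_cases hm8 : 8 ≤ Module.finrank K (fixSub x)
    · exact h.good_step hE hH (ih _ (by omega) _ _ _ hE' (hH.restrict _) (hC.restrict _) rfl hm2
        (Or.inr (Or.inr ⟨hK, hm8⟩)))
    by_cases hm4 : Module.finrank K (fixSub x) = 4
    · exact good_eight_three hK hodd hE hH hC h hm4
    exfalso
    -- then the fixed space has dimension six, whose half is odd
    rcases exists_split_two (Or.inl hK) hodd hE' hm2 with ⟨x', y', ζ', h'⟩ | hQ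
    · have hf' := h'.finrank_eq
      haveI := h'.nontrivial_fix
      have hev' := two_dvd_finrank (Or.inl hK) hodd (h'.op_restrict hE') (by omega)
      omega
    · have := hQ.finrank
      omega

/-- Two vectors fixed together by the identity only. -/
theorem exists_free_pair [Finite K] [Finite V] [FiniteDimensional K V] [Nontrivial V]
    (hE : Op E) (hH : Norms H E) (hC : Cop H) (hodd : ringChar K ≠ 2) :
    ∃ v u : V, v ≠ 0 ∧ Free2 H v u := by
  have hn0 : 0 < Module.finrank K V := Module.finrank_pos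
  by_cases hn : Module.finrank K V ≤ 2
  · let b := Module.finBasis K V
    refine ⟨b ⟨0, hn0⟩, b ⟨Module.finrank K V - 1, by omega⟩, b.ne_zero _, free2_of_span ?_⟩
    rw [eq_top_iff, ← b.span_eq]
    refine Submodule.span_mono ?_
    rintro _ ⟨i, rfl⟩
    rcases (show (i : ℕ) = 0 ∨ (i : ℕ) = Module.finrank K V - 1 by omega) with hi | hi
    · exact Or.inl (congrArg b (Fin.ext hi))
    · exact Or.inr (congrArg b (Fin.ext hi))
  haveI := Fintype.ofFinite K
  have hqodd : Nat.card K % 2 = 1 := by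
    rw [Nat.card_eq_fintype_card]
    exact FiniteField.odd_card_of_char_ne_two hodd
  have hq1 : 1 < Nat.card K := Finite.one_lt_card
  have hgood : Good E H → ∃ v u : V, v ≠ 0 ∧ Free2 H v u := fun ⟨v, u, hv, _, _, _, hf⟩ => ⟨v, u, hv, hf⟩
  rcases (show Nat.card K = 3 ∨ Nat.card K = 5 ∨ 7 ≤ Nat.card K by omega) with hK | hK | hK
  · rcases Nat.lt_or_ge (Module.finrank K V) 8 with hlt | hge
    swap
    · exact hgood (exists_good hodd _ V E H hE hH hC rfl (by omega) (Or.inr (Or.inr ⟨hK, hge⟩)))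
    rcases exists_split_two (Or.inl hK) hodd hE (by omega) with ⟨x, y, ζ, h⟩ | hQ
    swap
    · have := hQ.finrank
      omega
    have hf := h.finrank_eq
    haveI := h.nontrivial_fix
    have hE' := h.op_restrict hE
    have hev := two_dvd_finrank (Or.inl hK) hodd hE' (by omega)
    have hm : Module.finrank K (fixSub x) = 2 := by omega
    rcases exists_split_two (Or.inl hK) hodd hE' hm.ge with ⟨x', y', ζ', h'⟩ | hQ
    · exact hgood (good_four_three hK hE hH hC h hm h')
    · obtain ⟨v₀, hv₀⟩ := exists_ne (0 : fixSub x)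
      have hspan : ∃ u₀ : fixSub x, Submodule.span K {v₀, u₀} = ⊤ := by
        obtain ⟨u₀, -, hu₀⟩ := SetLike.exists_of_lt (show Submodule.span K {v₀} < ⊤ from
          lt_top_iff_ne_top.2 fun e => by
            have := finrank_span_singleton (K := K) hv₀
            rw [e, finrank_top] at this
            omega)
        have hli : LinearIndependent K ![v₀, u₀] := (LinearIndependent.pair_iff' hv₀).2 fun k hk =>
          hu₀ (Submodule.mem_span_singleton.2 ⟨k, hk⟩)
        refine ⟨u₀, ?_⟩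
        have h2 := hli.span_eq_top_of_card_eq_finrank (by rw [Fintype.card_fin, hm])
        rwa [Matrix.range_cons, Matrix.range_cons, Matrix.range_empty, Set.union_empty,
          Set.singleton_union] at h2
      obtain ⟨u₀, hu₀⟩ := hspan
      obtain ⟨v, u, hfr⟩ := h.exists_free2 hE hH hv₀ (hQ.gen v₀ hv₀) (free2_of_span hu₀)
      by_cases hv : v = 0
      · obtain ⟨w, hw⟩ := exists_ne (0 : V)
        exact ⟨w, u, hw, fun a ha _ h2 => hfr a ha (by rw [hv, map_zero]) h2⟩
      · exact ⟨v, u, hv, hfr⟩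
  · have hev := two_dvd_finrank (Or.inr hK) hodd hE (by omega)
    exact hgood (exists_good hodd _ V E H hE hH hC rfl (by omega)
      (Or.inr (Or.inl ⟨hK, Or.inl (by omega)⟩)))
  · exact hgood (exists_good hodd _ V E H hE hH hC rfl (by omega) (Or.inl hK))

end CfsgLib.CoprimeBase
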