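import Cfsg.Agent.Lib.OddBase.Imprimitive

/-!
Two-vector bases for coprime solvable actions on modules of odd order: the induction hypothesis.
-/

set_option autoImplicit false

namespace CfsgLib.CoprimeBase

open CfsgLib.OddBase

universe u

/-- Every completely reducible coprime solvable action on fewer than `N` vectors, an odd number,
has a base of two vectors. -/
def SmallBased2 (N : ℕ) : Prop :=
  ∀ (B : Type u) [Group B] [Finite B] [Group.IsSolvable B] (X : Type u) [AddCommGroup X] [Finite X]
    (σ : B →* AddMonoid.End X), Nat.card X < N → Odd (Nat.card X) →
    (Nat.card B).Coprime (Nat.card X) → CR σ → Based σ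

end CfsgLib.CoprimeBase
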