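import Cfsg.Agent.Lib.CoprimeBase.EightBasic

/-!
Degree eight over three elements: the first pair.
-/

set_option autoImplicit false
set_option linter.style.haveILetI false
set_option synthInstance.maxSize 2000

namespace CfsgLib.CoprimeBase

universe u w

/-- The first vector of a pair. -/
def v8a : Fin 2 → Fin 2 → Fin 2 → ZMod 3 := ![![![2, 2], ![0, 0]], ![![2, 1], ![2, 1]]]

/-- The second vector of a pair. -/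
def u8a : Fin 2 → Fin 2 → Fin 2 → ZMod 3 := ![![![0, 2], ![0, 2]], ![![2, 1], ![0, 1]]]

theorem v8a_ne : v8a ≠ 0 ∧ u8a ≠ 0 := by decide +kernel

theorem v8a_gen : ∀ k, ∀ s t : ZMod 3, s • M8 k v8a = t • v8a → k = (0, 0, 0, 0, 0, 0) ∨ s = 0 := by
  decide +kernel

theorem v8a_orbit : ∀ k, ∀ s t : ZMod 3, s • M8 k v8a = t • u8a → s = 0 := by decide +kernel

theorem v8a_rel0 :
    (1 : ZMod 3) • M8 (0, 0, 0, 1, 1, 0) ((1 : ZMod 3) • M8 (0, 0, 0, 1, 1, 0) v8a) = (2 : ZMod 3) • v8a ∧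
    (2 : ZMod 3) • M8 (1, 0, 1, 1, 1, 0) (u8a + (2 : ZMod 3) • v8a) = v8a + (1 : ZMod 3) • M8 (0, 0, 0, 1, 1, 0) v8a ∧
    (2 : ZMod 3) • M8 (1, 0, 1, 1, 1, 0) ((1 : ZMod 3) • M8 (0, 0, 0, 1, 1, 0) v8a) =
      (2 : ZMod 3) • ((1 : ZMod 3) • M8 (0, 0, 0, 1, 1, 0) ((2 : ZMod 3) • M8 (1, 0, 1, 1, 1, 0) v8a)) := by
  decide +kernel

theorem v8a_unique0 : ∀ k, ∀ s : ZMod 3, s • M8 k (s • M8 k v8a) = (2 : ZMod 3) • v8a →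
    ∀ k', ∀ t : ZMod 3, t • M8 k' (u8a + (2 : ZMod 3) • v8a) = v8a + s • M8 k v8a →
      t • M8 k' (s • M8 k v8a) = (2 : ZMod 3) • (s • M8 k (t • M8 k' v8a)) →
        k = (0, 0, 0, 1, 1, 0) ∧ (s = 1 ∨ s = -1) := by
  decide +kernel

theorem v8a_rel1 :
    (1 : ZMod 3) • M8 (0, 0, 1, 0, 0, 1) ((1 : ZMod 3) • M8 (0, 0, 1, 0, 0, 1) v8a) = (2 : ZMod 3) • v8a ∧
    (1 : ZMod 3) • M8 (1, 1, 1, 0, 1, 1) u8a = v8a + (1 : ZMod 3) • M8 (0, 0, 1, 0, 0, 1) v8a ∧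
    (1 : ZMod 3) • M8 (1, 1, 1, 0, 1, 1) ((1 : ZMod 3) • M8 (0, 0, 1, 0, 0, 1) v8a) =
      (2 : ZMod 3) • ((1 : ZMod 3) • M8 (0, 0, 1, 0, 0, 1) ((1 : ZMod 3) • M8 (1, 1, 1, 0, 1, 1) v8a)) := by
  decide +kernel

theorem v8a_unique1 : ∀ k, ∀ s : ZMod 3, s • M8 k (s • M8 k v8a) = (2 : ZMod 3) • v8a →
    ∀ k', ∀ t : ZMod 3, t • M8 k' u8a = v8a + s • M8 k v8a →
      t • M8 k' (s • M8 k v8a) = (2 : ZMod 3) • (s • M8 k (t • M8 k' v8a)) →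
        k = (0, 0, 1, 0, 0, 1) ∧ (s = 1 ∨ s = -1) := by
  decide +kernel

theorem v8a_rel2 :
    (1 : ZMod 3) • M8 (1, 0, 1, 0, 0, 1) ((1 : ZMod 3) • M8 (1, 0, 1, 0, 0, 1) v8a) = (2 : ZMod 3) • v8a ∧
    (1 : ZMod 3) • M8 (1, 1, 1, 0, 0, 1) (u8a + v8a) = v8a + (1 : ZMod 3) • M8 (1, 0, 1, 0, 0, 1) v8a ∧
    (1 : ZMod 3) • M8 (1, 1, 1, 0, 0, 1) ((1 : ZMod 3) • M8 (1, 0, 1, 0, 0, 1) v8a) =
      (2 : ZMod 3) • ((1 : ZMod 3) • M8 (1, 0, 1, 0, 0, 1) ((1 : ZMod 3) • M8 (1, 1, 1, 0, 0, 1) v8a)) := by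
  decide +kernel

theorem v8a_unique2 : ∀ k, ∀ s : ZMod 3, s • M8 k (s • M8 k v8a) = (2 : ZMod 3) • v8a →
    ∀ k', ∀ t : ZMod 3, t • M8 k' (u8a + v8a) = v8a + s • M8 k v8a →
      t • M8 k' (s • M8 k v8a) = (2 : ZMod 3) • (s • M8 k (t • M8 k' v8a)) →
        k = (1, 0, 1, 0, 0, 1) ∧ (s = 1 ∨ s = -1) := by
  decide +kernel

theorem v8a_relation : M8 (0, 0, 1, 0, 0, 1) u8a =
    M8 (0, 0, 1, 0, 0, 1) v8a + M8 (1, 0, 1, 0, 0, 1) v8a + (2 : ZMod 3) • M8 (0, 0, 0, 1, 1, 0) u8a := by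
  decide +kernel

theorem v8a_signs : ∀ r s t : ZMod 3, (r = 1 ∨ r = -1) → (s = 1 ∨ s = -1) → (t = 1 ∨ t = -1) →
    s • M8 (0, 0, 1, 0, 0, 1) u8a =
      s • M8 (0, 0, 1, 0, 0, 1) v8a + t • M8 (1, 0, 1, 0, 0, 1) v8a + (2 : ZMod 3) • (r • M8 (0, 0, 0, 1, 1, 0) u8a) →
    s = r ∧ t = r := by
  decide +kernel

/-- Coefficients of the standard vectors. -/
def c8a : Fin 2 → Fin 2 → Fin 2 → Fin 8 → ZMod 3 := ![![![![1, 2, 1, 1, 1, 0, 2, 2],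
    ![2, 0, 1, 1, 1, 2, 1, 1]], ![![0, 1, 0, 1, 1, 2, 0, 2],
    ![0, 2, 0, 0, 2, 2, 2, 2]]], ![![![1, 2, 2, 2, 2, 0, 0, 1],
    ![1, 0, 1, 0, 2, 2, 2, 2]], ![![1, 1, 2, 2, 1, 2, 0, 0],
    ![2, 2, 2, 0, 0, 2, 1, 2]]]]

/-- The possible nontrivial element of the stabiliser. -/
def t8a : (Fin 2 → Fin 2 → Fin 2 → ZMod 3) →+ (Fin 2 → Fin 2 → Fin 2 → ZMod 3) :=
  cols ![![![![![![2, 0], ![1, 1]], ![![2, 0], ![2, 2]]],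
    ![![![0, 1], ![2, 1]], ![![0, 1], ![1, 2]]]], ![![![![2, 1], ![0, 1]], ![![1, 2], ![0, 1]]],
    ![![![2, 2], ![1, 0]], ![![1, 1], ![1, 0]]]]], ![![![![![2, 0], ![2, 2]], ![![2, 0], ![1, 1]]],
    ![![![0, 1], ![1, 2]], ![![0, 1], ![2, 1]]]], ![![![![1, 2], ![0, 1]], ![![2, 1], ![0, 1]]],
    ![![![1, 1], ![1, 0]], ![![2, 2], ![1, 0]]]]]]

/-- The word combination of a standard vector, with sign `s` for each letter. -/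
def word8a (s : ZMod 3) (i j l : Fin 2) : Fin 2 → Fin 2 → Fin 2 → ZMod 3 :=
  c8a i j l 0 • v8a + c8a i j l 1 • u8a + c8a i j l 2 • (s • M8 (0, 0, 0, 1, 1, 0) v8a) +
    c8a i j l 3 • (s • M8 (0, 0, 1, 0, 0, 1) v8a) + c8a i j l 4 • (s • M8 (1, 0, 1, 0, 0, 1) v8a) +
    c8a i j l 5 • (s • M8 (0, 0, 0, 1, 1, 0) u8a) + c8a i j l 6 • (s • M8 (0, 0, 1, 0, 0, 1) (s • M8 (0, 0, 0, 1, 1, 0) v8a)) +
    c8a i j l 7 • (s • M8 (1, 0, 1, 0, 0, 1) (s • M8 (0, 0, 0, 1, 1, 0) v8a))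

theorem v8a_basis : ∀ i j l, word8a 1 i j l =
    (Pi.single i (Pi.single j (Pi.single l (1 : ZMod 3))) : Fin 2 → Fin 2 → Fin 2 → ZMod 3) ∧
    word8a (-1) i j l = t8a (Pi.single i (Pi.single j (Pi.single l 1))) := by
  decide +kernel

variable {K : Type u} [Field K] {V : Type w} [AddCommGroup V] [Module K V] in
/-- An element fixing the pair is the identity or the given one. -/
theorem stab8a {E H : Subgroup (V ≃ₗ[K] V)} (hH : Norms H E)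
    {Φ : V ≃+ (Fin 2 → Fin 2 → Fin 2 → ZMod 3)} (hM : Mdl (p := 3) E M8 Φ) {a : V ≃ₗ[K] V}
    (ha : a ∈ H) (hav : coord Φ a v8a = v8a) (hau : coord Φ a u8a = u8a) (hne : a ≠ 1) :
    ∀ f, coord Φ a f = t8a f := by
  haveI : Fact (Nat.Prime 3) := ⟨Nat.prime_three⟩
  obtain ⟨r0, hr0, hA0⟩ := hM.conj_sign hH ha hav (by rw [map_add, map_zmod_smul, hau, hav]) 2 2 (0, 0, 0, 1, 1, 0) (1, 0, 1, 1, 1, 0) 1 2
    one_ne_three.1 v8a_rel0.1 v8a_rel0.2.1 v8a_rel0.2.2 v8a_unique0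
  obtain ⟨r1, hr1, hA1⟩ := hM.conj_sign hH ha hav hau 2 2 (0, 0, 1, 0, 0, 1) (1, 1, 1, 0, 1, 1) 1 1
    one_ne_three.1 v8a_rel1.1 v8a_rel1.2.1 v8a_rel1.2.2 v8a_unique1
  obtain ⟨r2, hr2, hA2⟩ := hM.conj_sign hH ha hav (by rw [map_add, hau, hav]) 2 2 (1, 0, 1, 0, 0, 1) (1, 1, 1, 0, 0, 1) 1 1
    one_ne_three.1 v8a_rel2.1 v8a_rel2.2.1 v8a_rel2.2.2 v8a_unique2
  have h3 := congrArg (coord Φ a) v8a_relation
  simp only [map_add, map_zmod_smul, hA0, hA1, hA2, hav, hau] at h3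
  obtain ⟨e1, e2⟩ := v8a_signs r0 r1 r2 hr0 hr1 hr2 h3
  rw [e1] at hA1; rw [e2] at hA2
  have hbase : ∀ i j l, coord Φ a (word8a 1 i j l) = word8a r0 i j l := fun i j l => by
    simp only [word8a, one_smul, map_add, map_zmod_smul, hA0, hA1, hA2, hav, hau]
  rcases hr0 with rfl | rfl
  · refine absurd (eq_one_of_coord (Φ := Φ) fun f => ?_) hne
    refine pi_pi_pi_ext (F := coord Φ a) (G := AddMonoidHom.id _) (fun i j l => ?_) f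
    rw [AddMonoidHom.id_apply, ← (v8a_basis i j l).1, hbase]
  · intro f
    refine pi_pi_pi_ext (F := coord Φ a) (G := t8a) (fun i j l => ?_) f
    rw [← (v8a_basis i j l).2, ← hbase, (v8a_basis i j l).1]

end CfsgLib.CoprimeBase
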