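import Cfsg.Agent.Lib.CoprimeBase.Cert

/-!
Degree eight over three elements: the coordinates.
-/

set_option autoImplicit false
set_option linter.style.haveILetI false
set_option synthInstance.maxSize 2000

namespace CfsgLib.CoprimeBase

universe u w

/-- The coordinates. -/
abbrev M8 : Fin 2 × Fin 2 × Fin 2 × Fin 2 × Fin 2 × Fin 2 →
    (Fin 2 → Fin 2 → Fin 2 → ZMod 3) → (Fin 2 → Fin 2 → Fin 2 → ZMod 3) :=
  extM 3 (extM 3 quatM)

/-- The additive map with the given columns. -/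
def cols (c : Fin 2 → Fin 2 → Fin 2 → Fin 2 → Fin 2 → Fin 2 → ZMod 3) :
    (Fin 2 → Fin 2 → Fin 2 → ZMod 3) →+ (Fin 2 → Fin 2 → Fin 2 → ZMod 3) :=
  AddMonoidHom.mk' (fun f => ∑ i, ∑ j, ∑ l, f i j l • c i j l) fun f g => by
    simp only [Pi.add_apply, add_smul, Finset.sum_add_distrib]

theorem m8_zero : ∀ f, M8 (0, 0, 0, 0, 0, 0) f = f := by
  intro f
  funext a b
  simp [M8, extM, quatM, sgn]

theorem one_ne_three : (1 : ZMod 3) ≠ 0 ∧ (2 : ZMod 3) ≠ 0 := by decide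

end CfsgLib.CoprimeBase
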