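import Cfsg.Agent.Lib.CoprimeBase.Cert

/-!
Degree four over five elements.
-/

set_option autoImplicit false
set_option linter.style.haveILetI false
set_option synthInstance.maxSize 2000

namespace CfsgLib.CoprimeBase

universe u w

/-- The coordinates. -/
abbrev M5 : Fin 2 × Fin 2 × Fin 2 × Fin 2 × Fin 1 → (Fin 2 → Fin 2 → ZMod 5) →
    (Fin 2 → Fin 2 → ZMod 5) :=
  extM 5 (extM 5 (lineM 5))

/-- The first vector. -/
def v5 : Fin 2 → Fin 2 → ZMod 5 := ![![4, 1], ![4, 0]]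

/-- The second vector. -/
def u5 : Fin 2 → Fin 2 → ZMod 5 := ![![3, 0], ![2, 4]]

theorem two_ne_five : (2 : ZMod 5) ≠ 0 := by decide

theorem v5_ne : v5 ≠ 0 ∧ u5 ≠ 0 := by decide +kernel

theorem m5_zero : ∀ f, M5 (0, 0, 0, 0, 0) f = f := by
  intro f
  funext a b
  simp [M5, extM, lineM, sgn]

theorem m5_gen : ∀ k, ∀ s t : ZMod 5, s • M5 k v5 = t • v5 → k = (0, 0, 0, 0, 0) ∨ s = 0 := by
  decide +kernel

theorem m5_orbit : ∀ k, ∀ s t : ZMod 5, s • M5 k v5 = t • u5 → s = 0 := by decide +kernel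

theorem m5_first : (2 : ZMod 5) • M5 (0, 0, 0, 1, 0) ((2 : ZMod 5) • M5 (0, 0, 0, 1, 0) v5) = (4 : ZMod 5) • v5 ∧
    (4 : ZMod 5) • M5 (1, 1, 0, 0, 0) u5 = v5 + (2 : ZMod 5) • M5 (0, 0, 0, 1, 0) v5 ∧
    (4 : ZMod 5) • M5 (1, 1, 0, 0, 0) ((2 : ZMod 5) • M5 (0, 0, 0, 1, 0) v5) =
      (1 : ZMod 5) • ((2 : ZMod 5) • M5 (0, 0, 0, 1, 0) ((4 : ZMod 5) • M5 (1, 1, 0, 0, 0) v5)) := by
  decide +kernel

theorem m5_first_unique : ∀ k, ∀ s : ZMod 5, s • M5 k (s • M5 k v5) = (4 : ZMod 5) • v5 →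
    ∀ k', ∀ t : ZMod 5, t • M5 k' u5 = v5 + s • M5 k v5 →
      t • M5 k' (s • M5 k v5) = (1 : ZMod 5) • (s • M5 k (t • M5 k' v5)) →
        k = (0, 0, 0, 1, 0) ∧ (s = 2 ∨ s = -2) := by
  decide +kernel

theorem m5_second : (2 : ZMod 5) • M5 (0, 0, 1, 0, 0) ((2 : ZMod 5) • M5 (0, 0, 1, 0, 0) v5) = (4 : ZMod 5) • v5 ∧
    (4 : ZMod 5) • M5 (1, 0, 1, 0, 0) (v5 + u5) = v5 + (2 : ZMod 5) • M5 (0, 0, 1, 0, 0) v5 ∧
    (4 : ZMod 5) • M5 (1, 0, 1, 0, 0) ((2 : ZMod 5) • M5 (0, 0, 1, 0, 0) v5) =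
      (1 : ZMod 5) • ((2 : ZMod 5) • M5 (0, 0, 1, 0, 0) ((4 : ZMod 5) • M5 (1, 0, 1, 0, 0) v5)) := by
  decide +kernel

theorem m5_second_unique : ∀ k, ∀ s : ZMod 5, s • M5 k (s • M5 k v5) = (4 : ZMod 5) • v5 →
    ∀ k', ∀ t : ZMod 5, t • M5 k' (v5 + u5) = v5 + s • M5 k v5 →
      t • M5 k' (s • M5 k v5) = (1 : ZMod 5) • (s • M5 k (t • M5 k' v5)) →
        k = (0, 0, 1, 0, 0) ∧ (s = 2 ∨ s = -2) := by
  decide +kernel

/-- The only consistent signs are trivial. -/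
theorem m5_signs : ∀ σ τ : ZMod 5, (σ = 1 ∨ σ = -1) → (τ = 1 ∨ τ = -1) →
    τ • ((2 : ZMod 5) • M5 (0, 0, 1, 0, 0) v5) =
      v5 + (2 : ZMod 5) • u5 + (4 : ZMod 5) • (σ • ((2 : ZMod 5) • M5 (0, 0, 0, 1, 0) v5)) →
    σ = 1 ∧ τ = 1 := by
  decide +kernel

theorem m5_relation : (2 : ZMod 5) • M5 (0, 0, 1, 0, 0) v5 =
    v5 + (2 : ZMod 5) • u5 + (4 : ZMod 5) • ((2 : ZMod 5) • M5 (0, 0, 0, 1, 0) v5) := by
  decide +kernel

/-- The coefficients of the standard vectors. -/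
def c5 : Fin 2 → Fin 2 → Fin 4 → ZMod 5 :=
  ![![![1, 3, 3, 4], ![3, 0, 1, 0]], ![![1, 2, 3, 1], ![0, 2, 0, 4]]]

theorem m5_basis : ∀ i j, (Pi.single i (Pi.single j (1 : ZMod 5)) : Fin 2 → Fin 2 → ZMod 5) =
    c5 i j 0 • v5 + c5 i j 1 • u5 + c5 i j 2 • ((2 : ZMod 5) • M5 (0, 0, 0, 1, 0) v5) +
      c5 i j 3 • ((2 : ZMod 5) • M5 (0, 0, 0, 1, 0) u5) := by
  decide +kernel

variable {K : Type u} [Field K] {V : Type w} [AddCommGroup V] [Module K V]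

/-- A free pair in general position in the monomial coordinates over five elements. -/
theorem good_five [Finite K] (hK : Nat.card K = 5) {E H : Subgroup (V ≃ₗ[K] V)} (hE : Op E)
    (hH : Norms H E) {Φ : V ≃+ (Fin 2 → Fin 2 → ZMod 5)} (hM : Mdl (p := 5) E M5 Φ) :
    Good E H := by
  haveI : Fact (Nat.Prime 5) := ⟨by norm_num⟩
  refine ⟨Φ.symm v5, Φ.symm u5, fun e => v5_ne.1 (by simpa using congrArg Φ e),
    fun e => v5_ne.2 (by simpa using congrArg Φ e),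
    hM.gen hK hE m5_zero v5_ne.1 m5_gen, hM.orbit hK v5_ne.1 m5_orbit, fun a ha h1 h2 => ?_⟩
  have hav : coord Φ a v5 = v5 := by rw [coord_apply, h1, Φ.apply_symm_apply]
  have hau : coord Φ a u5 = u5 := by rw [coord_apply, h2, Φ.apply_symm_apply]
  obtain ⟨σ, hσ, hσA⟩ := hM.conj_sign hH ha hav hau 4 1 (0, 0, 0, 1, 0) (1, 1, 0, 0, 0) 2 4
    two_ne_five m5_first.1 m5_first.2.1 m5_first.2.2 m5_first_unique
  obtain ⟨τ, hτ, hτA⟩ := hM.conj_sign hH ha hav (by rw [map_add, hav, hau]) 4 1 (0, 0, 1, 0, 0)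
    (1, 0, 1, 0, 0) 2 4 two_ne_five m5_second.1 m5_second.2.1 m5_second.2.2 m5_second_unique
  have h3 := congrArg (coord Φ a) m5_relation
  simp only [map_add, map_zmod_smul, hσA, hτA, hav, hau] at h3
  rw [smul_comm (2 : ZMod 5) τ, smul_comm (2 : ZMod 5) σ] at h3
  obtain ⟨rfl, rfl⟩ := m5_signs σ τ hσ hτ h3
  refine eq_one_of_coord (Φ := Φ) fun f => ?_
  refine pi_pi_ext (F := coord Φ a) (G := AddMonoidHom.id _) (fun i j => ?_) f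
  rw [AddMonoidHom.id_apply, m5_basis i j]
  simp only [map_add, map_zmod_smul, hσA, hav, hau, one_smul]

end CfsgLib.CoprimeBase
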