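import Cfsg.Agent.Lib.CoprimeBase.Defs
import Cfsg.Agent.Lib.CoprimeBase.Colour
import Cfsg.Agent.Lib.TripleBase.Imprimitive

/-!
Coprime solvable actions preserving a decomposition of a module of odd order.
-/

set_option autoImplicit false
set_option linter.style.haveILetI false

open Subgroup

namespace CfsgLib.CoprimeBase

open CfsgLib.OddBase

universe u w

section

variable {A : Type u} [Group A] {V : Type w} [AddCommGroup V]

/-- An irreducible action on a nontrivial finite group has prime exponent. -/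
theorem exists_exponent_of_irr [Finite V] [Nontrivial V] {ρ : A →* AddMonoid.End V} (hirr : Irr ρ) :
    ∃ r, r.Prime ∧ (∀ v : V, r • v = 0) ∧ r ∣ Nat.card V := by
  obtain ⟨r, hr, hrd⟩ := Nat.exists_prime_and_dvd (Finite.one_lt_card (α := V)).ne'
  haveI := Fact.mk hr
  refine ⟨r, hr, ?_, hrd⟩
  let K : AddSubgroup V := (nsmulAddMonoidHom r : V →+ V).ker
  have hK : Inv ρ K := fun a v hv => by
    simp only [K, AddMonoidHom.mem_ker, nsmulAddMonoidHom_apply] at hv ⊢
    rw [← map_nsmul, hv, map_zero]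
  rcases hirr K hK with h | h
  · obtain ⟨v, hv⟩ := exists_prime_addOrderOf_dvd_card' r hrd
    have : v ∈ K := by
      simp only [K, AddMonoidHom.mem_ker, nsmulAddMonoidHom_apply]
      rw [← hv]; exact addOrderOf_nsmul_eq_zero v
    rw [h, AddSubgroup.mem_bot] at this
    rw [this, addOrderOf_zero] at hv
    exact absurd hv hr.one_lt.ne
  · intro v
    have : v ∈ K := by rw [h]; trivial
    exact this

/-- A base of two vectors gives as many free pairs in different orbits as the characteristic. -/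
theorem exists_shear_pairs [Finite A] [Nontrivial V] {ρ : A →* AddMonoid.End V} {r : ℕ} [Fact r.Prime]
    (hexp : ∀ v : V, r • v = 0) (hcop : (Nat.card A).Coprime r) (hb : Based ρ) :
    ∃ p : Fin r → V × V, (∀ i, Free ρ (p i)) ∧
      ∀ i j a, ρ a (p i).1 = (p j).1 → ρ a (p i).2 = (p j).2 → i = j := by
  obtain ⟨x, y, hx, hfree⟩ : ∃ x y : V, x ≠ 0 ∧ Free ρ (x, y) := by
    obtain ⟨⟨v, w⟩, h⟩ := hb
    rcases eq_or_ne v 0 with rfl | hv
    · rcases eq_or_ne w 0 with rfl | hw
      · obtain ⟨z, hz⟩ := exists_ne (0 : V)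
        exact ⟨z, 0, hz, fun a _ _ => h a (map_zero _) (map_zero _)⟩
      · exact ⟨w, 0, hw, fun a h1 h2 => h a h2 h1⟩
    · exact ⟨v, w, hv, h⟩
  refine ⟨fun i => (x, y + (i : ℕ) • x), fun i a h1 h2 => ?_, fun i j a h1 h2 => ?_⟩
  · simp only at h1 h2
    rw [map_add, map_nsmul, h1] at h2
    exact hfree a h1 (add_right_cancel h2)
  · simp only at h1 h2
    rw [map_add, map_nsmul, h1] at h2
    let k : ℕ := (j : ℕ) + (r - (i : ℕ))
    have hk : ρ a y = y + k • x := by
      have e : ((i : ℕ) + (r - (i : ℕ))) • x = 0 := by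
        rw [Nat.add_sub_cancel' i.2.le, hexp]
      calc ρ a y = ρ a y + ((i : ℕ) + (r - (i : ℕ))) • x := by rw [e, add_zero]
        _ = (ρ a y + (i : ℕ) • x) + (r - (i : ℕ)) • x := by rw [add_nsmul, add_assoc]
        _ = y + k • x := by rw [h2, add_assoc, ← add_nsmul]
    have hpow : ∀ n : ℕ, ρ (a ^ n) y = y + (n * k) • x := by
      intro n
      induction n with
      | zero => rw [pow_zero, map_one, zero_mul, zero_nsmul, add_zero]; rfl
      | succ n ih =>
        rw [pow_succ', apply_mul, ih, map_add, map_nsmul, h1, hk, add_assoc, ← add_nsmul]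
        congr 2
        ring
    have h := hpow (Nat.card A)
    rw [pow_card_eq_one', map_one, AddMonoid.End.coe_one, id_eq, left_eq_add,
      ← addOrderOf_dvd_iff_nsmul_eq_zero, addOrderOf_eq_prime (hexp x) hx] at h
    have hdvd : r ∣ k := hcop.symm.dvd_of_dvd_mul_left h
    obtain ⟨c, hc⟩ := hdvd
    have hi := i.2
    have hj := j.2
    have hc1 : c = 1 := by
      have hlo : 0 < r * c := by rw [← hc]; simp only [k]; omega
      have hhi : r * c < r * 2 := by rw [← hc]; simp only [k]; omega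
      have := Nat.lt_of_mul_lt_mul_left hhi
      have := Nat.pos_of_mul_pos_left hlo
      omega
    subst hc1
    refine Fin.ext ?_
    simp only [k] at hc
    omega

end

variable {A : Type u} [Group A] [Finite A] {V : Type u} [AddCommGroup V] [Finite V]

/-- An irreducible action with blocks indexed by a maximal subgroup. -/
theorem based_of_maximal [Group.IsSolvable A]
    {ρ : A →* AddMonoid.End V} (hirr : Irr ρ) (hodd : Odd (Nat.card V))
    (hcop : (Nat.card A).Coprime (Nat.card V)) (hsmall : SmallBased2.{u} (Nat.card V))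
    {M : Subgroup A} (hM : IsCoatom M) [Fintype (A ⧸ M)] (B : Blocks ρ (A ⧸ M)) : Based ρ := by
  classical
  set x₀ : A ⧸ M := ((1 : A) : A ⧸ M) with hx₀
  set V₀ : AddSubgroup V := (B.π x₀ : V →+ V).range with hV₀
  have hfix : ∀ h : M, (h : A) • x₀ = x₀ := by
    intro h
    rw [hx₀, MulAction.Quotient.smul_coe, QuotientGroup.eq]
    simpa [smul_eq_mul] using M.inv_mem h.2
  have hinv : Inv (ρ.comp M.subtype) V₀ := by
    rintro h _ ⟨v, rfl⟩
    refine ⟨ρ h v, ?_⟩
    have := B.apply_equiv (h : A) x₀ v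
    rw [hfix] at this
    exact this.symm
  have hmem₀ : ∀ v ∈ V₀, B.π x₀ v = v := by
    rintro _ ⟨v, rfl⟩
    exact DFunLike.congr_fun (B.idem x₀) v
  have hzero : ∀ v ∈ V₀, ∀ y, y ≠ x₀ → B.π y v = 0 := by
    rintro _ ⟨v, rfl⟩ y hy
    exact DFunLike.congr_fun (B.orth y x₀ hy) v
  -- representatives
  let t : A ⧸ M → A := fun x => x.out
  have ht : ∀ x, t x • x₀ = x := by
    intro x
    rw [hx₀, MulAction.Quotient.smul_coe, smul_eq_mul, mul_one]
    exact Quotient.out_eq x
  -- irreducible on the block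
  have hirr₀ : Irr (res (ρ.comp M.subtype) V₀ hinv) := by
    intro U hU
    let T : AddSubgroup V :=
      { carrier := {v | ∀ x, ∃ u ∈ U, (u : V) = ρ (t x)⁻¹ (B.π x v)}
        zero_mem' := fun x => ⟨0, U.zero_mem, by simp⟩
        add_mem' := fun {v w} hv hw x => by
          obtain ⟨a, ha, ha'⟩ := hv x
          obtain ⟨b, hb, hb'⟩ := hw x
          exact ⟨a + b, U.add_mem ha hb, by rw [map_add, map_add, AddSubgroup.coe_add, ha', hb']⟩
        neg_mem' := fun {v} hv x => by
          obtain ⟨a, ha, ha'⟩ := hv x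
          exact ⟨-a, U.neg_mem ha, by rw [map_neg, map_neg, AddSubgroup.coe_neg, ha']⟩ }
    have hT : Inv ρ T := by
      intro a v hv x
      obtain ⟨u, hu, hu'⟩ := hv (a⁻¹ • x)
      have hh : (t x)⁻¹ * a * t (a⁻¹ • x) ∈ M := by
        have h1 : ((t x)⁻¹ * a * t (a⁻¹ • x)) • x₀ = x₀ := by
          rw [mul_smul, mul_smul, ht, smul_inv_smul, inv_smul_eq_iff, ht]
        rw [hx₀, MulAction.Quotient.smul_coe, QuotientGroup.eq, smul_eq_mul, mul_one, mul_one] at h1
        exact inv_mem_iff.1 h1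
      refine ⟨res (ρ.comp M.subtype) V₀ hinv ⟨_, hh⟩ u, hU _ u hu, ?_⟩
      show ρ ((t x)⁻¹ * a * t (a⁻¹ • x)) (u : V) = _
      have e := B.apply_equiv a (a⁻¹ • x) v
      rw [smul_inv_smul] at e
      rw [apply_mul, hu', apply_apply_inv, apply_mul, e]
    rcases hirr T hT with h | h
    · left
      rw [eq_bot_iff]
      intro u hu
      have hmem : (u : V) ∈ T := by
        intro x
        rcases eq_or_ne x x₀ with rfl | hx
        · have hh : t x₀ ∈ M := by
            have h1 := ht x₀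
            rw [hx₀, MulAction.Quotient.smul_coe, QuotientGroup.eq, smul_eq_mul, mul_one, mul_one] at h1
            exact inv_mem_iff.1 h1
          refine ⟨res (ρ.comp M.subtype) V₀ hinv ⟨_, M.inv_mem hh⟩ u, hU _ u hu, ?_⟩
          rw [hmem₀ _ u.2]; rfl
        · exact ⟨0, U.zero_mem, by rw [hzero _ u.2 x hx]; simp⟩
      rw [h, AddSubgroup.mem_bot] at hmem
      exact AddSubgroup.mem_bot.2 (Subtype.ext hmem)
    · right
      rw [eq_top_iff]
      intro v _
      have hh : (t x₀)⁻¹ ∈ M := by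
        have h1 := ht x₀
        rw [hx₀, MulAction.Quotient.smul_coe, QuotientGroup.eq, smul_eq_mul, mul_one, mul_one] at h1
        exact h1
      have hv : ρ (t x₀) (v : V) ∈ T := by rw [h]; trivial
      obtain ⟨u, hu, hu'⟩ := hv x₀
      have hin : ρ (t x₀) (v : V) ∈ V₀ := hinv ⟨_, inv_mem_iff.1 hh⟩ _ v.2
      rw [hmem₀ _ hin, apply_inv_apply] at hu'
      have : u = v := Subtype.ext hu'
      rw [← this]; exact hu
  have hVne : Nontrivial V₀ := by
    rw [AddSubgroup.nontrivial_iff_ne_bot]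
    intro h
    refine B.ne_zero x₀ (AddMonoidHom.ext fun v => ?_)
    have h1 : B.π x₀ v ∈ V₀ := ⟨v, rfl⟩
    rw [h, AddSubgroup.mem_bot] at h1
    exact h1
  have hidx2 : ∃ y : A ⧸ M, y ≠ x₀ := by
    by_contra hcon
    push Not at hcon
    refine hM.1 (eq_top_iff.2 fun a _ => ?_)
    have := hcon (a : A ⧸ M)
    rw [hx₀, QuotientGroup.eq, mul_one] at this
    exact inv_mem_iff.1 this
  have hlt0 : Nat.card V₀ < Nat.card V := by
    refine lt_of_le_of_ne (Nat.card_le_card_of_injective _ Subtype.val_injective) fun e => ?_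
    obtain ⟨y, hy⟩ := hidx2
    refine B.ne_zero y (AddMonoidHom.ext fun v => ?_)
    have hv : B.π y v ∈ V₀ := (AddSubgroup.eq_top_of_card_eq V₀ e).symm ▸ trivial
    have := hzero _ hv y hy
    rw [show B.π y (B.π y v) = B.π y v from DFunLike.congr_fun (B.idem y) v] at this
    exact this
  -- free pairs of the block
  have hdvd0 : Nat.card V₀ ∣ Nat.card V := AddSubgroup.card_addSubgroup_dvd_card V₀
  have hb₀ : Based (res (ρ.comp M.subtype) V₀ hinv) := hsmall M V₀ _ hlt0 (hodd.of_dvd_nat hdvd0)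
    ((hcop.coprime_dvd_left (Subgroup.card_subgroup_dvd_card M)).coprime_dvd_right hdvd0) hirr₀.cr
  obtain ⟨r, hr, hrexp, hrd⟩ := exists_exponent_of_irr hirr₀
  haveI := Fact.mk hr
  have hMr : (Nat.card M).Coprime r :=
    (hcop.coprime_dvd_left (Subgroup.card_subgroup_dvd_card M)).coprime_dvd_right (hrd.trans hdvd0)
  obtain ⟨p₀, hp₀, hpq₀⟩ := exists_shear_pairs hrexp hMr hb₀
  -- a colouring with no more colours than pairs
  obtain ⟨n, hn, col, hcol⟩ : ∃ n, n ≤ r ∧ ∃ col : A ⧸ M → Fin n,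
      ∀ a : A, (∀ x, col (a • x) = col x) → ∀ x : A ⧸ M, a • x = x := by
    rcases Nat.lt_or_ge r 5 with h5 | h5
    · have hr3 : r = 3 := by
        have h2 := hr.two_le
        obtain ⟨k, hk⟩ := hodd.of_dvd_nat (hrd.trans hdvd0)
        omega
      subst hr3
      have h3 : ¬ 3 ∣ Nat.card A := (Nat.Prime.coprime_iff_not_dvd hr).1
        ((hcop.coprime_dvd_right (hrd.trans hdvd0)).symm)
      exact ⟨3, le_rfl, exists_three_colouring h3 hM⟩
    · exact ⟨5, h5, TripleBase.exists_colouring hM⟩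
  let c : A ⧸ M → V₀ × V₀ := fun x => p₀ (Fin.castLE hn (col x))
  have hproj : ∀ (c : A ⧸ M → V₀) (y : A ⧸ M),
      B.π y (∑ x, ρ (t x) (c x : V)) = ρ (t y) (c y : V) := by
    intro c y
    rw [map_sum, Finset.sum_eq_single y]
    · have := B.apply_equiv (t y) x₀ (c y : V)
      rw [ht, hmem₀ _ (c y).2] at this
      exact this.symm
    · intro x _ hx
      have := B.apply_equiv (t x) x₀ (c x : V)
      rw [ht, hmem₀ _ (c x).2] at this
      rw [this]
      exact DFunLike.congr_fun (B.orth y x hx.symm) _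
    · intro h; exact absurd (Finset.mem_univ y) h
  refine ⟨(∑ x, ρ (t x) ((c x).1 : V), ∑ x, ρ (t x) ((c x).2 : V)), fun a h1 h2 => ?_⟩
  -- the element of `M` carrying colour to colour
  have hh : ∀ x, (t (a • x))⁻¹ * a * t x ∈ M := fun x => by
    have h1 : ((t (a • x))⁻¹ * a * t x) • x₀ = x₀ := by
      rw [mul_smul, mul_smul, ht, inv_smul_eq_iff, ht]
    rw [hx₀, MulAction.Quotient.smul_coe, QuotientGroup.eq, smul_eq_mul, mul_one, mul_one] at h1
    exact inv_mem_iff.1 h1
  have hstep : ∀ (f : V₀ × V₀ → V₀), ρ a (∑ x, ρ (t x) (f (c x) : V)) = ∑ x, ρ (t x) (f (c x) : V) →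
      ∀ x, res (ρ.comp M.subtype) V₀ hinv ⟨_, hh x⟩ (f (c x)) = f (c (a • x)) := by
    intro f hf x
    apply Subtype.ext
    have e := B.apply_equiv a x (∑ x, ρ (t x) (f (c x) : V))
    rw [hf, hproj (fun x => f (c x)), hproj (fun x => f (c x))] at e
    show ρ ((t (a • x))⁻¹ * a * t x) _ = _
    rw [apply_mul, apply_mul]
    show ρ _ (ρ a (ρ (t x) ((f (c x) : V₀) : V))) = _
    rw [e, apply_inv_apply]
  have e1 := hstep Prod.fst h1
  have e2 := hstep Prod.snd h2
  have hax := hcol a fun x => (Fin.castLE_injective hn (hpq₀ _ _ _ (e1 x) (e2 x))).symm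
  refine AddMonoidHom.ext fun v => ?_
  show ρ a v = v
  conv_lhs => rw [← B.sum_apply v, map_sum]
  conv_rhs => rw [← B.sum_apply v]
  refine Finset.sum_congr rfl fun x _ => ?_
  have hw : ρ (t x)⁻¹ (B.π x v) ∈ V₀ := by
    refine ⟨ρ (t x)⁻¹ v, ?_⟩
    have := B.apply_equiv (t x)⁻¹ x v
    rw [show (t x)⁻¹ • x = x₀ from inv_smul_eq_iff.2 (ht x).symm] at this
    exact this.symm
  have h3 : res (ρ.comp M.subtype) V₀ hinv ⟨_, hh x⟩ = 1 :=
    hp₀ (Fin.castLE hn (col x)) _ ((e1 x).trans (by rw [hax])) ((e2 x).trans (by rw [hax]))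
  have h4 : ρ ((t (a • x))⁻¹ * a * t x) (ρ (t x)⁻¹ (B.π x v)) = ρ (t x)⁻¹ (B.π x v) :=
    congrArg Subtype.val (DFunLike.congr_fun h3 (⟨_, hw⟩ : V₀))
  rw [hax, apply_mul, apply_apply_inv, apply_mul] at h4
  exact apply_injective ρ _ h4

/-- An irreducible action with a nontrivial decomposition. -/
theorem based_of_blocks {A : Type u} [Group A] [Finite A] [Group.IsSolvable A] {V : Type u}
    [AddCommGroup V] [Finite V] {ρ : A →* AddMonoid.End V} (hirr : Irr ρ) (hodd : Odd (Nat.card V))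
    (hcop : (Nat.card A).Coprime (Nat.card V)) (hsmall : SmallBased2.{u} (Nat.card V))
    {ι : Type u} [Fintype ι] [MulAction A ι] (B : Blocks ρ ι) (hcard : ∃ i j : ι, i ≠ j) :
    Based ρ := by
  classical
  obtain ⟨i, j, hij⟩ := hcard
  have hne : MulAction.stabilizer A i ≠ ⊤ := fun e => by
    obtain ⟨a, ha⟩ := B.transitive hirr i j
    have : a ∈ MulAction.stabilizer A i := by rw [e]; exact mem_top a
    exact hij ((MulAction.mem_stabilizer_iff.1 this).symm.trans ha)
  obtain ⟨M, hM, hle⟩ := (eq_top_or_exists_le_coatom (MulAction.stabilizer A i)).resolve_left hne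
  haveI : Fintype (A ⧸ M) := Fintype.ofFinite _
  exact based_of_maximal hirr hodd hcop hsmall hM (B.coarsen hirr i M hle)

end CfsgLib.CoprimeBase
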