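import Cfsg.Agent.Lib.CoprimeBase.Quasi
import Cfsg.Agent.Lib.CoprimeBase.Imprimitive
import Cfsg.Agent.Lib.Coprime85.Invariant

/-!
Two-vector bases for coprime solvable groups acting on modules of odd prime exponent.
-/

set_option autoImplicit false
set_option linter.style.haveILetI false

open Subgroup

namespace CfsgLib.CoprimeBase

open CfsgLib.OddBase

universe u w

/-- It suffices to treat irreducible actions on modules whose order divides the given one. -/
theorem based_of_irr_dvd {A : Type u} [Group A] [Finite A] {N : ℕ}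
    (hirr : ∀ (X : Type w) [AddCommGroup X] [Finite X] (σ : A →* AddMonoid.End X),
      Nat.card X ∣ N → Irr σ → Based σ) :
    ∀ (V : Type w) [AddCommGroup V] [Finite V] (ρ : A →* AddMonoid.End V),
      Nat.card V ∣ N → CR ρ → Based ρ := by
  suffices H : ∀ m, ∀ (V : Type w) [AddCommGroup V] [Finite V] (ρ : A →* AddMonoid.End V),
      Nat.card V = m → m ∣ N → CR ρ → Based ρ from fun V _ _ ρ hn hc => H _ V ρ rfl hn hc
  intro m
  induction m using Nat.strong_induction_on with
  | _ m IH =>
  intro V _ _ ρ hm hn hc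
  by_cases hi : Irr ρ
  · exact hirr V ρ (hm ▸ hn) hi
  · simp only [Irr, not_forall] at hi
    obtain ⟨U, hU, hne⟩ := hi
    rw [not_or] at hne
    obtain ⟨W, hW, hinf, hsup⟩ := hc U hU
    have hlt : ∀ X : AddSubgroup V, X ≠ ⊤ → Nat.card X < m := fun X hX => by
      refine lt_of_le_of_ne (hm ▸ Nat.card_le_card_of_injective _ Subtype.val_injective) fun e => ?_
      exact hX (AddSubgroup.eq_top_of_card_eq X (e.trans hm.symm))
    have hdvd : ∀ X : AddSubgroup V, Nat.card X ∣ N := fun X =>
      (AddSubgroup.card_addSubgroup_dvd_card X).trans (hm ▸ hn)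
    have hWt : W ≠ ⊤ := fun e => hne.1 (by rw [e, inf_top_eq] at hinf; exact hinf)
    obtain ⟨⟨u₁, u₂⟩, hu⟩ := IH _ (hlt U hne.2) U (res ρ U hU) rfl (hdvd U) (hc.res U hU)
    obtain ⟨⟨w₁, w₂⟩, hw⟩ := IH _ (hlt W hWt) W (res ρ W hW) rfl (hdvd W) (hc.res W hW)
    refine ⟨((u₁ : V) + w₁, (u₂ : V) + w₂), fun a h1 h2 => ?_⟩
    have split : ∀ (u : U) (w : W), ρ a ((u : V) + w) = (u : V) + w →
        res ρ U hU a u = u ∧ res ρ W hW a w = w := by
      intro u w h
      rw [map_add] at h
      have hmem : ρ a (u : V) - u ∈ U ⊓ W := by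
        refine ⟨U.sub_mem (hU a _ u.2) u.2, ?_⟩
        have : ρ a (u : V) - u = (w : V) - ρ a w := by
          rw [sub_eq_sub_iff_add_eq_add, h, add_comm]
        rw [this]; exact W.sub_mem w.2 (hW a _ w.2)
      rw [hinf, AddSubgroup.mem_bot, sub_eq_zero] at hmem
      rw [hmem] at h
      exact ⟨Subtype.ext hmem, Subtype.ext (add_left_cancel h)⟩
    have e1 := hu a (split u₁ w₁ h1).1 (split u₂ w₂ h2).1
    have e2 := hw a (split u₁ w₁ h1).2 (split u₂ w₂ h2).2
    ext v
    have hv : v ∈ U ⊔ W := by rw [hsup]; trivial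
    obtain ⟨u, hu', w, hw', rfl⟩ := AddSubgroup.mem_sup.1 hv
    have f1 : ρ a u = u := congrArg Subtype.val (DFunLike.congr_fun e1 (⟨u, hu'⟩ : U))
    have f2 : ρ a w = w := congrArg Subtype.val (DFunLike.congr_fun e2 (⟨w, hw'⟩ : W))
    show ρ a (u + w) = u + w
    rw [map_add, f1, f2]

/-- An irreducible coprime action of a solvable group on a module of odd order. -/
theorem based_irr {A : Type u} [Group A] [Finite A] [Group.IsSolvable A] {V : Type u}
    [AddCommGroup V] [Finite V] (ρ : A →* AddMonoid.End V) (hodd : Odd (Nat.card V))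
    (hcop : (Nat.card A).Coprime (Nat.card V)) (hirr : Irr ρ)
    (hsmall : SmallBased2.{u} (Nat.card V)) : Based ρ := by
  classical
  rcases subsingleton_or_nontrivial V with hV | hV
  · exact ⟨(0, 0), fun a _ _ => AddMonoidHom.ext fun v => Subsingleton.elim _ _⟩
  -- pass to the faithful image
  haveI : Finite (AddMonoid.End V) := Finite.of_injective _ DFunLike.coe_injective
  let G := ρ.toHomUnits.range
  let σ : G →* AddMonoid.End V := (Units.coeHom _).comp G.subtype
  have hσ : Function.Injective σ := fun x y e => Subtype.ext (Units.ext e)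
  haveI : Group.IsSolvable G := Group.isSolvable_of_surjective ρ.toHomUnits.rangeRestrict_surjective
  have hG : (Nat.card G).Coprime (Nat.card V) :=
    hcop.coprime_dvd_left (Subgroup.card_range_dvd ρ.toHomUnits)
  have hirrσ : Irr σ := fun X hX => hirr X fun a v hv => hX ⟨_, a, rfl⟩ v hv
  suffices Based σ by
    obtain ⟨p, hp⟩ := this
    exact ⟨p, fun a h1 h2 => hp ⟨_, a, rfl⟩ h1 h2⟩
  let s : Set (Subgroup G) := {B | B.Normal ∧ ∀ x ∈ B, ∀ y ∈ B, x * y = y * x}
  obtain ⟨U, ⟨hUn, hUab⟩, hUmax⟩ := (Set.toFinite s).exists_maximal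
    ⟨⊥, inferInstance, fun x hx y hy => by rw [mem_bot.1 hx, mem_bot.1 hy]⟩
  haveI := hUn
  rcases injective_or_blocks hirrσ U hUab with hinj | ⟨ι, hι, hact, B, hcard⟩
  · exact based_of_quasi hodd hG
      ⟨hσ, hUn, hUab, fun B hB hBab hle => hUmax ⟨hB, hBab⟩ hle, hinj⟩
  · exact based_of_blocks hirrσ hodd hG hsmall B hcard

/-- Every completely reducible coprime action of a solvable group on a module of odd order has a
base of two vectors. -/
theorem smallBased2 : ∀ N, SmallBased2.{u} N := by
  intro N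
  induction N with
  | zero => intro B _ _ _ X _ _ σ h; omega
  | succ N ih =>
    intro B _ _ _ X _ _ σ hX hodd hcop hcr
    refine based_of_irr_dvd (N := Nat.card X) (fun Y _ _ τ hY hirr => ?_) X σ dvd_rfl hcr
    refine based_irr τ (hodd.of_dvd_nat hY) (hcop.coprime_dvd_right hY) hirr
      fun B' _ _ _ X' _ _ σ' h1 h2 h3 h4 => ih B' X' σ' ?_ h2 h3 h4
    have := Nat.le_of_dvd Nat.card_pos hY
    omega

/-- Dolfi: two vectors with trivial common stabiliser, in odd prime exponent. -/
theorem exists_pair {A : Type w} [Group A] [Finite A] [Group.IsSolvable A] {V : Type u}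
    [AddCommGroup V] [Finite V] {q : ℕ} [Fact q.Prime] (hexp : ∀ v : V, q • v = 0) (hq : q ≠ 2)
    (ρ : A →* AddMonoid.End V) (hcop : (Nat.card A).Coprime (Nat.card V)) : Based ρ := by
  rcases subsingleton_or_nontrivial V with hV | hV
  · exact ⟨(0, 0), fun a _ _ => AddMonoidHom.ext fun v => Subsingleton.elim _ _⟩
  let G := ρ.toHomUnits.range
  let σ : G →* AddMonoid.End V := (Units.coeHom _).comp G.subtype
  haveI : Finite (AddMonoid.End V) := Finite.of_injective _ DFunLike.coe_injective
  haveI : Group.IsSolvable G := Group.isSolvable_of_surjective ρ.toHomUnits.rangeRestrict_surjective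
  have hG : (Nat.card G).Coprime (Nat.card V) :=
    hcop.coprime_dvd_left (Subgroup.card_range_dvd ρ.toHomUnits)
  letI : Module (ZMod q) V := AddCommGroup.zmodModule hexp
  haveI : Module.Finite (ZMod q) V := Module.Finite.of_finite
  have hcard : Nat.card V = q ^ Module.finrank (ZMod q) V := by
    have h2 : Nat.card V = Nat.card (ZMod q) ^ Module.finrank (ZMod q) V :=
      @Module.natCard_eq_pow_finrank (ZMod q) V _ _ _ (Module.Finite.of_finite)
    rwa [Nat.card_zmod] at h2
  have hodd : Odd (Nat.card V) := by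
    rw [hcard]
    exact ((Fact.out : q.Prime).odd_of_ne_two hq).pow
  have hqG : ¬ q ∣ Nat.card G := by
    have h1 : q ∣ Nat.card V := by
      rw [hcard]
      refine dvd_pow_self q fun e => ?_
      rw [e, pow_zero] at hcard
      exact (Finite.one_lt_card (α := V)).ne' hcard
    exact ((Fact.out : q.Prime).coprime_iff_not_dvd).1 (hG.symm.coprime_dvd_left h1)
  have hcr : CR σ := fun X hX =>
    CfsgLib.Coprime85.exists_invariant_compl_add q hqG (fun a => (σ a : V →+ V))
      (fun x => by rw [map_one]; rfl) (fun a b x => apply_mul σ a b x) X hX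
  obtain ⟨p, hp⟩ := smallBased2 (Nat.card V + 1) G V σ (Nat.lt_succ_self _) hodd hG hcr
  exact ⟨p, fun a h1 h2 => hp ⟨_, a, rfl⟩ h1 h2⟩

end CfsgLib.CoprimeBase
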