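import Cfsg.Agent.Lib.CoprimeBase.Base

/-!
Explicit forms of the groups of degree two, four and eight over the fields of three and five elements.
-/

set_option autoImplicit false
set_option linter.unusedSectionVars false
set_option linter.style.haveILetI false

namespace CfsgLib.CoprimeBase

universe u w

variable {K : Type u} [Field K] {V : Type w} [AddCommGroup V] [Module K V]
variable {p : ℕ}

/-- `E` is, up to scalars, the family `M` in the coordinates `Φ`. -/
structure Mdl (E : Subgroup (V ≃ₗ[K] V)) {W : Type} [AddCommGroup W] [Module (ZMod p) W] {ι : Type}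
    (M : ι → W → W) (Φ : V ≃+ W) : Prop where
  mem : ∀ k, ∃ g ∈ E, ∀ v, Φ (g v) = M k (Φ v)
  cls : ∀ g ∈ E, ∃ (k : ι) (s : ZMod p), ∀ v, Φ (g v) = s • M k (Φ v)

/-- The sign of a bit. -/
def sgn (p : ℕ) (e : Fin 2) : ZMod p := if e = 0 then 1 else -1

/-- One more tensor factor of a swap and a sign. -/
def extM (p : ℕ) {W : Type} [AddCommGroup W] [Module (ZMod p) W] {ι : Type} (M : ι → W → W) :
    Fin 2 × Fin 2 × ι → (Fin 2 → W) → (Fin 2 → W) :=
  fun k f b => sgn p (k.2.1 * (b + k.1)) • M k.2.2 (f (b + k.1))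

/-- The trivial family. -/
def lineM (p : ℕ) : Fin 1 → ZMod p → ZMod p := fun _ x => x

/-- The quaternion family of degree two over three elements. -/
def quatM : Fin 2 × Fin 2 → (Fin 2 → ZMod 3) → (Fin 2 → ZMod 3) :=
  fun k f =>
    let f' : Fin 2 → ZMod 3 := if k.2 = 0 then f else ![f 0 + f 1, f 0 - f 1]
    if k.1 = 0 then f' else ![-f' 1, f' 0]

/-- An additive map between modules over the prime field commutes with its scalars; integral
scalars of the field act as integers. -/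
theorem map_intCast_smul {W : Type} [AddCommGroup W] [Module (ZMod p) W] (Φ : V ≃+ W) (n : ℤ)
    (v : V) : Φ ((n : K) • v) = (n : ZMod p) • Φ v := by
  rw [Int.cast_smul_eq_zsmul, map_zsmul, Int.cast_smul_eq_zsmul]

/-- Over the prime field every scalar is an integer. -/
theorem exists_int [Finite K] [Fact p.Prime] (hK : Nat.card K = p) (c : K) : ∃ n : ℤ, (n : K) = c := by
  haveI := Fintype.ofFinite K
  haveI := charP_of_card hK
  let e : ZMod p ≃+* K := ZMod.ringEquiv K (by rw [← Nat.card_eq_fintype_card, hK])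
  obtain ⟨a, rfl⟩ := e.surjective c
  refine ⟨(a.cast : ℤ), ?_⟩
  rw [← map_intCast e, ZMod.intCast_zmod_cast]

variable {E : Subgroup (V ≃ₗ[K] V)} {x y : V ≃ₗ[K] V} {ζ : K}

theorem neg_one_pow_val (e : Fin 2) : sgn p e = ((-1 : ℤ) ^ (e : ℕ) : ℤ) := by
  fin_cases e <;> simp [sgn]

/-- The coordinates of one more factor. -/
theorem Split.exists_mdl [Finite V] [Nontrivial V] [Finite K] [Fact p.Prime] (hK : Nat.card K = p)
    (h : Split E 2 x y ζ) (hE : Op E) (hy2 : ∀ z ∈ fixSub x, y (y z) = z) {W : Type}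
    [AddCommGroup W] [Module (ZMod p) W] {ι : Type} {M : ι → W → W} {Φ₀ : fixSub x ≃+ W}
    (hM : Mdl (p := p) (CoprimeBase.restrict E (fixSub x)) M Φ₀) :
    ∃ Φ : V ≃+ (Fin 2 → W), Mdl (p := p) E (extM p M) Φ := by
  have hζ : ζ = -1 := (sq_eq_one_iff.1 h.zeta_pow).resolve_left h.zeta_ne
  have hsum : ∀ v, (h.comp 0 v : V) + y (h.comp 1 v) = v := fun v => by
    have := h.sum_comp v
    simpa [Finset.sum_range_succ, one_apply'] using this
  have h00 : ∀ z : fixSub x, h.comp 0 (z : V) = z := fun z => by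
    simpa [one_apply'] using h.comp_block Nat.two_pos Nat.two_pos z
  have h10 : ∀ z : fixSub x, h.comp 1 (z : V) = 0 := fun z => by
    simpa [one_apply'] using h.comp_block Nat.one_lt_two Nat.two_pos z
  have h01 : ∀ z : fixSub x, h.comp 0 (y (z : V)) = 0 := fun z => by
    simpa [pow_one] using h.comp_block Nat.two_pos Nat.one_lt_two z
  have h11 : ∀ z : fixSub x, h.comp 1 (y (z : V)) = z := fun z => by
    simpa [pow_one] using h.comp_block Nat.one_lt_two Nat.one_lt_two z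
  let Φ : V ≃+ (Fin 2 → W) :=
    { toFun := fun v b => Φ₀ (h.comp (b : ℕ) v)
      invFun := fun f => (Φ₀.symm (f 0) : V) + y (Φ₀.symm (f 1) : V)
      left_inv := fun v => by simpa using hsum v
      right_inv := fun f => by
        funext b
        fin_cases b <;> simp [h00, h10, h01, h11]
      map_add' := fun a b => by funext i; simp }
  have hΦ : ∀ v (b : Fin 2), Φ v b = Φ₀ (h.comp (b : ℕ) v) := fun v b => rfl
  have hkey : ∀ {q : V ≃ₗ[K] V}, q ∈ E → ∀ {e : fixSub x ≃ₗ[K] fixSub x},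
      (∀ z : fixSub x, q z = e z) → ∀ (c : Fin 2), (∀ v, q (y v) = ((-1 : ℤ) ^ (c : ℕ) : ℤ) • y (q v)) →
      ∀ {k : ι} {s : ZMod p}, (∀ z, Φ₀ (e z) = s • M k (Φ₀ z)) → ∀ (a : Fin 2) (v : V),
        Φ ((y ^ (a : ℕ)) (q v)) = s • extM p M (a, c, k) (Φ v) := by
    intro q hq e hqe c hc k s hs a v
    funext b
    have h0 : q v = (e (h.comp 0 v) : V) + ((-1 : ℤ) ^ (c : ℕ) : ℤ) • y (e (h.comp 1 v) : V) := by
      conv_lhs => rw [← hsum v]
      rw [map_add, hc, hqe, hqe]
    have hyy : ∀ z : fixSub x, y (y (z : V)) = z := fun z => hy2 z z.2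
    rw [hΦ, Pi.smul_apply, extM, hΦ, h0, neg_one_pow_val, Int.cast_smul_eq_zsmul,
      smul_comm s]
    fin_cases a <;> fin_cases b <;>
      simp [one_apply', pow_one, h00, h10, h01, h11, hyy, hs, map_zsmul]
  refine ⟨Φ, fun k => ?_, fun g hg => ?_⟩
  · obtain ⟨a, c, k⟩ := k
    obtain ⟨e, ⟨q, hq, hqe⟩, he⟩ := hM.mem k
    obtain ⟨κ, hκ⟩ := hE.comm q hq y h.y_mem
    obtain ⟨i, hi⟩ : ∃ i : Fin 2, κ * ζ ^ (i : ℕ) = (((-1 : ℤ) ^ (c : ℕ) : ℤ) : K) := by
      have h2 : IsScalar (1 : V ≃ₗ[K] V) := ⟨1, fun v => by rw [one_apply', one_smul]⟩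
      have hκ1 : κ = 1 ∨ κ = -1 := by
        obtain ⟨z, hz, hz0⟩ := Submodule.exists_mem_ne_zero_of_ne_bot h.fixSub_ne_bot
        have h3 : κ ^ 2 = 1 := by
          have h4 := apply_pow_of_twist hκ 2 z
          have hqz : q z ∈ fixSub x := by rw [hqe ⟨z, hz⟩]; exact (e ⟨z, hz⟩).2
          rw [show (y ^ 2) z = z by rw [pow_two, mul_apply', hy2 z hz],
            show (y ^ 2) (q z) = q z by rw [pow_two, mul_apply', hy2 _ hqz]] at h4
          exact (smul_left_injective K (fun e1 => hz0 (q.map_eq_zero_iff.1 e1))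
            (show (1 : K) • q z = κ ^ 2 • q z by rw [one_smul]; exact h4)).symm
        exact sq_eq_one_iff.1 h3
      rcases hκ1 with rfl | rfl <;> fin_cases c
      · exact ⟨0, by simp⟩
      · exact ⟨1, by simp [hζ]⟩
      · exact ⟨1, by simp [hζ]⟩
      · exact ⟨0, by simp⟩
    refine ⟨y ^ (a : ℕ) * (q * x ^ (i : ℕ)),
      E.mul_mem (E.pow_mem h.y_mem _) (E.mul_mem hq (E.pow_mem h.x_mem _)), fun v => ?_⟩
    rw [mul_apply']
    refine (hkey (q := q * x ^ (i : ℕ)) (E.mul_mem hq (E.pow_mem h.x_mem _)) (e := e) (fun z => ?_) c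
      (fun w => ?_) (k := k) (s := 1) (fun z => by rw [he, one_smul]) a v).trans (one_smul _ _)
    · rw [mul_apply', show (x ^ (i : ℕ)) (z : V) = z by
        simpa [one_apply'] using h.xpow_ypow i 0 z.2, hqe]
    · rw [mul_apply', pow_apply_of_twist h.twist, map_smul, hκ, smul_smul, mul_comm, hi,
        Int.cast_smul_eq_zsmul, mul_apply']
  · obtain ⟨j, hj, q, hq, hqx, rfl⟩ := h.decomp hE hg
    obtain ⟨e, he, hqe⟩ := mem_restrict_of_maps hq fun w hw => maps_fixSub hqx hw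
    obtain ⟨k, s, hs⟩ := hM.cls e he
    obtain ⟨κ, hκ⟩ := hE.comm q hq y h.y_mem
    obtain ⟨c, hc⟩ : ∃ c : Fin 2, κ = (((-1 : ℤ) ^ (c : ℕ) : ℤ) : K) := by
      obtain ⟨z, hz, hz0⟩ := Submodule.exists_mem_ne_zero_of_ne_bot h.fixSub_ne_bot
      have h4 := apply_pow_of_twist hκ 2 z
      rw [show (y ^ 2) z = z by rw [pow_two, mul_apply', hy2 z hz],
        show (y ^ 2) (q z) = q z by rw [pow_two, mul_apply', hy2 _ (maps_fixSub hqx hz)]] at h4
      have h3 : κ ^ 2 = 1 := (smul_left_injective K (fun e1 => hz0 (q.map_eq_zero_iff.1 e1))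
        (show (1 : K) • q z = κ ^ 2 • q z by rw [one_smul]; exact h4)).symm
      rcases sq_eq_one_iff.1 h3 with h5 | h5
      · exact ⟨0, by simp [h5]⟩
      · exact ⟨1, by simp [h5]⟩
    refine ⟨(⟨j, hj⟩, c, k), s, fun v => ?_⟩
    rw [mul_apply']
    exact hkey hq hqe c (fun w => by rw [hκ, hc, Int.cast_smul_eq_zsmul]) hs ⟨j, hj⟩ v

/-- The coordinate of a line. -/
theorem exists_mdl_line [Finite V] [Finite K] [FiniteDimensional K V] [Fact p.Prime]
    (hK : Nat.card K = p) (h1 : Module.finrank K V = 1) :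
    ∃ Φ : V ≃+ ZMod p, Mdl (p := p) E (lineM p) Φ := by
  haveI := Fintype.ofFinite K
  haveI := charP_of_card hK
  obtain ⟨w, hw, hspan⟩ := finrank_eq_one_iff'.1 h1
  let φ : ZMod p ≃+* K := ZMod.ringEquiv K (by rw [← Nat.card_eq_fintype_card, hK])
  let L : K →ₗ[K] V := LinearMap.toSpanSingleton K V w
  have hL : Function.Bijective L := ⟨fun a b e => smul_left_injective K hw (by simpa [L] using e),
    fun v => by obtain ⟨c, hc⟩ := hspan v; exact ⟨c, by simpa [L] using hc⟩⟩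
  let Φ : V ≃+ ZMod p :=
    ((LinearEquiv.ofBijective L hL).symm.toAddEquiv).trans φ.symm.toAddEquiv
  refine ⟨Φ, fun _ => ⟨1, E.one_mem, fun v => rfl⟩, fun g hg => ?_⟩
  obtain ⟨c, hc⟩ := hspan (g w)
  obtain ⟨n, hn⟩ := exists_int hK c
  refine ⟨0, n, fun v => ?_⟩
  obtain ⟨a, ha⟩ := hspan v
  rw [lineM, ← map_intCast_smul (K := K), hn]
  congr 1
  rw [← ha, map_smul, ← hc, smul_comm]

theorem quat_form : ∀ A B : ZMod 3, A ^ 2 + B ^ 2 = -1 → ∃ (k : Fin 2) (s : ZMod 3), s ≠ 0 ∧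
    ∀ f₀ f₁ : ZMod 3, ![A * f₀ + B * f₁, B * f₀ - A * f₁] = s • quatM (k, 1) ![f₀, f₁] := by
  decide

theorem quat_mul : ∀ (k : Fin 2) (f₀ f₁ : ZMod 3), quatM (1, 0) (quatM (k, 1) ![f₀, f₁]) =
    (if k = 0 then (1 : ZMod 3) else -1) • quatM (k + 1, 1) ![f₀, f₁] := by decide

theorem quat_lin : ∀ (k : Fin 2 × Fin 2) (s f₀ f₁ : ZMod 3),
    quatM k (s • ![f₀, f₁]) = s • quatM k ![f₀, f₁] := by decide

theorem sq_three : ∀ s : ZMod 3, s ≠ 0 → s * s = 1 := by decide

theorem sign_ne_zero : ∀ k : Fin 2, (if k = 0 then (1 : ZMod 3) else -1) ≠ 0 := by decide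

/-- The coordinates in the quaternion case over three elements. -/
theorem Quat.exists_mdl [Finite V] [Finite K] [FiniteDimensional K V] (hE : Op E) (hQ : Quat E)
    (hK : Nat.card K = 3) : ∃ Φ : V ≃+ (Fin 2 → ZMod 3), Mdl (p := 3) E quatM Φ := by
  haveI : Fact (Nat.Prime 3) := ⟨Nat.prime_three⟩
  haveI : Nontrivial V := Module.nontrivial_of_finrank_pos (R := K) (by rw [hQ.finrank]; norm_num)
  have hint : ∀ c : K, ∃ n : ℤ, (n : K) = c := exists_int hK
  haveI := charP_of_card hK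
  have hchar : ringChar K = 3 := ringChar.eq K 3
  have h2 : (2 : K) ≠ 0 := Ring.two_ne_zero (by rw [hchar]; norm_num)
  have hsq : ∀ c : K, c ^ 2 = 0 ∨ c ^ 2 = 1 := fun c => by
    rcases eq_or_ne c 0 with rfl | hc
    · exact Or.inl (by simp)
    · refine Or.inr ?_
      haveI := Fintype.ofFinite K
      have := FiniteField.pow_card_sub_one_eq_one c hc
      rwa [← Nat.card_eq_fintype_card, hK] at this
  have hval : ∀ c : K, c = 0 ∨ c = 1 ∨ c = -1 := fun c => by
    rcases hsq c with h | h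
    · exact Or.inl ((pow_eq_zero_iff (by norm_num)).1 h)
    · exact Or.inr (sq_eq_one_iff.1 h)
  -- a nonscalar element squares to minus one
  have hsqneg : ∀ g ∈ E, ¬ IsScalar g → IsScalar (g ^ 2) → ∀ v, g (g v) = -v := by
    intro g hg hns ⟨d, hd⟩ v
    have hd' : ∀ v, g (g v) = d • v := fun v => by rw [← hd, pow_two]; rfl
    obtain ⟨w, hw⟩ := exists_ne (0 : V)
    rcases hval d with rfl | rfl | rfl
    · exact absurd (g.map_eq_zero_iff.1 (g.map_eq_zero_iff.1 ((hd' w).trans (zero_smul K w)))) hw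
    · exfalso
      -- an involution would have an eigenvector
      by_cases hgw : g w + w = 0
      · exact hns (hQ.gen w hw g hg (-1) (by rw [neg_one_smul]; exact eq_neg_of_add_eq_zero_left hgw))
      · exact hns (hQ.gen _ hgw g hg 1 (by rw [map_add, hd', one_smul, one_smul, add_comm]))
    · rw [hd', neg_one_smul]
  obtain ⟨R, hR⟩ := hQ.classes
  obtain ⟨g₀, hg₀, hg₀ns⟩ : ∃ g ∈ E, ¬ IsScalar g := by
    by_contra hcon
    push Not at hcon
    obtain ⟨v, hv⟩ := exists_ne (0 : V)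
    have htop := hE.irr (Submodule.span K {v}) (by simpa using hv) fun g hg w hw => by
      obtain ⟨c, hc⟩ := hcon g hg
      rw [hc]; exact Submodule.smul_mem _ _ hw
    have := finrank_span_singleton (K := K) hv
    rw [htop, finrank_top, hQ.finrank] at this
    omega
  obtain ⟨r, m, hr, hxns, hxr⟩ := exists_prime_power hg₀ns
  set x := g₀ ^ m
  have hx : x ∈ E := E.pow_mem hg₀ m
  obtain ⟨y₀, hy₀, c, hc1, hc⟩ := hE.exists_twist hx hxns
  obtain ⟨d, hd⟩ := hxr
  have hd0 : d ≠ 0 := by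
    rintro rfl
    obtain ⟨v, hv⟩ := exists_ne (0 : V)
    exact hv ((x ^ r).map_eq_zero_iff.1 (by rw [hd, zero_smul]))
  have hcm : c = -1 := ((hval c).resolve_left (twist_ne_zero hc)).resolve_left hc1
  have hr2 : r = 2 := by
    obtain ⟨v, hv⟩ := exists_ne (0 : V)
    have h1 := pow_apply_of_twist hc r v
    rw [hd, hd, map_smul, smul_smul] at h1
    have h4 : (-1 : K) ^ r = 1 := hcm ▸ (mul_eq_right₀ hd0).1
      (smul_left_injective K (fun e => hv (y₀.map_eq_zero_iff.1 e)) h1).symm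
    by_contra hr2
    rw [(hr.odd_of_ne_two hr2).neg_one_pow] at h4
    exact h2 (by linear_combination -h4)
  subst hr2
  obtain ⟨y, hy, hy2, hxy⟩ : ∃ y ∈ E, IsScalar (y ^ 2) ∧ ∀ v, x (y v) = -y (x v) := by
    haveI : Finite (V ≃ₗ[K] V) := Finite.of_injective _ DFunLike.coe_injective
    obtain ⟨k, n, hn, hkn⟩ := Nat.exists_eq_pow_mul_and_not_dvd (orderOf_pos y₀).ne' 2 (by norm_num)
    refine ⟨y₀ ^ n, E.pow_mem hy₀ n, hE.scalar_of_pow_prime (E.pow_mem hy₀ n) Nat.prime_two k ?_,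
      fun v => ?_⟩
    · rw [← pow_mul, mul_comm, ← hkn, pow_orderOf_eq_one]
      exact ⟨1, fun v => by rw [one_apply', one_smul]⟩
    · rw [apply_pow_of_twist hc, hcm, (Nat.odd_iff.2 (Nat.two_dvd_ne_zero.1 hn)).neg_one_pow,
        neg_one_smul]
  have hyns : ¬ IsScalar y := by
    rintro ⟨e, he⟩
    obtain ⟨v, hv⟩ := exists_ne (0 : V)
    have h1 := hxy v
    rw [he, he, map_smul] at h1
    have he0 : e ≠ 0 := fun e1 => hv (y.map_eq_zero_iff.1 (by rw [he, e1, zero_smul]))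
    have h5 : (2 * e) • x v = 0 := by rw [two_mul, add_smul]; nth_rewrite 1 [h1]; exact neg_add_cancel _
    rw [smul_eq_zero, x.map_eq_zero_iff, or_iff_left hv, mul_eq_zero, or_iff_left he0] at h5
    exact h2 h5
  have hxx := hsqneg x hx hxns ⟨d, hd⟩
  have hyy := hsqneg y hy hyns hy2
  obtain ⟨a, ha0⟩ := exists_ne (0 : V)
  have hli : LinearIndependent K ![a, x a] := (LinearIndependent.pair_iff' ha0).2 fun k hk =>
    hxns (hQ.gen a ha0 x hx k hk.symm)
  let b : Module.Basis (Fin 2) K V := basisOfLinearIndependentOfCardEqFinrank hli (by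
    rw [Fintype.card_fin, hQ.finrank])
  have hb0 : b 0 = a := by simp [b]
  have hb1 : b 1 = x a := by simp [b]
  haveI := Fintype.ofFinite K
  let φ : ZMod 3 ≃+* K := ZMod.ringEquiv K (by rw [← Nat.card_eq_fintype_card, hK])
  let Φ : V ≃+ (Fin 2 → ZMod 3) :=
    b.equivFun.toAddEquiv.trans (AddEquiv.piCongrRight fun _ => φ.symm.toAddEquiv)
  have hΦ : ∀ v i, Φ v i = φ.symm (b.repr v i) := fun v i => rfl
  have hΦinv : ∀ v, v = φ (Φ v 0) • a + φ (Φ v 1) • x a := fun v => by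
    conv_lhs => rw [← b.sum_repr v]
    rw [Fin.sum_univ_two, hb0, hb1, hΦ, hΦ, φ.apply_symm_apply, φ.apply_symm_apply]
  have hΦc : ∀ s t : K, Φ (s • a + t • x a) = ![φ.symm s, φ.symm t] := fun s t => by
    funext i
    rw [hΦ, show s • a + t • x a = s • b 0 + t • b 1 by rw [hb0, hb1]]
    fin_cases i <;> simp
  have hΦx : ∀ v, Φ (x v) = ![-(Φ v 1), Φ v 0] := fun v => by
    conv_lhs => rw [hΦinv v]
    rw [map_add, map_smul, map_smul, hxx, smul_neg, add_comm, ← neg_smul, hΦc, map_neg,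
      φ.symm_apply_apply, φ.symm_apply_apply]
  obtain ⟨al, be, hya⟩ : ∃ al be : K, y a = al • a + be • x a := ⟨_, _, hΦinv (y a)⟩
  have hyxa : y (x a) = be • a + (-al) • x a := by
    rw [eq_neg_iff_add_eq_zero.1 (hxy a) |> eq_neg_of_add_eq_zero_right, hya, map_add, map_smul,
      map_smul, hxx]
    module
  have hab : al ^ 2 + be ^ 2 = -1 := by
    have h := hyy a
    rw [hya, map_add, map_smul, map_smul, hya, hyxa] at h
    have h' : (al ^ 2 + be ^ 2 + 1) • a = 0 := by linear_combination (norm := module) h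
    linear_combination (smul_eq_zero.1 h').resolve_right ha0
  have hΦy : ∀ v, Φ (y v) = ![φ.symm al * Φ v 0 + φ.symm be * Φ v 1,
      φ.symm be * Φ v 0 - φ.symm al * Φ v 1] := fun v => by
    conv_lhs => rw [hΦinv v, map_add, map_smul, map_smul, hya, hyxa, smul_add, smul_add, smul_smul,
      smul_smul, smul_smul, smul_smul, add_add_add_comm, ← add_smul, ← add_smul, hΦc]
    funext i
    fin_cases i <;> simp <;> ring
  obtain ⟨k₁, s₁, hs₁, hy_cls⟩ := quat_form (φ.symm al) (φ.symm be) (by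
    rw [← map_pow, ← map_pow, ← map_add, hab, map_neg, map_one])
  have hΦy' : ∀ v, Φ (y v) = s₁ • quatM (k₁, 1) (Φ v) := fun v => by
    rw [hΦy, hy_cls]
    congr 2
    funext i; fin_cases i <;> rfl
  have hq10 : ∀ f : Fin 2 → ZMod 3, quatM (1, 0) f = ![-(f 1), f 0] := fun f => by
    simp [quatM]
  have hΦx' : ∀ v, Φ (x v) = quatM (1, 0) (Φ v) := fun v => by rw [hΦx, hq10]
  have heta : ∀ f : Fin 2 → ZMod 3, f = ![f 0, f 1] := fun f => by
    funext i; fin_cases i <;> rfl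
  have hlin' : ∀ (k : Fin 2 × Fin 2) (s : ZMod 3) (f : Fin 2 → ZMod 3),
      quatM k (s • f) = s • quatM k f := fun k s f => by rw [heta f, quat_lin]
  have hxy' : ∀ v, Φ (x (y v)) =
      (s₁ * if k₁ = 0 then (1 : ZMod 3) else -1) • quatM (k₁ + 1, 1) (Φ v) := fun v => by
    rw [hΦx', hΦy', hlin', heta (Φ v), quat_mul, smul_smul]
  have hsmul : ∀ (c : K) v, Φ (c • v) = φ.symm c • Φ v := fun c v => by
    funext i; simp [hΦ]
  have hcls : ∀ g ∈ E, ∃ (i j : Fin 2) (μ : K), ∀ v, g v = μ • (x ^ (i : ℕ)) ((y ^ (j : ℕ)) v) := by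
    intro g hg
    have hsgn : ∀ f : V ≃ₗ[K] V, f ∈ E → IsScalar (f ^ 2) → ∃ i : Fin 2,
        ∀ v, f (g v) = (-1 : K) ^ (i : ℕ) • g (f v) := by
      intro f hf hf2
      obtain ⟨e, he⟩ := hE.comm f hf g hg
      rcases eq_or_ne e 1 with rfl | h1
      · exact ⟨0, fun v => by simpa using he v⟩
      · obtain rfl := neg_one_eq_of_sq hf2 h1 he
        exact ⟨1, fun v => by simpa using he v⟩
    obtain ⟨j, hj⟩ := hsgn x hx ⟨d, hd⟩
    obtain ⟨i, hi⟩ := hsgn y hy hy2
    have hyx : ∀ v, y (x v) = -x (y v) := fun v => by rw [hxy, neg_neg]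
    -- divided by the class with the same signs
    obtain ⟨s, hs⟩ : ∃ s, s = x ^ (i : ℕ) * y ^ (j : ℕ) := ⟨_, rfl⟩
    have hsx : ∀ v, x (s v) = (-1 : K) ^ (j : ℕ) • s (x v) := fun v => by
      fin_cases j <;> fin_cases i <;> simp [hs, mul_apply', one_apply', hxy]
    have hsy : ∀ v, y (s v) = (-1 : K) ^ (i : ℕ) • s (y v) := fun v => by
      fin_cases j <;> fin_cases i <;> simp [hs, mul_apply', one_apply', hyx]
    set h := s⁻¹ * g with hh
    have hcx : ∀ v, x (h v) = h (x v) := fun v => by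
      apply s.injective
      have h1 := hsx (h v)
      rw [hh, mul_apply', apply_inv', hj] at h1
      rw [hh, mul_apply', mul_apply', apply_inv']
      exact (smul_right_injective V (pow_ne_zero _ (neg_ne_zero.2 one_ne_zero)) h1).symm
    have hcy : ∀ v, y (h v) = h (y v) := fun v => by
      apply s.injective
      have h1 := hsy (h v)
      rw [hh, mul_apply', apply_inv', hi] at h1
      rw [hh, mul_apply', mul_apply', apply_inv']
      exact (smul_right_injective V (pow_ne_zero _ (neg_ne_zero.2 one_ne_zero)) h1).symm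
    obtain ⟨al', be', hha⟩ : ∃ al' be' : K, h a = al' • a + be' • x a := ⟨_, _, hΦinv (h a)⟩
    have hh' : ∀ v, h v = al' • v + be' • x v := fun v => by
      conv_lhs => rw [hΦinv v]
      conv_rhs => rw [hΦinv v]
      simp only [map_add, map_smul, ← hcx, hha, hxx]
      module
    have hb0 : be' = 0 := by
      have h1 := hcy a
      rw [hh' a, hh' (y a), map_add, map_smul, map_smul, hyx, smul_neg, add_right_inj] at h1
      have h5 : (2 * be') • x (y a) = 0 := by
        linear_combination (norm := module) -h1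
      rw [smul_eq_zero, x.map_eq_zero_iff, y.map_eq_zero_iff, or_iff_left ha0, mul_eq_zero] at h5
      exact h5.resolve_left h2
    refine ⟨i, j, al', fun v => ?_⟩
    have h1 : g v = s (h v) := by rw [hh, mul_apply', apply_inv']
    rw [h1, hh', hb0, zero_smul, add_zero, map_smul, hs, mul_apply']
  refine ⟨Φ, fun k => ?_, fun g hg => ?_⟩
  · have hs1' : s₁ * s₁ = 1 := sq_three s₁ hs₁
    have hsc : ∀ (c : ZMod 3) (g : V ≃ₗ[K] V), g ∈ E → ∃ g' ∈ E, c ≠ 0 → ∀ v, Φ (g' v) = c • Φ (g v) := by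
      intro c g hg
      by_cases hc : c = 0
      · exact ⟨g, hg, fun h => absurd hc h⟩
      refine ⟨LinearEquiv.smulOfUnit (Units.mk0 (φ c) ((map_ne_zero φ).2 hc)) * g,
        E.mul_mem (hE.scalar_mem _) hg, fun _ v => ?_⟩
      rw [mul_apply', smulUnit_apply, hsmul, Units.val_mk0, φ.symm_apply_apply]
    obtain ⟨i, j⟩ := k
    fin_cases j
    · fin_cases i
      · exact ⟨1, E.one_mem, fun v => by simp [quatM, one_apply']⟩
      · exact ⟨x, hx, hΦx'⟩
    · by_cases hi : i = k₁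
      · obtain ⟨g', hg', hg''⟩ := hsc s₁ y hy
        refine ⟨g', hg', fun v => ?_⟩
        rw [hg'' hs₁, hΦy', smul_smul, hs1', one_smul, hi]; rfl
      · have hik : i = k₁ + 1 := by omega
        obtain ⟨g', hg', hg''⟩ := hsc (s₁ * if k₁ = 0 then (1 : ZMod 3) else -1) (x * y)
          (E.mul_mem hx hy)
        refine ⟨g', hg', fun v => ?_⟩
        have hne : (s₁ * if k₁ = 0 then (1 : ZMod 3) else -1) ≠ 0 :=
          mul_ne_zero hs₁ (sign_ne_zero k₁)
        rw [hg'' hne, mul_apply', hxy', smul_smul,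
          sq_three _ hne, one_smul, hik]; rfl
  · obtain ⟨i, j, μ, hμ⟩ := hcls g hg
    fin_cases i <;> fin_cases j
    · exact ⟨(0, 0), φ.symm μ, fun v => by rw [hμ, hsmul]; simp [quatM, one_apply']⟩
    · exact ⟨(k₁, 1), φ.symm μ * s₁, fun v => by
        rw [hμ, hsmul, mul_smul, ← hΦy']; simp [one_apply']⟩
    · exact ⟨(1, 0), φ.symm μ, fun v => by rw [hμ, hsmul, ← hΦx']; simp [one_apply']⟩
    · exact ⟨(k₁ + 1, 1), φ.symm μ * (s₁ * if k₁ = 0 then (1 : ZMod 3) else -1), fun v => by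
        rw [hμ, hsmul, mul_smul, ← hxy']; simp⟩

end CfsgLib.CoprimeBase
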