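import Mathlib

/-!
Irreducible groups of operators with scalar commutators: the decomposition by an operator of prime
order.
-/

set_option autoImplicit false
set_option linter.unusedSectionVars false
set_option linter.style.haveILetI false

namespace CfsgLib.CoprimeBase

universe u w

variable {K : Type u} [Field K] {V : Type w} [AddCommGroup V] [Module K V]

theorem mul_apply' (g h : V ≃ₗ[K] V) (v : V) : (g * h) v = g (h v) := rfl

theorem one_apply' (v : V) : (1 : V ≃ₗ[K] V) v = v := rfl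

theorem apply_inv' (g : V ≃ₗ[K] V) (v : V) : g (g⁻¹ v) = v := g.apply_symm_apply v

theorem inv_apply' (g : V ≃ₗ[K] V) (v : V) : g⁻¹ (g v) = v := g.symm_apply_apply v

theorem pow_succ_apply (g : V ≃ₗ[K] V) (n : ℕ) (v : V) : (g ^ (n + 1)) v = g ((g ^ n) v) := by
  rw [pow_succ']; rfl

theorem pow_add_apply (g : V ≃ₗ[K] V) (m n : ℕ) (v : V) :
    (g ^ (m + n)) v = (g ^ m) ((g ^ n) v) := by
  rw [pow_add]; rfl

/-- Multiplication by a scalar. -/
def IsScalar (g : V ≃ₗ[K] V) : Prop := ∃ c : K, ∀ v, g v = c • v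

/-- The scalar operators. -/
def scalars (K : Type u) [Field K] (V : Type w) [AddCommGroup V] [Module K V] :
    Subgroup (V ≃ₗ[K] V) where
  carrier := {g | IsScalar g}
  one_mem' := ⟨1, fun v => (one_smul K v).symm⟩
  mul_mem' := fun {g h} ⟨c, hc⟩ ⟨d, hd⟩ => ⟨c * d, fun v => by
    rw [mul_apply', hd, map_smul, hc, smul_smul, mul_comm]⟩
  inv_mem' := fun {g} ⟨c, hc⟩ => ⟨c⁻¹, fun v => by
    apply g.injective
    rw [apply_inv', map_smul, hc, smul_smul]
    rcases eq_or_ne c 0 with rfl | h0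
    · have : g v = 0 := by rw [hc, zero_smul]
      rw [g.map_eq_zero_iff.1 this, smul_zero]
    · rw [inv_mul_cancel₀ h0, one_smul]⟩

theorem mem_scalars {g : V ≃ₗ[K] V} : g ∈ scalars K V ↔ IsScalar g := Iff.rfl

/-- An irreducible group of operators with scalar commutators, all scalar operators and nothing
further in its centre. -/
structure Op (E : Subgroup (V ≃ₗ[K] V)) : Prop where
  scalar_mem : ∀ c : Kˣ, LinearEquiv.smulOfUnit c ∈ E
  comm : ∀ g ∈ E, ∀ h ∈ E, ∃ c : K, ∀ v, g (h v) = c • h (g v)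
  cent : ∀ g ∈ E, (∀ h ∈ E, ∀ v, g (h v) = h (g v)) → IsScalar g
  irr : ∀ W : Submodule K V, W ≠ ⊥ → (∀ g ∈ E, ∀ v ∈ W, g v ∈ W) → W = ⊤
  sqf : ∀ g ∈ E, ∀ r : ℕ, r.Prime → IsScalar (g ^ (r * r)) → IsScalar (g ^ r)

/-- `H` normalises `E`. -/
def Norms (H E : Subgroup (V ≃ₗ[K] V)) : Prop := ∀ a ∈ H, ∀ g ∈ E, a * g * a⁻¹ ∈ E

/-- Every element order is prime to the characteristic. -/
def Cop (H : Subgroup (V ≃ₗ[K] V)) : Prop := ∀ a ∈ H, (orderOf a).Coprime (ringChar K)

/-- A vector which is an eigenvector of scalar operators only. -/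
def Gen (E : Subgroup (V ≃ₗ[K] V)) (v : V) : Prop :=
  ∀ g ∈ E, ∀ c : K, g v = c • v → IsScalar g

/-- Only the identity fixes the two vectors. -/
def Free2 (H : Subgroup (V ≃ₗ[K] V)) (v u : V) : Prop := ∀ a ∈ H, a v = v → a u = u → a = 1

/-- A free pair with first vector in general position and second off the orbit of its line. -/
def Good (E H : Subgroup (V ≃ₗ[K] V)) : Prop :=
  ∃ v u : V, v ≠ 0 ∧ u ≠ 0 ∧ Gen E v ∧ (∀ g ∈ E, ∀ c : K, g v ≠ c • u) ∧ Free2 H v u

theorem Cop.pow_fix {H : Subgroup (V ≃ₗ[K] V)} (hH : Cop H) {a : V ≃ₗ[K] V} (ha : a ∈ H)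
    {v u : V} {k : K} (hv : a v = v) (hu : a u = u + k • v) : k = 0 ∨ v = 0 := by
  have hp : ∀ n : ℕ, (a ^ n) u = u + ((n : K) * k) • v := by
    intro n
    induction n with
    | zero => simp [one_apply']
    | succ n ih =>
      rw [pow_succ_apply, ih, map_add, hu, map_smul, hv, Nat.cast_succ, add_mul, one_mul, add_smul]
      abel
  have h1 := hp (orderOf a)
  rw [pow_orderOf_eq_one, one_apply', left_eq_add, smul_eq_zero, mul_eq_zero] at h1
  rcases h1 with (h1 | h1) | h1
  · exfalso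
    have h2 : ringChar K ∣ orderOf a := (ringChar.spec K _).1 h1
    have h3 : ringChar K = 1 := Nat.eq_one_of_dvd_coprimes (hH a ha) h2 dvd_rfl
    exact CharP.ringChar_ne_one h3
  · exact Or.inl h1
  · exact Or.inr h1

/-- The operators on a subspace induced by a group. -/
def restrict (G : Subgroup (V ≃ₗ[K] V)) (W : Submodule K V) : Subgroup (W ≃ₗ[K] W) where
  carrier := {e | ∃ g ∈ G, ∀ z : W, g z = e z}
  one_mem' := ⟨1, G.one_mem, fun _ => rfl⟩
  mul_mem' := fun {e f} ⟨g, hg, he⟩ ⟨h, hh, hf⟩ => ⟨g * h, G.mul_mem hg hh, fun z => by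
    rw [mul_apply', hf, he]; rfl⟩
  inv_mem' := fun {e} ⟨g, hg, he⟩ => ⟨g⁻¹, G.inv_mem hg, fun z => by
    apply g.injective
    rw [apply_inv', he, apply_inv']⟩

theorem mem_restrict_of_maps [Finite V] {G : Subgroup (V ≃ₗ[K] V)} {W : Submodule K V}
    {g : V ≃ₗ[K] V} (hg : g ∈ G) (hW : ∀ z ∈ W, g z ∈ W) :
    ∃ e ∈ restrict G W, ∀ z : W, g z = e z := by
  have hinj : Function.Injective (g.toLinearMap.restrict hW) := fun a b h =>
    Subtype.ext (g.injective (congrArg Subtype.val h))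
  refine ⟨LinearEquiv.ofBijective _ (Finite.injective_iff_bijective.1 hinj), ?_, fun z => rfl⟩
  exact ⟨g, hg, fun z => rfl⟩

theorem restrict_pow {W : Submodule K V} {e : W ≃ₗ[K] W} {g : V ≃ₗ[K] V}
    (he : ∀ z : W, g z = e z) (n : ℕ) : ∀ z : W, (g ^ n) z = (e ^ n) z := by
  induction n with
  | zero => intro z; simp [one_apply']
  | succ n ih => intro z; rw [pow_succ_apply, ih, he, pow_succ_apply]

theorem Cop.restrict {H : Subgroup (V ≃ₗ[K] V)} (hH : Cop H) (W : Submodule K V) :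
    Cop (CoprimeBase.restrict H W) := by
  rintro e ⟨g, hg, he⟩
  refine (hH g hg).coprime_dvd_left (orderOf_dvd_of_pow_eq_one (LinearEquiv.ext fun z => ?_))
  apply Subtype.ext
  rw [← restrict_pow he, pow_orderOf_eq_one, one_apply', one_apply']

theorem Norms.restrict {H E : Subgroup (V ≃ₗ[K] V)} (hH : Norms H E) (W : Submodule K V) :
    Norms (CoprimeBase.restrict H W) (CoprimeBase.restrict E W) := by
  rintro a ⟨h, hh, ha⟩ e ⟨g, hg, he⟩
  refine ⟨h * g * h⁻¹, hH h hh g hg, fun z => ?_⟩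
  have hi : h⁻¹ (z : V) = (a⁻¹ z : W) := by
    apply h.injective
    rw [apply_inv', ha, apply_inv']
  rw [mul_apply', mul_apply', hi, he, ha]
  rfl

/-- An element of prime order with a partner multiplying it by a root of unity. -/
structure Split (E : Subgroup (V ≃ₗ[K] V)) (r : ℕ) (x y : V ≃ₗ[K] V) (ζ : K) : Prop where
  prime : r.Prime
  x_mem : x ∈ E
  y_mem : y ∈ E
  zeta_pow : ζ ^ r = 1
  zeta_ne : ζ ≠ 1
  x_pow : x ^ r = 1
  twist : ∀ v, x (y v) = ζ • y (x v)

/-- The vectors fixed by an operator. -/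
def fixSub (x : V ≃ₗ[K] V) : Submodule K V where
  carrier := {v | x v = v}
  zero_mem' := map_zero x
  add_mem' := fun {a b} (ha : x a = a) (hb : x b = b) => show x (a + b) = a + b by
    rw [map_add, ha, hb]
  smul_mem' := fun c {v} (hv : x v = v) => show x (c • v) = c • v by rw [map_smul, hv]

theorem mem_fixSub {x : V ≃ₗ[K] V} {v : V} : v ∈ fixSub x ↔ x v = v := Iff.rfl

theorem apply_pow_of_twist {f g : V ≃ₗ[K] V} {c : K} (h : ∀ v, f (g v) = c • g (f v)) (n : ℕ)
    (v : V) : f ((g ^ n) v) = c ^ n • (g ^ n) (f v) := by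
  induction n generalizing v with
  | zero => simp [one_apply']
  | succ n ih =>
    rw [pow_succ_apply, h, ih, map_smul, smul_smul, pow_succ_apply, pow_succ']

theorem pow_apply_of_twist {f g : V ≃ₗ[K] V} {c : K} (h : ∀ v, f (g v) = c • g (f v)) (n : ℕ)
    (v : V) : (f ^ n) (g v) = c ^ n • g ((f ^ n) v) := by
  induction n generalizing v with
  | zero => simp [one_apply']
  | succ n ih =>
    rw [pow_succ_apply, ih, map_smul, h, smul_smul, ← pow_succ, pow_succ_apply]

theorem twist_unique [Nontrivial V] {f g : V ≃ₗ[K] V} {c d : K}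
    (hc : ∀ v, f (g v) = c • g (f v)) (hd : ∀ v, f (g v) = d • g (f v)) : c = d := by
  obtain ⟨v, hv⟩ := exists_ne (0 : V)
  exact smul_left_injective K (fun e => hv (f.map_eq_zero_iff.1 (g.map_eq_zero_iff.1 e)))
    ((hc v).symm.trans (hd v))

theorem twist_ne_zero [Nontrivial V] {f g : V ≃ₗ[K] V} {c : K}
    (hc : ∀ v, f (g v) = c • g (f v)) : c ≠ 0 := by
  rintro rfl
  obtain ⟨v, hv⟩ := exists_ne (0 : V)
  have := hc v
  rw [zero_smul] at this
  exact hv (g.map_eq_zero_iff.1 (f.map_eq_zero_iff.1 this))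

theorem twist_pow_eq_one [Nontrivial V] {f g : V ≃ₗ[K] V} {c : K}
    (hc : ∀ v, f (g v) = c • g (f v)) {n : ℕ} (hf : f ^ n = 1) : c ^ n = 1 := by
  obtain ⟨v, hv⟩ := exists_ne (0 : V)
  have h := pow_apply_of_twist hc n v
  rw [hf, one_apply', one_apply'] at h
  exact smul_left_injective K (fun e => hv (g.map_eq_zero_iff.1 e))
    (show c ^ n • g v = (1 : K) • g v by rw [one_smul]; exact h.symm)

namespace Split

variable {E : Subgroup (V ≃ₗ[K] V)} {r : ℕ} {x y : V ≃ₗ[K] V} {ζ : K}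

theorem primRoot (h : Split E r x y ζ) : IsPrimitiveRoot ζ r := by
  haveI := Fact.mk h.prime
  rw [IsPrimitiveRoot.iff_orderOf]
  exact orderOf_eq_prime h.zeta_pow h.zeta_ne

theorem cast_ne_zero (h : Split E r x y ζ) : (r : K) ≠ 0 := by
  intro e
  haveI := Fact.mk h.prime
  obtain ⟨p, hp⟩ := CharP.exists K
  have hd : p ∣ r := (CharP.cast_eq_zero_iff K p r).1 e
  obtain rfl : p = r := ((Nat.dvd_prime h.prime).1 hd).resolve_left (CharP.char_ne_one K p)
  have h1 : (ζ - 1) ^ p = 0 := by rw [sub_pow_char, h.zeta_pow, one_pow, sub_self]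
  exact h.zeta_ne (sub_eq_zero.1 ((pow_eq_zero_iff h.prime.ne_zero).1 h1))

theorem apply_ypow (h : Split E r x y ζ) (n : ℕ) {z : V} (hz : z ∈ fixSub x) :
    x ((y ^ n) z) = ζ ^ n • (y ^ n) z := by
  rw [apply_pow_of_twist h.twist, mem_fixSub.1 hz]

theorem xpow_ypow (h : Split E r x y ζ) (i n : ℕ) {z : V} (hz : z ∈ fixSub x) :
    (x ^ i) ((y ^ n) z) = (ζ ^ n) ^ i • (y ^ n) z := by
  induction i with
  | zero => simp [one_apply']
  | succ i ih => rw [pow_succ_apply, ih, map_smul, h.apply_ypow n hz, smul_smul, ← pow_succ]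

/-- The projection to the eigenvalue `ζ ^ j`. -/
noncomputable def proj (_h : Split E r x y ζ) (j : ℕ) : V →ₗ[K] V :=
  (r : K)⁻¹ • ∑ i ∈ Finset.range r, (ζ⁻¹ ^ j) ^ i • (x ^ i).toLinearMap

theorem proj_apply (h : Split E r x y ζ) (j : ℕ) (v : V) :
    h.proj j v = (r : K)⁻¹ • ∑ i ∈ Finset.range r, (ζ⁻¹ ^ j) ^ i • (x ^ i) v := by
  simp [proj, LinearMap.sum_apply]

theorem apply_proj (h : Split E r x y ζ) (j : ℕ) (v : V) : x (h.proj j v) = ζ ^ j • h.proj j v := by
  rw [h.proj_apply, map_smul, smul_comm (ζ ^ j), map_sum]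
  congr 1
  have hc : ζ⁻¹ ^ j * ζ ^ j = 1 := by
    rw [← mul_pow, inv_mul_cancel₀ (h.primRoot.ne_zero h.prime.ne_zero), one_pow]
  set c := ζ⁻¹ ^ j
  set f : ℕ → V := fun i => c ^ i • (x ^ i) v
  have hper : f r = f 0 := by
    simp only [f, pow_zero, h.x_pow]
    rw [show c ^ r = 1 by rw [← pow_mul, mul_comm, pow_mul, inv_pow, h.zeta_pow, inv_one, one_pow]]
  have hs : ∑ i ∈ Finset.range r, f (i + 1) = ∑ i ∈ Finset.range r, f i := by
    have h1 := Finset.sum_range_succ' f r
    rw [Finset.sum_range_succ, hper] at h1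
    exact (add_right_cancel h1).symm
  show ∑ i ∈ Finset.range r, x (c ^ i • (x ^ i) v) = ζ ^ j • ∑ i ∈ Finset.range r, f i
  rw [← hs, Finset.smul_sum]
  refine Finset.sum_congr rfl fun i _ => ?_
  simp only [f]
  rw [map_smul, ← pow_succ_apply, smul_smul]
  congr 1
  rw [pow_succ, ← mul_assoc, mul_comm (ζ ^ j), mul_assoc, mul_comm (ζ ^ j), hc, mul_one]

theorem sum_proj (h : Split E r x y ζ) (v : V) : ∑ j ∈ Finset.range r, h.proj j v = v := by
  simp only [h.proj_apply]
  rw [← Finset.smul_sum, Finset.sum_comm, Finset.sum_eq_single 0]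
  · simp only [pow_zero, one_smul, Finset.sum_const, Finset.card_range, one_apply']
    rw [← Nat.cast_smul_eq_nsmul K, inv_smul_smul₀ h.cast_ne_zero]
  · intro i hi hi0
    rw [← Finset.sum_smul]
    have hne : (ζ⁻¹) ^ i ≠ 1 := by
      rw [inv_pow, inv_ne_one]
      exact h.primRoot.pow_ne_one_of_pos_of_lt hi0 (Finset.mem_range.1 hi)
    have : ∑ j ∈ Finset.range r, (ζ⁻¹ ^ j) ^ i = 0 := by
      rw [Finset.sum_congr rfl fun j _ => show (ζ⁻¹ ^ j) ^ i = (ζ⁻¹ ^ i) ^ j by
        rw [← pow_mul, mul_comm, pow_mul]]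
      rw [geom_sum_eq hne, ← pow_mul, mul_comm, pow_mul, inv_pow ζ r, h.zeta_pow, inv_one, one_pow,
        sub_self, zero_div]
    rw [this, zero_smul]
  · intro h0
    exact absurd (Finset.mem_range.2 h.prime.pos) h0

/-- The component in the block of index `j`, moved to the fixed space. -/
noncomputable def comp (h : Split E r x y ζ) (j : ℕ) : V →ₗ[K] fixSub x :=
  LinearMap.codRestrict (fixSub x) ((y ^ j).symm.toLinearMap.comp (h.proj j)) fun v => by
    show x ((y ^ j)⁻¹ (h.proj j v)) = (y ^ j)⁻¹ (h.proj j v)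
    apply (y ^ j).injective
    have h1 := apply_pow_of_twist h.twist j ((y ^ j)⁻¹ (h.proj j v))
    rw [apply_inv', h.apply_proj] at h1
    rw [apply_inv']
    exact (smul_right_injective V (pow_ne_zero j (h.primRoot.ne_zero h.prime.ne_zero)) h1).symm

theorem ypow_comp (h : Split E r x y ζ) (j : ℕ) (v : V) :
    (y ^ j) (h.comp j v) = h.proj j v := (y ^ j).apply_symm_apply _

theorem sum_comp (h : Split E r x y ζ) (v : V) :
    ∑ j ∈ Finset.range r, (y ^ j) (h.comp j v) = v := by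
  simp only [h.ypow_comp]; exact h.sum_proj v

theorem comp_block (h : Split E r x y ζ) {j k : ℕ} (hj : j < r) (hk : k < r) (z : fixSub x) :
    h.comp j ((y ^ k) (z : V)) = if j = k then z else 0 := by
  have hp : h.proj j ((y ^ k) (z : V)) = if j = k then (y ^ k) (z : V) else 0 := by
    rw [h.proj_apply]
    simp only [h.xpow_ypow _ k z.2, smul_smul]
    rw [← Finset.sum_smul, smul_smul]
    by_cases hjk : j = k
    · subst hjk
      rw [if_pos rfl, Finset.sum_congr rfl fun i _ => show (ζ⁻¹ ^ j) ^ i * (ζ ^ j) ^ i = 1 by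
        rw [← mul_pow, ← mul_pow, inv_mul_cancel₀ (h.primRoot.ne_zero h.prime.ne_zero), one_pow,
          one_pow], Finset.sum_const, Finset.card_range, nsmul_one, inv_mul_cancel₀ h.cast_ne_zero,
        one_smul]
    · rw [if_neg hjk, Finset.sum_congr rfl fun i _ => (mul_pow (ζ⁻¹ ^ j) (ζ ^ k) i).symm]
      have hne : ζ⁻¹ ^ j * ζ ^ k ≠ 1 := by
        intro e
        rw [inv_pow, inv_mul_eq_one₀ (pow_ne_zero j (h.primRoot.ne_zero h.prime.ne_zero))] at e
        exact hjk (h.primRoot.pow_inj hj hk e)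
      rw [geom_sum_eq hne, mul_pow, ← pow_mul, ← pow_mul, mul_comm j, mul_comm k, pow_mul, pow_mul,
        inv_pow ζ r, h.zeta_pow, inv_one, one_pow, one_pow, one_mul, sub_self, zero_div, mul_zero,
        zero_smul]
  apply (y ^ j).injective.comp Subtype.val_injective
  show (y ^ j) (h.comp j ((y ^ k) (z : V)) : V) = _
  rw [h.ypow_comp, hp]
  by_cases hjk : j = k
  · subst hjk; simp
  · simp [hjk]

theorem comp_sum (h : Split E r x y ζ) {j : ℕ} (hj : j < r) (z : ℕ → fixSub x) :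
    h.comp j (∑ k ∈ Finset.range r, (y ^ k) (z k : V)) = z j := by
  rw [map_sum, Finset.sum_congr rfl fun k hk => h.comp_block hj (Finset.mem_range.1 hk) (z k),
    Finset.sum_ite_eq, if_pos (Finset.mem_range.2 hj)]

theorem ext_blocks (h : Split E r x y ζ) {a b : V ≃ₗ[K] V}
    (hab : ∀ j < r, ∀ z ∈ fixSub x, a ((y ^ j) z) = b ((y ^ j) z)) : a = b := by
  refine LinearEquiv.ext fun v => ?_
  rw [← h.sum_comp v, map_sum, map_sum]
  exact Finset.sum_congr rfl fun j hj => hab j (Finset.mem_range.1 hj) _ (h.comp j v).2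

theorem finrank_eq [FiniteDimensional K V] (h : Split E r x y ζ) :
    Module.finrank K V = r * Module.finrank K (fixSub x) := by
  let f : (Fin r → fixSub x) →ₗ[K] V :=
    ∑ k : Fin r, (y ^ (k : ℕ)).toLinearMap.comp ((fixSub x).subtype.comp (LinearMap.proj k))
  let g : V →ₗ[K] (Fin r → fixSub x) := LinearMap.pi fun k => h.comp k
  have hf : ∀ z, f z = ∑ k : Fin r, (y ^ (k : ℕ)) (z k : V) := fun z => by
    simp [f, LinearMap.sum_apply]
  have hgf : ∀ z, g (f z) = z := fun z => by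
    funext j
    show h.comp j (f z) = z j
    rw [hf]
    let z' : ℕ → fixSub x := fun k => if hk : k < r then z ⟨k, hk⟩ else 0
    have e : ∑ k : Fin r, (y ^ (k : ℕ)) (z k : V) = ∑ k ∈ Finset.range r, (y ^ k) (z' k : V) := by
      rw [Finset.sum_range]
      exact Finset.sum_congr rfl fun k _ => by simp [z', k.2]
    rw [e, h.comp_sum j.2]
    simp [z']
  have hfg : ∀ v, f (g v) = v := fun v => by
    rw [hf]
    show ∑ k : Fin r, (y ^ (k : ℕ)) (h.comp k v : V) = v
    rw [← Finset.sum_range (fun k => (y ^ k) (h.comp k v : V))]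
    exact h.sum_comp v
  rw [← (LinearEquiv.ofLinearMap f g (LinearMap.ext hfg) (LinearMap.ext hgf)).finrank_eq,
    Module.finrank_pi_fintype, Finset.sum_const, Finset.card_univ, Fintype.card_fin, smul_eq_mul]

theorem fixSub_ne_bot [Nontrivial V] (h : Split E r x y ζ) : fixSub x ≠ ⊥ := by
  obtain ⟨v, hv⟩ := exists_ne (0 : V)
  intro e
  refine hv ?_
  rw [← h.sum_comp v]
  refine Finset.sum_eq_zero fun j _ => ?_
  have h1 : (h.comp j v : V) ∈ fixSub x := (h.comp j v).2
  rw [(Submodule.mem_bot K).1 (e.le h1), map_zero]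

/-- Every element is a power of the partner times an element commuting with the split one. -/
theorem decomp [Nontrivial V] (h : Split E r x y ζ) (hE : Op E) {g : V ≃ₗ[K] V} (hg : g ∈ E) :
    ∃ j < r, ∃ p ∈ E, (∀ v, x (p v) = p (x v)) ∧ g = y ^ j * p := by
  haveI : NeZero r := ⟨h.prime.ne_zero⟩
  obtain ⟨c, hc⟩ := hE.comm x h.x_mem g hg
  obtain ⟨j, hj, rfl⟩ := h.primRoot.eq_pow_of_pow_eq_one (twist_pow_eq_one hc h.x_pow)
  refine ⟨j, hj, (y ^ j)⁻¹ * g, E.mul_mem (E.inv_mem (E.pow_mem h.y_mem j)) hg, fun v => ?_,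
    (mul_inv_cancel_left _ _).symm⟩
  apply (y ^ j).injective
  have h1 := apply_pow_of_twist h.twist j (((y ^ j)⁻¹ * g) v)
  rw [mul_apply', apply_inv', hc v] at h1
  rw [mul_apply', mul_apply', apply_inv']
  exact (smul_right_injective V (pow_ne_zero j (h.primRoot.ne_zero h.prime.ne_zero)) h1).symm

theorem maps_fixSub {p : V ≃ₗ[K] V} (hp : ∀ v, x (p v) = p (x v)) {z : V} (hz : z ∈ fixSub x) :
    p z ∈ fixSub x := by
  show x (p z) = p z
  rw [hp, mem_fixSub.1 hz]

/-- An element commuting on the fixed space with all that preserves it is a scalar times a power of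
the split element. -/
theorem scalar_mul_pow [Nontrivial V] (h : Split E r x y ζ) (hE : Op E) {g : V ≃ₗ[K] V}
    (hg : g ∈ E) (hgx : ∀ v, x (g v) = g (x v))
    (hcomm : ∀ p ∈ E, (∀ v, x (p v) = p (x v)) → ∀ z ∈ fixSub x, g (p z) = p (g z)) :
    ∃ (μ : K) (i : ℕ), ∀ v, g v = μ • (x ^ i) v := by
  obtain ⟨z, hz, hz0⟩ := Submodule.exists_mem_ne_zero_of_ne_bot h.fixSub_ne_bot
  haveI : NeZero r := ⟨h.prime.ne_zero⟩
  -- an element centralising the fixed space commutes with everything preserving it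
  have hone : ∀ p ∈ E, (∀ v, x (p v) = p (x v)) → ∀ v, g (p v) = p (g v) := by
    intro p hp hpx v
    obtain ⟨c, hc⟩ := hE.comm g hg p hp
    have h1 : (1 : K) = c := smul_left_injective K
      (fun e => hz0 (g.map_eq_zero_iff.1 (p.map_eq_zero_iff.1 e)))
      (show (1 : K) • p (g z) = c • p (g z) by rw [one_smul, ← hc z, hcomm p hp hpx z hz])
    rw [hc v, ← h1, one_smul]
  obtain ⟨c, hc⟩ := hE.comm g hg y h.y_mem
  have hyr : ∀ v, x ((y ^ r) v) = (y ^ r) (x v) := fun v => by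
    rw [apply_pow_of_twist h.twist, h.zeta_pow, one_smul]
  have hcr : c ^ r = 1 := by
    refine smul_left_injective K (fun e => hz0 (g.map_eq_zero_iff.1 ((y ^ r).map_eq_zero_iff.1 e))) ?_
    show c ^ r • (y ^ r) (g z) = (1 : K) • (y ^ r) (g z)
    rw [one_smul, ← apply_pow_of_twist hc, hone _ (E.pow_mem h.y_mem r) hyr]
  obtain ⟨i, hi, rfl⟩ := h.primRoot.eq_pow_of_pow_eq_one hcr
  set g' := (x ^ i)⁻¹ * g with hg'
  have hgy : ∀ v, g' (y v) = y (g' v) := by
    intro v
    apply (x ^ i).injective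
    rw [hg', mul_apply', mul_apply', apply_inv', hc, pow_apply_of_twist h.twist, apply_inv']
  have hgp : ∀ p ∈ E, (∀ v, x (p v) = p (x v)) → ∀ v, g' (p v) = p (g' v) := by
    intro p hp hpx v
    apply (x ^ i).injective
    have e : ∀ w, (x ^ i) (p w) = p ((x ^ i) w) := fun w => by
      simpa using pow_apply_of_twist (c := (1 : K)) (fun u => by rw [one_smul, hpx]) i w
    rw [hg', mul_apply', mul_apply', apply_inv', e, apply_inv', hone p hp hpx]
  have hyn : ∀ (n : ℕ) v, g' ((y ^ n) v) = (y ^ n) (g' v) := fun n v => by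
    simpa using apply_pow_of_twist (c := (1 : K)) (fun u => by rw [one_smul, hgy]) n v
  obtain ⟨μ, hμ⟩ := hE.cent g' (E.mul_mem (E.inv_mem (E.pow_mem h.x_mem i)) hg) fun q hq v => by
    obtain ⟨j, -, p, hp, hpx, rfl⟩ := h.decomp hE hq
    show g' ((y ^ j) (p v)) = (y ^ j) (p (g' v))
    rw [hyn, hgp p hp hpx]
  refine ⟨μ, i, fun v => ?_⟩
  rw [← map_smul, ← hμ, hg', mul_apply', apply_inv']

/-- The operators induced on the fixed space again form such a group. -/
theorem op_restrict [Finite V] [Nontrivial V] (h : Split E r x y ζ) (hE : Op E) :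
    Op (CoprimeBase.restrict E (fixSub x)) := by
  obtain ⟨z₀, hz₀, hz₀0⟩ := Submodule.exists_mem_ne_zero_of_ne_bot h.fixSub_ne_bot
  have hx : ∀ {g : V ≃ₗ[K] V}, g ∈ E → ∀ {e : fixSub x ≃ₗ[K] fixSub x},
      (∀ z : fixSub x, g z = e z) → ∀ v, x (g v) = g (x v) := by
    intro g hg e he v
    obtain ⟨c, hc⟩ := hE.comm x h.x_mem g hg
    have h1 : c = 1 := by
      refine smul_left_injective K (fun e1 => hz₀0 (g.map_eq_zero_iff.1 e1))
        (show c • g z₀ = (1 : K) • g z₀ from ?_)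
      rw [one_smul]
      conv_lhs => rw [← mem_fixSub.1 hz₀, ← hc]
      rw [he ⟨z₀, hz₀⟩]
      exact (e ⟨z₀, hz₀⟩).2
    rw [hc, h1, one_smul]
  have hscal : ∀ {g : V ≃ₗ[K] V}, g ∈ E → ∀ {e : fixSub x ≃ₗ[K] fixSub x},
      (∀ z : fixSub x, g z = e z) → IsScalar e → IsScalar (g ^ r) := by
    intro g hg e he ⟨μ, hμ⟩
    obtain ⟨ν, i, hν⟩ := h.scalar_mul_pow hE hg (hx hg he) fun p hp hpx z hz => by
      have e1 : ∀ w : fixSub x, g w = μ • (w : V) := fun w => by rw [he, hμ]; rfl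
      rw [e1 ⟨p z, maps_fixSub hpx hz⟩, e1 ⟨z, hz⟩, map_smul]
    refine ⟨ν ^ r, fun v => ?_⟩
    have hn : ∀ n v, (g ^ n) v = ν ^ n • ((x ^ i) ^ n) v := by
      intro n
      induction n with
      | zero => intro v; simp [one_apply']
      | succ n ih =>
        intro v
        rw [pow_succ_apply, ih, map_smul, hν, smul_smul, ← pow_succ, pow_succ_apply]
    rw [hn, ← pow_mul, mul_comm, pow_mul, h.x_pow, one_pow, one_apply']
  refine ⟨fun c => ⟨_, hE.scalar_mem c, fun z => rfl⟩, ?_, ?_, ?_, ?_⟩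
  · rintro e ⟨g, hg, he⟩ f ⟨g', hg', hf⟩
    obtain ⟨c, hc⟩ := hE.comm g hg g' hg'
    refine ⟨c, fun z => Subtype.ext ?_⟩
    rw [Submodule.coe_smul, ← he, ← hf, hc, he, hf]
  · rintro e ⟨g, hg, he⟩ hcen
    obtain ⟨μ, i, hμ⟩ := h.scalar_mul_pow hE hg (hx hg he) fun p hp hpx z hz => by
      obtain ⟨f, hf, hpf⟩ := mem_restrict_of_maps hp fun w hw => maps_fixSub hpx hw
      rw [hpf ⟨z, hz⟩, he, he ⟨z, hz⟩, hpf, hcen f hf ⟨z, hz⟩]
    refine ⟨μ, fun z => Subtype.ext ?_⟩
    rw [← he, hμ, Submodule.coe_smul]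
    congr 1
    simpa [one_apply'] using h.xpow_ypow i 0 z.2
  · intro W hW hWinv
    let S : Submodule K V :=
      Submodule.span K {v | ∃ g ∈ E, ∃ w ∈ W, v = g ((w : fixSub x) : V)}
    have hS : S = ⊤ := by
      refine hE.irr S ?_ fun g hg v hv => ?_
      · obtain ⟨w, hw, hw0⟩ := Submodule.exists_mem_ne_zero_of_ne_bot hW
        intro e
        have : (w : V) ∈ S := Submodule.subset_span ⟨1, E.one_mem, w, hw, rfl⟩
        rw [e, Submodule.mem_bot] at this
        exact hw0 (Subtype.ext this)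
      · induction hv using Submodule.span_induction with
        | mem v hv =>
          obtain ⟨g', hg', w, hw, rfl⟩ := hv
          exact Submodule.subset_span ⟨g * g', E.mul_mem hg hg', w, hw, rfl⟩
        | zero => rw [map_zero]; exact S.zero_mem
        | add a b _ _ ha hb => rw [map_add]; exact S.add_mem ha hb
        | smul c a _ ha => rw [map_smul]; exact S.smul_mem c ha
    rw [eq_top_iff]
    intro z _
    have hz : (z : V) ∈ S := by rw [hS]; trivial
    have hmem : h.comp 0 (z : V) ∈ W := by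
      have hle : S ≤ W.comap (h.comp 0) := by
        refine Submodule.span_le.2 ?_
        rintro _ ⟨g, hg, w, hw, rfl⟩
        obtain ⟨j, hj, p, hp, hpx, rfl⟩ := h.decomp hE hg
        obtain ⟨f, hf, hpf⟩ := mem_restrict_of_maps hp fun w' hw' => maps_fixSub hpx hw'
        show h.comp 0 ((y ^ j) (p (w : V))) ∈ W
        rw [hpf, h.comp_block h.prime.pos hj]
        split_ifs
        · exact hWinv f hf w hw
        · exact W.zero_mem
      exact hle hz
    have e : h.comp 0 (z : V) = z := by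
      simpa [one_apply'] using h.comp_block h.prime.pos h.prime.pos z
    rwa [e] at hmem
  · rintro e ⟨g, hg, he⟩ p hp hsc
    have hgn : ∀ n, ∀ z : fixSub x, (g ^ n) z = (e ^ n) z := fun n => restrict_pow he n
    have h1 := hscal (E.pow_mem hg (p * p)) (hgn _) hsc
    have hdown : ∀ n, IsScalar (g ^ n) → IsScalar (e ^ n) := fun n ⟨c, hc⟩ =>
      ⟨c, fun z => Subtype.ext (by rw [← hgn, hc, Submodule.coe_smul])⟩
    by_cases hpr : p = r
    · subst hpr
      rw [← pow_mul] at h1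
      have h2 : IsScalar ((g ^ p) ^ p) := hE.sqf _ (E.pow_mem hg p) p hp (by
        rwa [← pow_mul, show p * (p * p) = p * p * p by ring])
      rw [← pow_mul] at h2
      exact hdown _ (hE.sqf g hg p hp h2)
    · rw [← pow_mul] at h1
      have h2 : IsScalar ((g ^ r) ^ p) := hE.sqf _ (E.pow_mem hg r) p hp (by
        rwa [← pow_mul, mul_comm r])
      rw [← pow_mul] at h2
      have h3 : (e ^ (r * p)) ∈ scalars K (fixSub x) := hdown _ h2
      have h4 : (e ^ (p * p)) ∈ scalars K (fixSub x) := hsc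
      have hgcd : (r * p).gcd (p * p) = p := by
        rw [Nat.gcd_mul_right, ((Nat.coprime_primes h.prime hp).2 (Ne.symm hpr)).gcd_eq_one, one_mul]
      have h5 := Nat.gcd_eq_gcd_ab (r * p) (p * p)
      rw [hgcd] at h5
      have : e ^ (p : ℤ) ∈ scalars K (fixSub x) := by
        rw [h5, zpow_add, zpow_mul, zpow_mul, zpow_natCast, zpow_natCast]
        exact Subgroup.mul_mem _ (Subgroup.zpow_mem _ h3 _) (Subgroup.zpow_mem _ h4 _)
      rwa [zpow_natCast] at this

end Split

end CfsgLib.CoprimeBase
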