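import Cfsg.Agent.Lib.CoprimeBase.Core
import Cfsg.Agent.Lib.CoprimeBase.Defs
import Cfsg.Agent.Lib.OddBase.Count

/-!
Two-vector bases for coprime solvable groups in which a maximal abelian normal subgroup spans a
field of scalars.
-/

set_option autoImplicit false
set_option linter.style.haveILetI false
set_option linter.unusedSectionVars false

open Subgroup
open scoped commutatorElement

namespace CfsgLib.CoprimeBase

open CfsgLib.OddBase

universe u

variable {A : Type u} [Group A] [Finite A] {V : Type u} [AddCommGroup V] [Finite V]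
  {ρ : A →* AddMonoid.End V} {U E : Subgroup A}

/-- An element of the layer commuting with it on one nonzero vector lies in the scalars. -/
theorem mem_of_comm_at (h : Quasi ρ U) (hL : Layer U E) {e : A} (he : e ∈ E) {z : V} (hz : z ≠ 0)
    (hc : ∀ f ∈ E, ρ e (ρ f z) = ρ f (ρ e z)) : e ∈ U := by
  refine hL.center_le ⟨he, mem_centralizer_iff.2 fun f hf => ?_⟩
  refine (commutatorElement_eq_one_iff_mul_comm.1 ?_).symm
  by_contra hne
  have hw : ρ (f * e) z ≠ 0 := fun e0 => hz (apply_injective ρ (f * e) (e0.trans (map_zero _).symm))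
  refine hw (h.apply_eq_self (hL.comm e he f hf) hne ?_)
  rw [← apply_mul, show ⁅e, f⁆ * (f * e) = e * f by rw [commutatorElement_def]; group, apply_mul,
    apply_mul, hc f hf]

/-- The exponent of the layer modulo the scalars is square-free. -/
theorem pow_mem_of_pow_sq_mem [Nontrivial V] (h : Quasi ρ U) (hL : Layer U E) {e : A} (he : e ∈ E)
    {r : ℕ} (hr : e ^ (r * r) ∈ U) : e ^ r ∈ U := by
  haveI := h.normal
  haveI := hL.normal
  haveI := hL.normal_quot
  haveI := h.isCyclic
  letI : CommGroup (E ⧸ U.subgroupOf E) :=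
    { (inferInstance : Group (E ⧸ U.subgroupOf E)) with mul_comm := hL.quot_comm }
  have hcr : CR (addRep hL.act) := act_cr h hL
  let f : Additive (E ⧸ U.subgroupOf E) →+ Additive (E ⧸ U.subgroupOf E) := nsmulAddMonoidHom r
  obtain ⟨Z, -, hinf, hsup⟩ := hcr f.range (by
    rintro a _ ⟨y, rfl⟩
    exact ⟨addRep hL.act a y, (map_nsmul (addRep hL.act a) r y).symm⟩)
  let g : f.range → f.range := fun y => ⟨f y, ⟨y, rfl⟩⟩
  have hg : Function.Surjective g := by
    rintro ⟨_, x, rfl⟩
    have hx : x ∈ f.range ⊔ Z := by rw [hsup]; trivial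
    obtain ⟨y, hy, z, hz, rfl⟩ := AddSubgroup.mem_sup.1 hx
    have h0 : f z ∈ f.range ⊓ Z := ⟨⟨z, rfl⟩, Z.nsmul_mem hz r⟩
    rw [hinf, AddSubgroup.mem_bot] at h0
    exact ⟨⟨y, hy⟩, Subtype.ext (by show f y = f (y + z); rw [map_add, h0, add_zero])⟩
  have hmk : ∀ n : ℕ, n • Additive.ofMul ((⟨e, he⟩ : E) : E ⧸ U.subgroupOf E) = 0 ↔ e ^ n ∈ U := by
    intro n
    rw [← ofMul_pow, ofMul_eq_zero, ← QuotientGroup.mk_pow, QuotientGroup.eq_one_iff,
      mem_subgroupOf]
    rfl
  refine (hmk r).1 ?_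
  have h1 : g ⟨f (Additive.ofMul ((⟨e, he⟩ : E) : E ⧸ U.subgroupOf E)), _, rfl⟩ = g 0 := by
    apply Subtype.ext
    show f (f (Additive.ofMul _)) = f 0
    rw [map_zero]
    show r • r • _ = (0 : Additive (E ⧸ U.subgroupOf E))
    rw [← mul_nsmul]
    exact (hmk (r * r)).2 hr
  exact congrArg Subtype.val (Finite.injective_iff_surjective.2 hg h1)

set_option maxHeartbeats 800000 in
/-- Two vectors with trivial common stabiliser in the centraliser of the scalars. -/
theorem exists_pair_centralizer [Nontrivial V] {K : Type u} [Field K] [Finite K] [Module K V]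
    (h : Quasi ρ U) (hL : Layer U E)
    (hlin : ∀ a ∈ centralizer (U : Set A), ∀ (c : K) (v : V), ρ a (c • v) = c • ρ a v)
    (hscal : ∀ x ∈ U, ∃ c : K, ∀ v, ρ x v = c • v)
    (hchar : ringChar K ≠ 2) (hord : ∀ a : A, (orderOf a).Coprime (ringChar K)) :
    ∃ v u : V, v ≠ 0 ∧ ∀ a ∈ centralizer (U : Set A), ρ a v = v → ρ a u = u → a = 1 := by
  haveI := h.normal
  haveI := hL.normal
  haveI : FiniteDimensional K V := Module.Finite.of_finite
  -- the operators
  let lin : centralizer (U : Set A) →* (V ≃ₗ[K] V) :=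
    { toFun := fun a =>
        { toFun := fun v => ρ (a : A) v
          map_add' := fun x y => map_add _ x y
          map_smul' := fun c v => hlin a a.2 c v
          invFun := fun v => ρ (a : A)⁻¹ v
          left_inv := apply_inv_apply ρ (a : A)
          right_inv := apply_apply_inv ρ (a : A) }
      map_one' := LinearEquiv.ext fun v => by
        show ρ 1 v = v
        rw [map_one]; rfl
      map_mul' := fun a b => LinearEquiv.ext fun v => apply_mul ρ (a : A) b v }
  have hlin' : ∀ (a : centralizer (U : Set A)) (v : V), lin a v = ρ (a : A) v := fun _ _ => rfl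
  have hne0 : ∀ (g : V ≃ₗ[K] V) (e : A) (c : K), (∀ v, g v = c • ρ e v) → c ≠ 0 := by
    rintro g e c hg rfl
    obtain ⟨v, hv⟩ := exists_ne (0 : V)
    exact hv (g.map_eq_zero_iff.1 ((hg v).trans (zero_smul K _)))
  let E₀ : Subgroup (V ≃ₗ[K] V) :=
    { carrier := {g | ∃ e ∈ E, ∃ c : K, ∀ v, g v = c • ρ e v}
      one_mem' := ⟨1, E.one_mem, 1, fun v => by rw [map_one, one_smul]; rfl⟩
      mul_mem' := fun {g g'} ⟨e, he, c, hc⟩ ⟨e', he', c', hc'⟩ =>
        ⟨e * e', E.mul_mem he he', c * c', fun v => by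
          rw [mul_apply', hc', hc, hlin e (hL.le_cent he), smul_smul, apply_mul]⟩
      inv_mem' := fun {g} ⟨e, he, c, hc⟩ => ⟨e⁻¹, E.inv_mem he, c⁻¹, fun v => by
        apply g.injective
        rw [apply_inv', hc, hlin e (hL.le_cent he), smul_smul, mul_inv_cancel₀ (hne0 g e c hc),
          one_smul, apply_apply_inv]⟩ }
  have hpow : ∀ {g : V ≃ₗ[K] V} {e : A} {c : K}, e ∈ E → (∀ v, g v = c • ρ e v) →
      ∀ (n : ℕ) v, (g ^ n) v = c ^ n • ρ (e ^ n) v := by
    intro g e c he hg n
    induction n with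
    | zero => intro v; rw [pow_zero, pow_zero, pow_zero, map_one, one_smul]; rfl
    | succ n ih =>
      intro v
      rw [pow_succ_apply, ih, hg, hlin e (hL.le_cent he), smul_smul, ← apply_mul,
        ← pow_succ' c, ← pow_succ' e]
  -- a minimal invariant subspace
  let S : Set (Submodule K V) := {W | W ≠ ⊥ ∧ ∀ e ∈ E, ∀ z ∈ W, ρ e z ∈ W}
  haveI : Finite (Submodule K V) := Finite.of_injective _ SetLike.coe_injective
  obtain ⟨W, ⟨hWne, hWinv⟩, hWmin⟩ := (Set.toFinite S).exists_minimal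
    ⟨⊤, top_ne_bot, fun _ _ _ _ => trivial⟩
  haveI : Nontrivial W := Submodule.nontrivial_iff_ne_bot.2 hWne
  obtain ⟨z₀, hz₀, hz₀0⟩ := Submodule.exists_mem_ne_zero_of_ne_bot hWne
  have hmaps : ∀ {g : V ≃ₗ[K] V}, g ∈ E₀ → ∀ z ∈ W, g z ∈ W := by
    rintro g ⟨e, he, c, hc⟩ z hz
    rw [hc]; exact W.smul_mem c (hWinv e he z hz)
  have hE₀ : ∀ {e : A}, e ∈ E → ∀ (g : V ≃ₗ[K] V), (∀ v, g v = ρ e v) → g ∈ E₀ :=
    fun {e} he g hg => ⟨e, he, 1, fun v => by rw [hg, one_smul]⟩
  have hmemU : ∀ {e : A}, e ∈ E → ∀ (d : K), (∀ z ∈ W, ρ e z = d • z) → e ∈ U := by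
    intro e he d hd
    refine mem_of_comm_at h hL he hz₀0 fun f hf => ?_
    rw [hd _ (hWinv f hf z₀ hz₀), hd z₀ hz₀, hlin f (hL.le_cent hf)]
  -- the axioms
  have hOp : Op (restrict E₀ W) := by
    refine ⟨fun c => ?_, ?_, ?_, ?_, ?_⟩
    · refine ⟨LinearEquiv.smulOfUnit c, ⟨1, E.one_mem, c, fun v => ?_⟩, fun z => rfl⟩
      rw [map_one]; rfl
    · rintro a ⟨g, ⟨e, he, c, hc⟩, ha⟩ b ⟨g', ⟨e', he', c', hc'⟩, hb⟩
      obtain ⟨d, hd⟩ := hscal _ (hL.comm e he e' he')
      refine ⟨d, fun z => Subtype.ext ?_⟩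
      rw [Submodule.coe_smul, ← ha, ← hb, ← hb, ← ha, hc, hc', hc', hc,
        hlin e (hL.le_cent he), hlin e' (hL.le_cent he'), smul_smul, smul_smul, smul_smul,
        ← apply_mul, ← apply_mul,
        show e * e' = ⁅e, e'⁆ * (e' * e) by rw [commutatorElement_def]; group, apply_mul, hd,
        smul_smul]
      congr 1
      ring
    · rintro a ⟨g, ⟨e, he, c, hc⟩, ha⟩ hcen
      have heU : e ∈ U := by
        refine mem_of_comm_at h hL he hz₀0 fun f hf => ?_
        obtain ⟨b, hb, hb'⟩ := mem_restrict_of_maps (G := E₀)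
          (hE₀ hf (lin ⟨f, hL.le_cent hf⟩) fun v => rfl) (hmaps (hE₀ hf _ fun v => rfl))
        have h1 := congrArg Subtype.val (hcen b hb ⟨z₀, hz₀⟩)
        rw [← ha, ← hb', ← hb', ← ha, hlin', hlin', hc, hc, hlin f (hL.le_cent hf)] at h1
        exact smul_right_injective V (hne0 g e c hc) h1
      obtain ⟨d, hd⟩ := hscal e heU
      exact ⟨c * d, fun z => Subtype.ext (by
        rw [← ha, hc, hd, smul_smul, Submodule.coe_smul])⟩
    · intro X hX hXinv
      have hmap : X.map W.subtype ∈ S := by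
        refine ⟨fun e => hX ?_, fun e he z hz => ?_⟩
        · exact Submodule.map_injective_of_injective W.injective_subtype (e.trans (Submodule.map_bot _).symm)
        · obtain ⟨x, hx, rfl⟩ := hz
          obtain ⟨b, hb, hb'⟩ := mem_restrict_of_maps (G := E₀)
            (hE₀ he (lin ⟨e, hL.le_cent he⟩) fun v => rfl) (hmaps (hE₀ he _ fun v => rfl))
          exact ⟨b x, hXinv b hb x hx, (hb' x).symm⟩
      have hle : W ≤ X.map W.subtype := hWmin hmap fun z hz => by
        obtain ⟨x, -, rfl⟩ := hz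
        exact x.2
      refine eq_top_iff.2 fun z _ => ?_
      obtain ⟨x, hx, e⟩ := hle z.2
      rwa [← Subtype.ext (show (x : V) = z from e)]
    · rintro a ⟨g, ⟨e, he, c, hc⟩, ha⟩ r - ⟨d, hd⟩
      have h2 : e ^ (r * r) ∈ U := by
        refine hmemU (E.pow_mem he _) ((c ^ (r * r))⁻¹ * d) fun z hz => ?_
        have h1 := restrict_pow ha (r * r) ⟨z, hz⟩
        rw [hd, hpow he hc, Submodule.coe_smul] at h1
        rw [mul_smul, ← h1, smul_smul, inv_mul_cancel₀ (pow_ne_zero _ (hne0 g e c hc)), one_smul]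
      obtain ⟨d', hd'⟩ := hscal _ (pow_mem_of_pow_sq_mem h hL he h2)
      exact ⟨c ^ r * d', fun z => Subtype.ext (by
        rw [← restrict_pow ha r z, hpow he hc, hd', smul_smul, Submodule.coe_smul])⟩
  have hnorm : Norms lin.range E₀ := by
    rintro _ ⟨a, rfl⟩ g ⟨e, he, c, hc⟩
    refine ⟨(a : A) * e * (a : A)⁻¹, ‹E.Normal›.conj_mem e he a, c, fun v => ?_⟩
    rw [mul_apply', mul_apply', ← map_inv, hlin', hlin', hc, hlin a a.2, ← apply_mul, ← apply_mul,
      InvMemClass.coe_inv]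
  have hcop : Cop lin.range := by
    rintro _ ⟨a, rfl⟩
    refine (hord (a : A)).coprime_dvd_left ?_
    rw [Subgroup.orderOf_coe]
    exact orderOf_map_dvd lin a
  obtain ⟨v, u, hv, hfree⟩ := exists_free_pair hOp (hnorm.restrict W) (hcop.restrict W) hchar
  refine ⟨(v : V), (u : V), fun e => hv (Subtype.ext e), fun a ha hav hau => ?_⟩
  have hv0 : (v : V) ≠ 0 := fun e => hv (Subtype.ext e)
  -- `a` stabilises the subspace
  have hcomap : W ⊓ W.comap (lin ⟨a, ha⟩).toLinearMap ∈ S := by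
    refine ⟨fun e => hv0 ?_, fun e he z hz => ⟨hWinv e he z hz.1, ?_⟩⟩
    · have : (v : V) ∈ W ⊓ W.comap (lin ⟨a, ha⟩).toLinearMap :=
        ⟨v.2, show ρ a (v : V) ∈ W by rw [hav]; exact v.2⟩
      rwa [e, Submodule.mem_bot] at this
    · show ρ a (ρ e z) ∈ W
      have e1 : ρ a (ρ e z) = ρ (a * e * a⁻¹) (ρ a z) := by
        rw [← apply_mul, ← apply_mul, inv_mul_cancel_right]
      rw [e1]
      exact hWinv _ (‹E.Normal›.conj_mem e he a) _ hz.2
  have hstab : ∀ z ∈ W, ρ a z ∈ W := fun z hz => (hWmin hcomap inf_le_left hz).2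
  obtain ⟨b, hb, hb'⟩ := mem_restrict_of_maps (G := lin.range) ⟨⟨a, ha⟩, rfl⟩
    (W := W) hstab
  have hb1 := hfree b hb (Subtype.ext (by rw [← hb' v]; exact hav))
    (Subtype.ext (by rw [← hb' u]; exact hau))
  have hfix : ∀ z ∈ W, ρ a z = z := fun z hz => by
    have := hb' ⟨z, hz⟩
    rw [hb1] at this
    exact this
  have haU : a ∈ U := by
    refine hL.cent ⟨mem_centralizer_iff.2 fun f hf => ?_, ha⟩
    refine (commutatorElement_eq_one_iff_mul_comm.1 ?_).symm
    have hd : ⁅a, f⁆ ∈ E := by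
      rw [commutatorElement_def]
      exact E.mul_mem (‹E.Normal›.conj_mem f hf a) (E.inv_mem hf)
    have hdfix : ∀ z ∈ W, ρ ⁅a, f⁆ z = z := fun z hz => by
      have h1 : ρ f⁻¹ z ∈ W := hWinv _ (E.inv_mem hf) z hz
      have h2 : ρ a⁻¹ (ρ f⁻¹ z) = ρ f⁻¹ z := by
        conv_lhs => rw [← hfix _ h1]
        rw [apply_inv_apply]
      rw [commutatorElement_def, apply_mul, apply_mul, apply_mul, h2, apply_apply_inv, hfix z hz]
    have hdU := hmemU hd 1 fun z hz => by rw [one_smul, hdfix z hz]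
    by_contra hne
    exact hz₀0 (h.apply_eq_self hdU hne (hdfix z₀ hz₀))
  by_contra hne
  exact hv0 (h.apply_eq_self haU hne hav)

/-- Averaging moves the second vector within its coset of the scalar multiples of the first. -/
theorem exists_fixed_translate (h : Quasi ρ U) (hcop : (Nat.card A).Coprime (Nat.card V)) (v u : V) :
    ∃ t ∈ scalarRing ρ U, ∀ a : A, ρ a v = v → (∃ r ∈ scalarRing ρ U, ρ a u = u + r v) →
      ρ a (u + t v) = u + t v := by
  haveI := h.normal
  have hshift : ∀ (a : A) (r : AddMonoid.End V), ρ a (r v) = conjEnd ρ a r (ρ a v) := fun a r =>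
    DFunLike.congr_fun (mul_eq_conjEnd_mul ρ a r) v
  let B : Subgroup A :=
    { carrier := {a | ρ a v = v ∧ ∃ r ∈ scalarRing ρ U, ρ a u = u + r v}
      one_mem' := ⟨by rw [map_one]; rfl, 0, Subring.zero_mem _, by
        rw [map_one]; exact (add_zero u).symm⟩
      mul_mem' := fun {a b} ⟨ha, r, hr, hau⟩ ⟨hb, s, hs, hbu⟩ =>
        ⟨by rw [apply_mul, hb, ha], r + conjEnd ρ a s,
          Subring.add_mem _ hr (conjEnd_mem ρ U a hs), by
          rw [apply_mul, hbu, map_add, hau, hshift, ha, add_assoc]; rfl⟩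
      inv_mem' := fun {a} ⟨ha, r, hr, hau⟩ => by
        have ha' : ρ a⁻¹ v = v := by
          conv_lhs => rw [← ha]
          rw [apply_inv_apply]
        refine ⟨ha', -conjEnd ρ a⁻¹ r, Subring.neg_mem _ (conjEnd_mem ρ U a⁻¹ hr), ?_⟩
        have h1 := congrArg (ρ a⁻¹) hau
        rw [apply_inv_apply, map_add, hshift, ha'] at h1
        rw [eq_sub_of_add_eq h1.symm, sub_eq_add_neg]
        rfl }
  cases nonempty_fintype B
  set n := Nat.card B with hn
  have hnV : n.Coprime (Nat.card V) := hcop.coprime_dvd_left (Subgroup.card_subgroup_dvd_card B)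
  rcases subsingleton_or_nontrivial V with hV | hV
  · exact ⟨0, Subring.zero_mem _, fun a _ _ => Subsingleton.elim _ _⟩
  obtain ⟨m, -, hm⟩ := Nat.exists_mul_mod_eq_one_of_coprime hnV Finite.one_lt_card
  have hmn : ∀ x : V, (n * m) • x = x := fun x => by
    rw [← mod_natCard_nsmul, hm, one_nsmul]
  have hr : ∀ b : B, ∃ r ∈ scalarRing ρ U, ρ (b : A) u = u + r v := fun b => b.2.2
  choose r hrmem hru using hr
  refine ⟨m • ∑ b, r b, nsmul_mem (Subring.sum_mem _ fun b _ => hrmem b) m, fun a ha hau => ?_⟩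
  set T : V := ∑ b : B, ρ (b : A) u with hT
  have hfix : ρ a T = T := by
    rw [hT, map_sum]
    refine Fintype.sum_equiv (Equiv.mulLeft (⟨a, ha, hau⟩ : B)) _ _ fun b => ?_
    rw [← apply_mul]; rfl
  have hev : u + (m • ∑ b, r b : AddMonoid.End V) v = m • T := by
    have h1 : (∑ b, r b : AddMonoid.End V) v = ∑ b, r b v :=
      map_sum (AddMonoidHom.eval v : (V →+ V) →+ V) r Finset.univ
    have h2 : T = n • u + ∑ b, r b v := by
      rw [hT, Finset.sum_congr rfl fun b _ => hru b, Finset.sum_add_distrib, Finset.sum_const,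
        Finset.card_univ, hn, Nat.card_eq_fintype_card]
    rw [h2, nsmul_add, ← mul_nsmul, hmn]
    show u + m • ((∑ b, r b : AddMonoid.End V) v) = _
    rw [h1]
  rw [hev, map_nsmul, hfix]

/-- Faithful coprime solvable actions in which the scalars form a field. -/
theorem based_of_quasi [Group.IsSolvable A] [Nontrivial V] (hodd : Odd (Nat.card V))
    (hcop : (Nat.card A).Coprime (Nat.card V)) (h : Quasi ρ U) : Based ρ := by
  haveI := h.normal
  obtain ⟨E, hL⟩ := exists_layer h.comm h.max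
  letI := h.isField.toField
  haveI : Finite (AddMonoid.End V) := Finite.of_injective _ DFunLike.coe_injective
  letI : Module (scalarRing ρ U) V := Module.compHom V (scalarRing ρ U).subtype
  haveI := ringChar.charP (scalarRing ρ U)
  set p := ringChar (scalarRing ρ U) with hp
  have hpp : p.Prime := CharP.char_is_prime (scalarRing ρ U) p
  have hdvd : p ∣ Nat.card V := by
    haveI := Fact.mk hpp
    obtain ⟨v, hv⟩ := exists_ne (0 : V)
    have h1 : p • v = 0 := by
      have h0 := congrArg (scalarRing ρ U).subtype (CharP.cast_eq_zero (scalarRing ρ U) p)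
      rw [map_natCast, map_zero] at h0
      rw [← AddMonoid.End.natCast_apply, h0]
      rfl
    rw [← addOrderOf_eq_prime h1 hv]
    exact addOrderOf_dvd_natCard v
  have hchar : ringChar (scalarRing ρ U) ≠ 2 := fun e => by
    rw [hp, e] at hdvd
    exact (Nat.not_even_iff_odd.2 hodd) (even_iff_two_dvd.2 hdvd)
  obtain ⟨v, u, hv, hfree⟩ := exists_pair_centralizer h hL
    (fun a ha c x => DFunLike.congr_fun (h.comm_scalar ha c.2) x)
    (fun x hx => ⟨⟨ρ x, apply_mem_scalarRing ρ hx⟩, fun _ => rfl⟩) hchar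
    (fun a => (hcop.coprime_dvd_left (orderOf_dvd_natCard a)).coprime_dvd_right hdvd)
  obtain ⟨t, ht, hfix⟩ := exists_fixed_translate h hcop v u
  obtain ⟨k, hk, -, hgen⟩ := h.exists_generator
  refine ⟨(v, (u + t v) + k.1 v), fun a h1 h2 => ?_⟩
  simp only at h1 h2
  have hshift : ∀ r : AddMonoid.End V, ρ a (r v) = conjEnd ρ a r v := fun r => by
    have := DFunLike.congr_fun (mul_eq_conjEnd_mul ρ a r) v
    change ρ a (r v) = conjEnd ρ a r (ρ a v) at this
    rwa [h1] at this
  have haB : ∃ r ∈ scalarRing ρ U, ρ a u = u + r v := by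
    refine ⟨t + k.1 - conjEnd ρ a t - conjEnd ρ a k.1, ?_, ?_⟩
    · exact Subring.sub_mem _ (Subring.sub_mem _ (Subring.add_mem _ ht k.2)
        (conjEnd_mem ρ U a ht)) (conjEnd_mem ρ U a k.2)
    · show ρ a u = u + (t v + k.1 v - conjEnd ρ a t v - conjEnd ρ a k.1 v)
      rw [map_add, map_add, hshift, hshift] at h2
      rw [eq_sub_of_add_eq (eq_sub_of_add_eq h2)]
      abel
  have hw := hfix a h1 haB
  rw [map_add (ρ a) (u + t v), hw, hshift, add_right_inj] at h2
  have hce : conjEnd ρ a k.1 = k.1 := by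
    by_contra hne
    refine hv (h.scalar _ (Subring.sub_mem _ (conjEnd_mem ρ U a k.2) k.2) (sub_ne_zero.2 hne) ?_)
    show conjEnd ρ a k.1 v - k.1 v = (conjEnd ρ a k.1 - k.1) 0
    rw [h2, sub_self, map_zero]
  have haC := hgen a ((mul_eq_conjEnd_mul ρ a k.1).trans (by rw [hce]))
  have hau : ρ a u = u := by
    have e1 : ρ a (t v) = t v := by
      have := DFunLike.congr_fun (h.comm_scalar haC ht) v
      change ρ a (t v) = t (ρ a v) at this
      rwa [h1] at this
    rw [map_add, e1] at hw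
    exact add_right_cancel hw
  rw [hfree a haC h1 hau, map_one]

end CfsgLib.CoprimeBase
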