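import Mathlib

/-!
Subsets of finite vector spaces over a prime field preserved by no linear bijection other than the
identity: characteristic at least five, or two and dimension at least six.
-/

set_option autoImplicit false
set_option linter.style.haveILetI false

namespace CfsgLib.CoprimeBase

universe u

variable {p : ℕ} [Fact p.Prime] {R : Type u} [AddCommGroup R] [Module (ZMod p) R] {d : ℕ}

/-- A basis indexed by natural numbers, with coordinates and the sum of the coordinates. -/
theorem exists_frame (B : Module.Basis (Fin d) (ZMod p) R) :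
    ∃ (b : ℕ → R) (co : ℕ → R →+ ZMod p) (P : R →+ ZMod p),
      (∀ i l, i < d → co l (b i) = if i = l then 1 else 0) ∧ (∀ i, i < d → P (b i) = 1) ∧
      ∀ f : R →+ R, (∀ i, i < d → f (b i) = b i) → ∀ x, f x = x := by
  classical
  refine ⟨fun i => if h : i < d then B ⟨i, h⟩ else 0,
    fun l => if h : l < d then (B.coord ⟨l, h⟩).toAddMonoidHom else 0,
    ((B.constr (M' := ZMod p) (ZMod p) fun _ => 1) : R →ₗ[ZMod p] ZMod p).toAddMonoidHom, ?_, ?_, ?_⟩
  · intro i l hi
    simp only [dif_pos hi]
    by_cases hl : l < d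
    · simp [dif_pos hl, Finsupp.single_apply, Fin.ext_iff]
    · rw [dif_neg hl, if_neg (by omega)]; rfl
  · intro i hi
    simp only [dif_pos hi]
    exact B.constr_basis (ZMod p) (fun _ => (1 : ZMod p)) _
  · intro f hf x
    have h : f.toZModLinearMap p = LinearMap.id :=
      B.ext fun i => by simpa [dif_pos i.2] using hf i i.2
    exact LinearMap.congr_fun h x

/-- Characteristic at least five. -/
theorem exists_rigid_five (hp : 5 ≤ p) (B : Module.Basis (Fin d) (ZMod p) R) :
    ∃ Y : Set R, (0 : R) ∉ Y ∧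
      ∀ f : R →+ R, Function.Injective f → (∀ x ∈ Y, f x ∈ Y) → ∀ x, f x = x := by
  obtain ⟨b, co, P, hco, hP, hext⟩ := exists_frame B
  have hnat : ∀ n m : ℕ, n < 5 → m < 5 → (n : ZMod p) = m → n = m := fun n m hn hm h => by
    rwa [ZMod.natCast_eq_natCast_iff', Nat.mod_eq_of_lt (by omega), Nat.mod_eq_of_lt (by omega)] at h
  let Y : Set R := {y | (∃ i, i < d ∧ y = b i) ∨ (∃ i, i + 1 < d ∧ y = b i + b (i + 1)) ∨
    (0 < d ∧ y = b 0 + b 0)}
  -- the two values of the coordinate sum
  have hval : ∀ y ∈ Y, (P y = (1 : ℕ) ∧ ∃ i, i < d ∧ y = b i) ∨ P y = (2 : ℕ) := by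
    rintro y (⟨i, hi, rfl⟩ | ⟨i, hi, rfl⟩ | ⟨h0, rfl⟩)
    · left; exact ⟨by rw [hP i hi, Nat.cast_one], i, hi, rfl⟩
    · right; rw [map_add, hP i (by omega), hP (i + 1) hi]; norm_num
    · right; rw [map_add, hP 0 h0]; norm_num
  have hY0 : (0 : R) ∉ Y := by
    intro h
    rcases hval 0 h with ⟨h1, -⟩ | h1 <;> rw [map_zero, ← Nat.cast_zero] at h1
    · exact absurd (hnat 0 1 (by omega) (by omega) h1) (by omega)
    · exact absurd (hnat 0 2 (by omega) (by omega) h1) (by omega)
  refine ⟨Y, hY0, fun f hf hfY => hext f ?_⟩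
  have hbY : ∀ i, i < d → b i ∈ Y := fun i hi => Or.inl ⟨i, hi, rfl⟩
  have hne2 : ∀ i j k, i < d → j < d → k + 1 < d → b i + b j = b k + b (k + 1) →
      (i = k ∧ j = k + 1) ∨ (j = k ∧ i = k + 1) := by
    intro i j k hi hj hk h
    have h1 := congrArg (co k) h
    have h2 := congrArg (co (k + 1)) h
    simp only [map_add, hco i _ hi, hco j _ hj, hco k _ (by omega : k < d), hco (k + 1) _ hk] at h1 h2
    simp only [if_true, if_neg (by omega : ¬ k + 1 = k), add_zero] at h1
    simp only [if_true, if_neg (by omega : ¬ k = k + 1), zero_add] at h2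
    have e1 : i = k ∨ j = k := by
      by_contra hc; push Not at hc
      rw [if_neg hc.1, if_neg hc.2, add_zero] at h1
      exact zero_ne_one h1
    have e2 : i = k + 1 ∨ j = k + 1 := by
      by_contra hc; push Not at hc
      rw [if_neg hc.1, if_neg hc.2, add_zero] at h2
      exact zero_ne_one h2
    omega
  -- the only element whose double lies in the set
  have hdbl : ∀ y ∈ Y, y + y ∈ Y → y = b 0 := by
    intro y hy hyy
    rcases hval y hy with ⟨h1, i, hi, rfl⟩ | h1
    · rcases hyy with ⟨j, hj, e⟩ | ⟨j, hj, e⟩ | ⟨h0, e⟩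
      · have e' := congrArg P e
        rw [map_add, hP i hi, hP j hj, one_add_one_eq_two, ← Nat.cast_ofNat, ← Nat.cast_one] at e'
        exact absurd (hnat 2 1 (by omega) (by omega) e') (by omega)
      · rcases hne2 i i j hi hi hj e with h | h <;> omega
      · have e' := congrArg (co 0) e
        simp only [map_add, hco i 0 hi, hco 0 0 h0, if_true] at e'
        by_contra hne
        rw [if_neg (fun hi0 => hne (by rw [hi0])), add_zero, one_add_one_eq_two, ← Nat.cast_ofNat,
          ← Nat.cast_zero] at e'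
        exact absurd (hnat 0 2 (by omega) (by omega) e') (by omega)
    · exfalso
      rcases hval _ hyy with ⟨h2, -⟩ | h2 <;> rw [map_add, h1, ← Nat.cast_add] at h2
      · exact absurd (hnat 4 1 (by omega) (by omega) h2) (by omega)
      · exact absurd (hnat 4 2 (by omega) (by omega) h2) (by omega)
  -- the neighbours of a basis vector
  have hnb : ∀ k, k < d → ∀ y ∈ Y, b k + y ∈ Y →
      ∃ j, j < d ∧ y = b j ∧ (j = k + 1 ∨ j + 1 = k ∨ (j = 0 ∧ k = 0)) := by
    intro k hk y hy hky
    rcases hval y hy with ⟨h1, j, hj, rfl⟩ | h1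
    · refine ⟨j, hj, rfl, ?_⟩
      rcases hky with ⟨l, hl, e⟩ | ⟨l, hl, e⟩ | ⟨h0, e⟩
      · have e' := congrArg P e
        rw [map_add, hP k hk, hP j hj, hP l hl, one_add_one_eq_two, ← Nat.cast_ofNat,
          ← Nat.cast_one] at e'
        exact absurd (hnat 2 1 (by omega) (by omega) e') (by omega)
      · rcases hne2 k j l hk hj hl e with h | h <;> omega
      · have e' := congrArg (co 0) e
        simp only [map_add, hco j 0 hj, hco k 0 hk, hco 0 0 h0, if_true] at e'
        rw [show (1 : ZMod p) + 1 = ((2 : ℕ) : ZMod p) by norm_num] at e'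
        rcases eq_or_ne k 0 with rfl | hk0
        · rcases eq_or_ne j 0 with rfl | hj0
          · omega
          · rw [if_pos rfl, if_neg hj0, add_zero, ← Nat.cast_one] at e'
            exact absurd (hnat 1 2 (by omega) (by omega) e') (by omega)
        · rw [if_neg hk0, zero_add] at e'
          split_ifs at e'
          · rw [← Nat.cast_one] at e'
            exact absurd (hnat 1 2 (by omega) (by omega) e') (by omega)
          · rw [← Nat.cast_zero] at e'
            exact absurd (hnat 0 2 (by omega) (by omega) e') (by omega)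
    · exfalso
      rcases hval _ hky with ⟨h2, -⟩ | h2 <;>
        rw [map_add, h1, hP k hk, ← Nat.cast_one, ← Nat.cast_add] at h2
      · exact absurd (hnat 3 1 (by omega) (by omega) h2) (by omega)
      · exact absurd (hnat 3 2 (by omega) (by omega) h2) (by omega)
  intro i hi
  induction i using Nat.strong_induction_on with
  | _ i IH =>
  rcases Nat.eq_zero_or_pos i with rfl | hi0
  · refine hdbl _ (hfY _ (hbY 0 hi)) ?_
    rw [← map_add]
    exact hfY _ (Or.inr (Or.inr ⟨hi, rfl⟩))
  · obtain ⟨k, rfl⟩ : ∃ k, i = k + 1 := ⟨i - 1, by omega⟩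
    have hk := IH k (by omega) (by omega)
    have h := hfY _ (show b k + b (k + 1) ∈ Y from Or.inr (Or.inl ⟨k, hi, rfl⟩))
    rw [map_add, hk] at h
    obtain ⟨j, hj, e, h3⟩ := hnb k (by omega) _ (hfY _ (hbY _ hi)) h
    rw [e]
    rcases h3 with rfl | h3 | h3
    · rfl
    all_goals
      exfalso
      have hj' := IH j (by omega) hj
      have e2 := hf (e.trans hj'.symm)
      have := congrArg (co j) e2
      rw [hco j j hj, hco (k + 1) j hi, if_pos rfl, if_neg (by omega)] at this
      exact zero_ne_one this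

/-- Characteristic two and dimension at least six. -/
theorem exists_rigid_two {R' : Type u} [AddCommGroup R'] [Finite R'] [Module (ZMod 2) R']
    (hd : 6 ≤ d) (B : Module.Basis (Fin d) (ZMod 2) R') :
    ∃ Y : Set R', (0 : R') ∉ Y ∧
      ∀ f : R' →+ R', Function.Injective f → (∀ x, f x ∈ Y ↔ x ∈ Y) → ∀ x, f x = x := by
  obtain ⟨b, co, P, hco, hP, hext⟩ := exists_frame B
  have hz : ∀ x : R', x + x = 0 := fun x => by
    rw [← one_smul (ZMod 2) x, ← add_smul, show (1 : ZMod 2) + 1 = 0 from rfl, zero_smul]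
  have h10 : (1 : ZMod 2) ≠ 0 := one_ne_zero
  have h11 : (1 : ZMod 2) + 1 = 0 := rfl
  let S : ℕ → R' := fun i => b i + b (i + 1)
  let T : R' := b 0 + b 2 + b (d - 1)
  let Y : Set R' := {y | (∃ i, i < d ∧ y = b i) ∨ (∃ i, i + 1 < d ∧ y = S i) ∨ y = T}
  -- coordinates
  have hcoS : ∀ i l, i + 1 < d → co l (S i) = if i = l ∨ i + 1 = l then 1 else 0 := by
    intro i l hi
    simp only [S, map_add, hco i l (by omega), hco (i + 1) l hi]
    split_ifs <;> first | omega | simp
  have hcoT : ∀ l, co l T = if l = 0 ∨ l = 2 ∨ l = d - 1 then 1 else 0 := by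
    intro l
    simp only [T, map_add, hco 0 l (by omega), hco 2 l (by omega), hco (d - 1) l (by omega)]
    split_ifs <;> first | omega | simp
  have hPS : ∀ i, i + 1 < d → P (S i) = 0 := fun i hi => by
    simp only [S, map_add, hP i (by omega), hP (i + 1) hi, h11]
  have hPT : P T = 1 := by
    simp only [T, map_add, hP 0 (by omega), hP 2 (by omega), hP (d - 1) (by omega), h11, zero_add]
  have hbinj : ∀ i j, i < d → j < d → b i = b j → i = j := by
    intro i j hi hj h
    have := congrArg (co i) h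
    simp only [hco i i hi, hco j i hj, if_true] at this
    split_ifs at this with hc
    · omega
    · exact absurd this h10
  have hSinj : ∀ i j, i + 1 < d → j + 1 < d → S i = S j → i = j := by
    intro i j hi hj h
    have h1 := congrArg (co i) h
    have h2 := congrArg (co (i + 1)) h
    simp only [hcoS i _ hi, hcoS j _ hj] at h1 h2
    split_ifs at h1 h2 <;> first | omega | exact absurd h1 h10 | exact absurd h2 h10 | simp_all
  have hbS : ∀ i j, i < d → j + 1 < d → b i ≠ S j := fun i j hi hj h => by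
    have := congrArg P h
    rw [hP i hi, hPS j hj] at this
    exact h10 this
  have hbT : ∀ i, i < d → b i ≠ T := fun i hi h => by
    have h1 := congrArg (co 0) h
    have h2 := congrArg (co 2) h
    rw [hco i 0 hi, hcoT] at h1
    rw [hco i 2 hi, hcoT] at h2
    split_ifs at h1 h2 <;> first | omega | exact absurd h1.symm h10 | exact absurd h2.symm h10
  have hST : ∀ j, j + 1 < d → S j ≠ T := fun j hj h => by
    have := congrArg P h
    rw [hPT, hPS j hj] at this
    exact h10 this.symm
  -- a segment is the sum of two of the odd elements in one way only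
  have key1 : ∀ u v k, ((∃ i, i < d ∧ u = b i) ∨ u = T) → ((∃ i, i < d ∧ v = b i) ∨ v = T) →
      k + 1 < d → u + v = S k → (u = b k ∧ v = b (k + 1)) ∨ (u = b (k + 1) ∧ v = b k) := by
    have hTb : ∀ j k, j < d → k + 1 < d → T + b j ≠ S k := by
      intro j k hj hk h
      have h' : ∀ l, l = 0 ∨ l = 2 ∨ l = d - 1 → j = l ∨ k = l ∨ k + 1 = l := by
        intro l hl
        have := congrArg (co l) h
        rw [map_add, hcoT, hco j l hj, hcoS k l hk, if_pos hl] at this
        split_ifs at this with ha hb <;> first | omega | exact absurd this (by simp [h10])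
      have := h' 0 (by omega)
      have := h' 2 (by omega)
      have := h' (d - 1) (by omega)
      omega
    rintro u v k (⟨i, hi, rfl⟩ | rfl) (⟨j, hj, rfl⟩ | rfl) hk h
    · have e1 : i = k ∨ j = k := by
        have h1 := congrArg (co k) h
        rw [map_add, hco i k hi, hco j k hj, hcoS k k hk, if_pos (Or.inl rfl)] at h1
        split_ifs at h1 <;> first | omega | exact absurd h1 (by simp [h10])
      have e2 : i = k + 1 ∨ j = k + 1 := by
        have h2 := congrArg (co (k + 1)) h
        rw [map_add, hco i _ hi, hco j _ hj, hcoS k _ hk, if_pos (Or.inr rfl)] at h2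
        split_ifs at h2 <;> first | omega | exact absurd h2 (by simp [h10])
      rcases e1 with rfl | rfl <;> rcases e2 with e | e <;> first | omega | (subst e; simp)
    · rw [add_comm] at h; exact absurd h (hTb i k hi hk)
    · exact absurd h (hTb j k hj hk)
    · rw [hz] at h
      have := congrArg (co k) h
      rw [map_zero, hcoS k k hk, if_pos (Or.inl rfl)] at this
      exact absurd this.symm h10
  have key2 : ∀ i j k, i + 1 < d → j + 1 < d → k + 1 < d → S i + S j ≠ S k := by
    intro i j k hi hj hk h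
    have h' : ∀ l, (if i = l ∨ i + 1 = l then (1 : ZMod 2) else 0) +
        (if j = l ∨ j + 1 = l then 1 else 0) = if k = l ∨ k + 1 = l then 1 else 0 := fun l => by
      have := congrArg (co l) h
      rwa [map_add, hcoS i l hi, hcoS j l hj, hcoS k l hk] at this
    have hne0 : ∀ m, m + 1 < d → S m ≠ 0 := fun m hm e => by
      have := congrArg (co m) e
      rw [map_zero, hcoS m m hm, if_pos (Or.inl rfl)] at this
      exact h10 this
    have d1 : i ≠ j := fun e => hne0 k hk (by rw [← h, e, hz])
    have d2 : i ≠ k := fun e => hne0 j hj (by rw [e] at h; exact add_eq_left.1 h)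
    have d3 : j ≠ k := fun e => hne0 i hi (by rw [e] at h; exact add_eq_right.1 h)
    rcases (by omega : (i < j ∧ i < k) ∨ (j < i ∧ j < k) ∨ (k < i ∧ k < j)) with hm | hm | hm
    · have := h' i
      rw [if_pos (Or.inl rfl), if_neg (by omega), if_neg (by omega), add_zero] at this
      exact h10 this
    · have := h' j
      rw [if_pos (Or.inl rfl), if_neg (by omega), if_neg (by omega), zero_add] at this
      exact h10 this
    · have := h' k
      rw [if_pos (Or.inl rfl), if_neg (by omega), if_neg (by omega), add_zero] at this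
      exact h10 this.symm
  -- lines inside the set
  have cls : ∀ y z, y ∈ Y → z ∈ Y → y + z ∈ Y → ∃ k, k + 1 < d ∧
      ((y = b k ∧ z = b (k + 1)) ∨ (y = b (k + 1) ∧ z = b k) ∨ (y = b k ∧ z = S k) ∨
        (y = S k ∧ z = b k) ∨ (y = b (k + 1) ∧ z = S k) ∨ (y = S k ∧ z = b (k + 1))) := by
    have hsplit : ∀ y ∈ Y, (P y = 1 ∧ ((∃ i, i < d ∧ y = b i) ∨ y = T)) ∨
        (P y = 0 ∧ ∃ i, i + 1 < d ∧ y = S i) := by
      rintro y (⟨i, hi, rfl⟩ | ⟨i, hi, rfl⟩ | rfl)
      · exact Or.inl ⟨hP i hi, Or.inl ⟨i, hi, rfl⟩⟩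
      · exact Or.inr ⟨hPS i hi, i, hi, rfl⟩
      · exact Or.inl ⟨hPT, Or.inr rfl⟩
    intro y z hy hz' hyz
    rcases hsplit y hy with ⟨py, ky⟩ | ⟨py, ky⟩ <;> rcases hsplit z hz' with ⟨pz, kz⟩ | ⟨pz, kz⟩ <;>
      rcases hsplit _ hyz with ⟨pw, kw⟩ | ⟨pw, kw⟩ <;> rw [map_add, py, pz] at pw
    all_goals try simp [h11] at pw
    · obtain ⟨k, hk, e⟩ := kw
      rcases key1 y z k ky kz hk e with h | h
      exacts [⟨k, hk, Or.inl h⟩, ⟨k, hk, Or.inr (Or.inl h)⟩]
    · obtain ⟨k, hk, rfl⟩ := kz
      have e : y + (y + S k) = S k := by rw [← add_assoc, hz, zero_add]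
      rcases key1 y _ k ky kw hk e with ⟨h, -⟩ | ⟨h, -⟩
      exacts [⟨k, hk, Or.inr (Or.inr (Or.inl ⟨h, rfl⟩))⟩,
        ⟨k, hk, Or.inr (Or.inr (Or.inr (Or.inr (Or.inl ⟨h, rfl⟩))))⟩]
    · obtain ⟨k, hk, rfl⟩ := ky
      have e : z + (S k + z) = S k := by rw [add_comm (S k) z, ← add_assoc, hz, zero_add]
      rcases key1 z _ k kz kw hk e with ⟨h, -⟩ | ⟨h, -⟩
      exacts [⟨k, hk, Or.inr (Or.inr (Or.inr (Or.inl ⟨rfl, h⟩)))⟩,
        ⟨k, hk, Or.inr (Or.inr (Or.inr (Or.inr (Or.inr ⟨rfl, h⟩))))⟩]
    · obtain ⟨i, hi, rfl⟩ := ky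
      obtain ⟨j, hj, rfl⟩ := kz
      obtain ⟨k, hk, e⟩ := kw
      exact absurd e (key2 i j k hi hj hk)
  let N : R' → R' → Prop := fun y z => y ∈ Y ∧ z ∈ Y ∧ y + z ∈ Y
  have hbY : ∀ i, i < d → b i ∈ Y := fun i hi => Or.inl ⟨i, hi, rfl⟩
  have hSY : ∀ i, i + 1 < d → S i ∈ Y := fun i hi => Or.inr (Or.inl ⟨i, hi, rfl⟩)
  have hnbT : ∀ z, ¬ N T z := by
    rintro z ⟨h1, h2, h3⟩
    obtain ⟨k, hk, h⟩ := cls T z h1 h2 h3
    rcases h with ⟨h, -⟩ | ⟨h, -⟩ | ⟨h, -⟩ | ⟨h, -⟩ | ⟨h, -⟩ | ⟨h, -⟩
    exacts [hbT k (by omega) h.symm, hbT (k + 1) hk h.symm, hbT k (by omega) h.symm,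
      hST k hk h.symm, hbT (k + 1) hk h.symm, hST k hk h.symm]
  have hNbb : ∀ i, i + 1 < d → N (b i) (b (i + 1)) := fun i hi =>
    ⟨hbY i (by omega), hbY _ hi, hSY i hi⟩
  have hNsymm : ∀ y z, N y z → N z y := fun y z ⟨h1, h2, h3⟩ => ⟨h2, h1, by rwa [add_comm]⟩
  have hnbb : ∀ i z, i < d → N (b i) z →
      (i + 1 < d ∧ (z = b (i + 1) ∨ z = S i)) ∨ (1 ≤ i ∧ (z = b (i - 1) ∨ z = S (i - 1))) := by
    rintro i z hi ⟨h1, h2, h3⟩
    obtain ⟨k, hk, h⟩ := cls _ z h1 h2 h3
    rcases h with ⟨h, e⟩ | ⟨h, e⟩ | ⟨h, e⟩ | ⟨h, e⟩ | ⟨h, e⟩ | ⟨h, e⟩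
    · obtain rfl := hbinj i k hi (by omega) h; exact Or.inl ⟨hk, Or.inl e⟩
    · obtain rfl := hbinj i (k + 1) hi hk h; exact Or.inr ⟨by omega, Or.inl e⟩
    · obtain rfl := hbinj i k hi (by omega) h; exact Or.inl ⟨hk, Or.inr e⟩
    · exact absurd h (hbS i k hi hk)
    · obtain rfl := hbinj i (k + 1) hi hk h; exact Or.inr ⟨by omega, Or.inr e⟩
    · exact absurd h (hbS i k hi hk)
  have hadj : ∀ i j, i < d → j < d → N (b i) (b j) → j = i + 1 ∨ j + 1 = i := by
    intro i j hi hj h
    rcases hnbb i _ hi h with ⟨hk, e | e⟩ | ⟨hk, e | e⟩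
    · exact Or.inl (hbinj j (i + 1) hj hk e)
    · exact absurd e (hbS j i hj hk)
    · exact Or.inr (by have := hbinj j (i - 1) hj (by omega) e; omega)
    · exact absurd e (hbS j (i - 1) hj (by omega))
  -- the points on two lines
  have hmid : ∀ y z z', N y z → N y z' → z' ≠ z → z' ≠ y + z →
      ∃ i, 1 ≤ i ∧ i + 1 < d ∧ y = b i := by
    intro y z z' hn hn' hne hne'
    have hbSb : ∀ k, b k + S k = b (k + 1) := fun k => by
      show b k + (b k + b (k + 1)) = _
      rw [← add_assoc, hz, zero_add]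
    have hbSb' : ∀ k, b (k + 1) + S k = b k := fun k => by
      show b (k + 1) + (b k + b (k + 1)) = _
      rw [add_left_comm, hz, add_zero]
    rcases hn.1 with ⟨i, hi, rfl⟩ | ⟨i, hi, rfl⟩ | rfl
    · by_contra hcon
      push Not at hcon
      have hend : i = 0 ∨ i + 1 = d := by
        by_contra hc; push Not at hc; exact hcon i (by omega) (by omega) rfl
      rcases hend with rfl | hend
      · rcases hnbb 0 z hi hn with ⟨-, e⟩ | ⟨h, -⟩
        swap; · omega
        rcases hnbb 0 z' hi hn' with ⟨-, e'⟩ | ⟨h, -⟩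
        swap; · omega
        rcases e with rfl | rfl <;> rcases e' with rfl | rfl
        exacts [hne rfl, hne' rfl, hne' (hbSb 0).symm, hne rfl]
      · obtain ⟨k, rfl⟩ : ∃ k, i = k + 1 := ⟨i - 1, by omega⟩
        rcases hnbb _ z hi hn with ⟨h, -⟩ | ⟨-, e⟩
        · omega
        rcases hnbb _ z' hi hn' with ⟨h, -⟩ | ⟨-, e'⟩
        · omega
        simp only [Nat.add_sub_cancel] at e e'
        rcases e with rfl | rfl <;> rcases e' with rfl | rfl
        exacts [hne rfl, hne' (add_comm _ _), hne' (hbSb' k).symm, hne rfl]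
    · exfalso
      have side : ∀ x, N (S i) x → x = b i ∨ x = b (i + 1) := by
        rintro x ⟨h1, h2, h3⟩
        obtain ⟨k, hk, h⟩ := cls _ x h1 h2 h3
        rcases h with ⟨h, -⟩ | ⟨h, -⟩ | ⟨h, -⟩ | ⟨h, e⟩ | ⟨h, -⟩ | ⟨h, e⟩
        · exact absurd h.symm (hbS k i (by omega) hi)
        · exact absurd h.symm (hbS _ i hk hi)
        · exact absurd h.symm (hbS k i (by omega) hi)
        · obtain rfl := hSinj i k hi hk h; exact Or.inl e
        · exact absurd h.symm (hbS _ i hk hi)
        · obtain rfl := hSinj i k hi hk h; exact Or.inr e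
      rcases side z hn with rfl | rfl <;> rcases side z' hn' with rfl | rfl
      · exact hne rfl
      · exact hne' (by rw [add_comm (S i), hbSb])
      · exact hne' (by rw [add_comm (S i), hbSb'])
      · exact hne rfl
    · exact absurd hn (hnbT z)
  have hY0 : (0 : R') ∉ Y := by
    rintro (⟨i, hi, e⟩ | ⟨i, hi, e⟩ | e)
    · have := congrArg P e; rw [map_zero, hP i hi] at this; exact h10 this.symm
    · have := congrArg (co i) e
      rw [map_zero, hcoS i i hi, if_pos (Or.inl rfl)] at this; exact h10 this.symm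
    · have := congrArg P e; rw [map_zero, hPT] at this; exact h10 this.symm
  refine ⟨Y, hY0, fun f hf hfY => ?_⟩
  have hs : Function.Surjective f := Finite.surjective_of_injective hf
  have hN : ∀ y z, N y z → N (f y) (f z) := fun y z ⟨h1, h2, h3⟩ =>
    ⟨(hfY y).2 h1, (hfY z).2 h2, by rw [← map_add]; exact (hfY _).2 h3⟩
  have hfT : f T = T := by
    by_contra hne
    have hT : f T ∈ Y := (hfY T).2 (Or.inr (Or.inr rfl))
    obtain ⟨z, hz'⟩ : ∃ z, N (f T) z := by
      rcases hT with ⟨i, hi, e⟩ | ⟨i, hi, e⟩ | e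
      · rcases Nat.lt_or_ge (i + 1) d with h | h
        · exact ⟨_, e ▸ hNbb i h⟩
        · refine ⟨b (i - 1), e ▸ hNsymm _ _ ?_⟩
          have := hNbb (i - 1) (by omega)
          rwa [show i - 1 + 1 = i by omega] at this
      · refine ⟨b i, e ▸ ⟨hSY i hi, hbY i (by omega), ?_⟩⟩
        show b i + b (i + 1) + b i ∈ Y
        rw [add_comm, ← add_assoc, hz, zero_add]
        exact hbY _ hi
      · exact absurd e hne
    obtain ⟨z₀, rfl⟩ := hs z
    exact hnbT z₀ ⟨Or.inr (Or.inr rfl), (hfY _).1 hz'.2.1,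
      (hfY _).1 (by rw [map_add]; exact hz'.2.2)⟩
  -- the middle of the path
  have he : ∀ i, 1 ≤ i → i + 1 < d → ∃ j, 1 ≤ j ∧ j + 1 < d ∧ f (b i) = b j := by
    intro i h1 h2
    have n1 : N (b i) (b (i - 1)) := by
      refine hNsymm _ _ ?_
      have := hNbb (i - 1) (by omega)
      rwa [show i - 1 + 1 = i by omega] at this
    refine hmid _ _ (f (b (i + 1))) (hN _ _ n1) (hN _ _ (hNbb i h2)) (fun e => ?_) (fun e => ?_)
    · have := hbinj _ _ h2 (by omega) (hf e)
      omega
    · rw [← map_add] at e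
      refine hbS (i + 1) (i - 1) h2 (by omega) ((hf e).trans ?_)
      show b i + b (i - 1) = b (i - 1) + b (i - 1 + 1)
      rw [show i - 1 + 1 = i by omega, add_comm]
  choose e he1 he2 he3 using he
  let g : ℕ → ℕ := fun i => if h : 1 ≤ i ∧ i + 1 < d then e i h.1 h.2 else 0
  have hg : ∀ i, 1 ≤ i → i + 1 < d → (1 ≤ g i ∧ g i + 1 < d) ∧ f (b i) = b (g i) := by
    intro i h1 h2
    simp only [g, dif_pos (And.intro h1 h2)]
    exact ⟨⟨he1 i h1 h2, he2 i h1 h2⟩, he3 i h1 h2⟩
  have hgstep : ∀ i, 1 ≤ i → i + 2 < d → g (i + 1) = g i + 1 ∨ g (i + 1) + 1 = g i := by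
    intro i h1 h2
    obtain ⟨⟨-, a⟩, a'⟩ := hg i h1 (by omega)
    obtain ⟨⟨-, c⟩, c'⟩ := hg (i + 1) (by omega) h2
    have := hN _ _ (hNbb i (by omega))
    rw [a', c'] at this
    exact hadj _ _ (by omega) (by omega) this
  have hginj : ∀ i, 1 ≤ i → i + 3 < d → g (i + 2) ≠ g i := by
    intro i h1 h2 heq
    have a' := (hg i h1 (by omega)).2
    have c' := (hg (i + 2) (by omega) (by omega)).2
    rw [heq, ← a'] at c'
    have := hbinj _ _ (by omega) (by omega) (hf c')
    omega
  have hg1 := hg 1 le_rfl (by omega)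
  have hend : ∀ i u, i < d → N (b i) u → (∀ j, 1 ≤ i → j + 1 = i → u = b j → False) →
      (∀ j, 1 ≤ i → j + 1 = i → u = S j → False) → i + 1 < d ∧ (u = b (i + 1) ∨ u = S i) := by
    intro i u hi hn h1 h2
    rcases hnbb i u hi hn with h | ⟨h, e | e⟩
    · exact h
    · exact (h1 (i - 1) h (by omega) e).elim
    · exact (h2 (i - 1) h (by omega) e).elim
  rcases hgstep 1 le_rfl (by omega) with hup | hdn
  · -- increasing
    have hlin : ∀ i, 1 ≤ i → i + 1 < d → g i + 1 = g 1 + i ∧
        (i + 2 < d → g (i + 1) = g i + 1) := by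
      intro i h1
      induction i, h1 using Nat.le_induction with
      | base => exact fun _ => ⟨rfl, fun _ => hup⟩
      | succ i h1 ih =>
        intro h2
        obtain ⟨ih1, ih2⟩ := ih (by omega)
        have := ih2 (by omega)
        refine ⟨by omega, fun h3 => ?_⟩
        rcases hgstep (i + 1) (by omega) h3 with h | h
        · exact h
        · have h' : g (i + 2) + 1 = g (i + 1) := h
          exact absurd (show g (i + 2) = g i by omega) (hginj i h1 (by omega))
    have hg11 : g 1 = 1 := by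
      have := (hlin (d - 2) (by omega) (by omega)).1
      have := (hg (d - 2) (by omega) (by omega)).1
      have := hg1.1
      omega
    have hfixmid : ∀ i, 1 ≤ i → i + 1 < d → f (b i) = b i := by
      intro i h1 h2
      rw [(hg i h1 h2).2]
      congr 1
      have := (hlin i h1 h2).1
      omega
    have hS' : ∀ i, 1 ≤ i → i + 2 < d → f (S i) = S i := fun i h1 h2 => by
      show f (b i + b (i + 1)) = _
      rw [map_add, hfixmid i h1 (by omega), hfixmid (i + 1) (by omega) h2]
    -- the ends
    have h0 : f (b 0) = b 0 ∨ f (b 0) = S 0 := by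
      have hn := hN _ _ (hNsymm _ _ (hNbb 0 (by omega)))
      rw [zero_add, hfixmid 1 le_rfl (by omega)] at hn
      rcases hnbb 1 _ (by omega) hn with ⟨-, e | e⟩ | ⟨-, e | e⟩
      · rw [← hfixmid 2 (by omega) (by omega)] at e
        have := hbinj _ _ (by omega) (by omega) (hf e); omega
      · rw [← hS' 1 le_rfl (by omega)] at e
        exact absurd (hf e) (hbS 0 1 (by omega) (by omega))
      · exact Or.inl e
      · exact Or.inr e
    have hl : f (b (d - 1)) = b (d - 1) ∨ f (b (d - 1)) = S (d - 2) := by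
      have hn := hN _ _ (hNbb (d - 2) (by omega))
      rw [hfixmid (d - 2) (by omega) (by omega), show d - 2 + 1 = d - 1 by omega] at hn
      rcases hnbb (d - 2) _ (by omega) hn with ⟨-, e | e⟩ | ⟨-, e | e⟩
      · left; rwa [show d - 2 + 1 = d - 1 by omega] at e
      · exact Or.inr e
      · rw [← hfixmid (d - 2 - 1) (by omega) (by omega)] at e
        have := hbinj _ _ (by omega) (by omega) (hf e); omega
      · rw [← hS' (d - 2 - 1) (by omega) (by omega)] at e
        exact absurd (hf e) (hbS _ _ (by omega) (by omega))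
    have h2 : f (b 2) = b 2 := hfixmid 2 (by omega) (by omega)
    have hT' : f (b 0) + b 2 + f (b (d - 1)) = T := by
      rw [← h2, ← map_add, ← map_add]; exact hfT
    have t1 := congrArg (co 1) hT'
    have t2 := congrArg (co (d - 2)) hT'
    rw [map_add, map_add, hcoT, hco 2 1 (by omega)] at t1
    rw [map_add, map_add, hcoT, hco 2 (d - 2) (by omega)] at t2
    have h0' : f (b 0) = b 0 := by
      rcases h0 with h0 | h0
      · exact h0
      exfalso
      rw [h0, hcoS 0 1 (by omega)] at t1
      rcases hl with hl | hl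
      · rw [hl, hco (d - 1) 1 (by omega)] at t1
        split_ifs at t1 <;> first | omega | (simp at t1; done) | (simp at * <;> omega)
      · rw [hl, hcoS (d - 2) 1 (by omega)] at t1
        split_ifs at t1 <;> first | omega | (simp at t1; done) | (simp at * <;> omega)
    have hl' : f (b (d - 1)) = b (d - 1) := by
      rcases hl with hl | hl
      · exact hl
      exfalso
      rw [h0', hl, hco 0 (d - 2) (by omega), hcoS (d - 2) (d - 2) (by omega)] at t2
      split_ifs at t2 <;> first | omega | exact absurd t2 (by simp [h10])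
    refine hext f fun i hi => ?_
    rcases Nat.eq_zero_or_pos i with rfl | h
    · exact h0'
    rcases eq_or_ne i (d - 1) with rfl | h'
    · exact hl'
    · exact hfixmid i h (by omega)
  · -- reversed
    exfalso
    have hlin : ∀ i, 1 ≤ i → i + 1 < d → g i + i = g 1 + 1 ∧
        (i + 2 < d → g (i + 1) + 1 = g i) := by
      intro i h1
      induction i, h1 using Nat.le_induction with
      | base => exact fun _ => ⟨rfl, fun _ => hdn⟩
      | succ i h1 ih =>
        intro h2
        obtain ⟨ih1, ih2⟩ := ih (by omega)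
        have := ih2 (by omega)
        refine ⟨by omega, fun h3 => ?_⟩
        rcases hgstep (i + 1) (by omega) h3 with h | h
        · have h' : g (i + 2) = g (i + 1) + 1 := h
          exact absurd (show g (i + 2) = g i by omega) (hginj i h1 (by omega))
        · exact h
    have hg11 : g 1 = d - 2 := by
      have := (hlin (d - 2) (by omega) (by omega)).1
      have := (hg (d - 2) (by omega) (by omega)).1
      have := hg1.1
      omega
    have hmap : ∀ i, 1 ≤ i → i + 1 < d → f (b i) = b (d - 1 - i) := by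
      intro i h1 h2
      rw [(hg i h1 h2).2]
      congr 1
      have := (hlin i h1 h2).1
      omega
    have hS' : ∀ i, 1 ≤ i → i + 2 < d → f (S i) = S (d - 2 - i) := fun i h1 h2 => by
      show f (b i + b (i + 1)) = b _ + b _
      rw [map_add, hmap i h1 (by omega), hmap (i + 1) (by omega) h2, add_comm]
      congr 2 <;> omega
    have h0 : f (b 0) = b (d - 1) ∨ f (b 0) = S (d - 2) := by
      have hn := hN _ _ (hNsymm _ _ (hNbb 0 (by omega)))
      rw [zero_add, hmap 1 le_rfl (by omega), show d - 1 - 1 = d - 2 by omega] at hn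
      rcases hnbb (d - 2) _ (by omega) hn with ⟨-, e | e⟩ | ⟨-, e | e⟩
      · left; rwa [show d - 2 + 1 = d - 1 by omega] at e
      · exact Or.inr e
      · rw [show d - 2 - 1 = d - 1 - 2 by omega, ← hmap 2 (by omega) (by omega)] at e
        have := hbinj _ _ (by omega) (by omega) (hf e); omega
      · rw [← hS' 1 le_rfl (by omega)] at e
        exact absurd (hf e) (hbS 0 1 (by omega) (by omega))
    have hl : f (b (d - 1)) = b 0 ∨ f (b (d - 1)) = S 0 := by
      have hn := hN _ _ (hNbb (d - 2) (by omega))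
      rw [hmap (d - 2) (by omega) (by omega), show d - 2 + 1 = d - 1 by omega,
        show d - 1 - (d - 2) = 1 by omega] at hn
      rcases hnbb 1 _ (by omega) hn with ⟨-, e | e⟩ | ⟨-, e | e⟩
      · rw [show 1 + 1 = d - 1 - (d - 3) by omega, ← hmap (d - 3) (by omega) (by omega)] at e
        have := hbinj _ _ (by omega) (by omega) (hf e); omega
      · rw [show S 1 = S (d - 2 - (d - 3)) by congr 1; omega,
          ← hS' (d - 3) (by omega) (by omega)] at e
        exact absurd (hf e) (hbS _ _ (by omega) (by omega))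
      · exact Or.inl e
      · exact Or.inr e
    have hT' : f (b 0) + b (d - 1 - 2) + f (b (d - 1)) = T := by
      rw [← hmap 2 (by omega) (by omega), ← map_add, ← map_add]; exact hfT
    have t := congrArg (co 2) hT'
    have z0 : co 2 (f (b 0)) = 0 := by
      rcases h0 with e | e <;> rw [e]
      · rw [hco (d - 1) 2 (by omega), if_neg (by omega)]
      · rw [hcoS (d - 2) 2 (by omega), if_neg (by omega)]
    have zl : co 2 (f (b (d - 1))) = 0 := by
      rcases hl with e | e <;> rw [e]
      · rw [hco 0 2 (by omega), if_neg (by omega)]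
      · rw [hcoS 0 2 (by omega), if_neg (by omega)]
    rw [map_add, map_add, z0, zl, hcoT, hco (d - 1 - 2) 2 (by omega), if_neg (by omega),
      if_pos (by omega), add_zero, add_zero] at t
    exact h10 t.symm

end CfsgLib.CoprimeBase
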