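import Cfsg.Agent.Lib.CoprimeBase.Operator

/-!
Free pairs in general position, built from those on the fixed space of a split element.
-/

set_option autoImplicit false
set_option linter.unusedSectionVars false
set_option linter.style.haveILetI false

namespace CfsgLib.CoprimeBase

universe u w

variable {K : Type u} [Field K] {V : Type w} [AddCommGroup V] [Module K V]
variable {E H : Subgroup (V ≃ₗ[K] V)} {r : ℕ} {x y : V ≃ₗ[K] V} {ζ : K}

theorem Gen.translate (hE : Op E) {v : V} (hv : Gen E v) {g : V ≃ₗ[K] V} (hg : g ∈ E) {c : K}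
    (hc : c ≠ 0) {u : V} (hu : g v = c • u) : Gen E u := by
  intro k hk d hd
  obtain ⟨μ, hμ⟩ := hv (g⁻¹ * k * g) (E.mul_mem (E.mul_mem (E.inv_mem hg) hk) hg) d (by
    show g⁻¹ (k (g v)) = d • v
    apply g.injective
    rw [apply_inv', hu, map_smul, hd, map_smul, hu, smul_comm])
  refine ⟨μ, fun w => ?_⟩
  have := hμ (g⁻¹ w)
  rw [show (g⁻¹ * k * g) (g⁻¹ w) = g⁻¹ (k w) by rw [mul_apply', mul_apply', apply_inv']] at this
  have h2 := congrArg g this
  rwa [apply_inv', map_smul, apply_inv'] at h2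

namespace Split

theorem ne_one [Nontrivial V] (h : Split E r x y ζ) : x ≠ 1 := by
  rintro rfl
  exact h.zeta_ne (twist_unique h.twist fun v => by simp [one_apply'])

theorem not_scalar [Nontrivial V] (h : Split E r x y ζ) : ¬ IsScalar x := by
  rintro ⟨c, hc⟩
  exact h.zeta_ne (twist_unique h.twist fun v => by rw [one_smul, hc, hc, map_smul])

theorem not_gen [Nontrivial V] (h : Split E r x y ζ) {v : V} (hv : v ∈ fixSub x) : ¬ Gen E v :=
  fun hg => h.not_scalar (hg x h.x_mem 1 (by rw [one_smul, mem_fixSub.1 hv]))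

theorem comp_eigen (h : Split E r x y ζ) {j : ℕ} {c : K} {v : V} (hv : x v = c • v)
    (hne : c ≠ ζ ^ j) : h.comp j v = 0 := by
  have h1 := h.apply_proj j v
  have hp : h.proj j v = 0 := by
    have h2 : x (h.proj j v) = c • h.proj j v := by
      rw [h.proj_apply, map_smul, map_sum, smul_comm c]
      congr 1
      rw [Finset.smul_sum]
      refine Finset.sum_congr rfl fun i _ => ?_
      rw [map_smul, smul_comm c]
      congr 1
      rw [← map_smul, ← hv, ← pow_succ_apply, pow_succ, mul_apply']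
    by_contra h0
    exact hne (smul_left_injective K h0 (h2.symm.trans h1))
  apply Subtype.ext
  apply (y ^ j).injective
  rw [h.ypow_comp, hp, ZeroMemClass.coe_zero, map_zero]

theorem comp_fix (h : Split E r x y ζ) {j : ℕ} (hj : j < r) {z : V} (hz : z ∈ fixSub x) (k : ℕ)
    (hk : k < r) : (h.comp j ((y ^ k) z) : V) = if j = k then z else 0 := by
  rw [h.comp_block hj hk ⟨z, hz⟩]
  split_ifs <;> rfl

/-- An element of `E` with an eigenvector in general position in the fixed space. -/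
theorem eig_fix [Finite V] [Nontrivial V] (h : Split E r x y ζ) (hE : Op E) {v₀ : fixSub x}
    (hgen : Gen (CoprimeBase.restrict E (fixSub x)) v₀) (hv₀ : v₀ ≠ 0) {g : V ≃ₗ[K] V}
    (hg : g ∈ E) {c : K} (hc : g (v₀ : V) = c • (v₀ : V)) :
    ∃ (μ : K) (i : ℕ), ∀ v, g v = μ • (x ^ i) v := by
  have hv : (v₀ : V) ≠ 0 := fun e => hv₀ (Subtype.ext e)
  obtain ⟨j, hj, p, hp, hpx, rfl⟩ := h.decomp hE hg
  have hpv := maps_fixSub hpx v₀.2
  have hj0 : j = 0 := by
    by_contra hj0
    have h1 := h.comp_fix hj hpv j hj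
    rw [if_pos rfl, ← mul_apply', hc, map_smul, Submodule.coe_smul,
      show (h.comp j (v₀ : V) : V) = 0 by
        simpa [one_apply', hj0] using h.comp_fix hj v₀.2 0 h.prime.pos, smul_zero] at h1
    exact hv (p.map_eq_zero_iff.1 h1.symm)
  subst hj0
  rw [pow_zero, one_mul] at hc ⊢
  obtain ⟨e, he, hpe⟩ := mem_restrict_of_maps hp fun w hw => maps_fixSub hpx hw
  obtain ⟨μ, hμ⟩ := hgen e he c (Subtype.ext (by rw [← hpe, hc, Submodule.coe_smul]))
  refine h.scalar_mul_pow hE hp hpx fun q hq hqx z hz => ?_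
  rw [hpe ⟨q z, maps_fixSub hqx hz⟩, hpe ⟨z, hz⟩, hμ, hμ, Submodule.coe_smul, Submodule.coe_smul,
    map_smul]

/-- An element fixing a vector in general position of the fixed space stabilises that space. -/
theorem maps_of_fix [Finite V] [Nontrivial V] (h : Split E r x y ζ) (hE : Op E) {v₀ : fixSub x}
    (hgen : Gen (CoprimeBase.restrict E (fixSub x)) v₀) (hv₀ : v₀ ≠ 0) {a : V ≃ₗ[K] V}
    (ha : ∀ g ∈ E, a * g * a⁻¹ ∈ E) (hav : a (v₀ : V) = v₀) {z : V} (hz : z ∈ fixSub x) :
    a z ∈ fixSub x := by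
  haveI : NeZero r := ⟨h.prime.ne_zero⟩
  have hv : (v₀ : V) ≠ 0 := fun e => hv₀ (Subtype.ext e)
  have hai : a⁻¹ (v₀ : V) = v₀ := by
    conv_lhs => rw [← hav]
    rw [inv_apply']
  have h1 : (a * x * a⁻¹) (v₀ : V) = v₀ := by
    rw [mul_apply', mul_apply', hai, mem_fixSub.1 v₀.2, hav]
  obtain ⟨μ, i, hμ⟩ := h.eig_fix hE hgen hv₀ (ha x h.x_mem) (c := 1) (by rw [h1, one_smul])
  have hμ1 : μ = 1 := by
    have h2 := hμ v₀
    rw [h1, show (x ^ i) (v₀ : V) = v₀ by simpa [one_apply'] using h.xpow_ypow i 0 v₀.2] at h2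
    exact smul_left_injective K hv (show μ • (v₀ : V) = (1 : K) • (v₀ : V) by rw [one_smul, ← h2])
  have hxi : a * x * a⁻¹ = x ^ i := LinearEquiv.ext fun v => by rw [hμ, hμ1, one_smul]
  have hir : ¬ r ∣ i := by
    rintro ⟨t, rfl⟩
    rw [pow_mul, h.x_pow, one_pow, mul_inv_eq_one, mul_eq_left] at hxi
    exact h.ne_one hxi
  obtain ⟨k, hk⟩ : ∃ k, x = (x ^ i) ^ k := by
    have hcp : i.Coprime (orderOf x) := by
      rw [orderOf_eq_prime_iff (hp := ⟨h.prime⟩) |>.2 ⟨h.x_pow, h.ne_one⟩]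
      exact ((Nat.Prime.coprime_iff_not_dvd h.prime).2 hir).symm
    obtain ⟨k, hk⟩ := exists_pow_eq_self_of_coprime hcp
    exact ⟨k, hk.symm⟩
  have hfix : ∀ n, ((x ^ i) ^ n) (a z) = a z := by
    intro n
    induction n with
    | zero => rw [pow_zero, one_apply']
    | succ n ih =>
      rw [pow_succ_apply, ih, ← hxi, mul_apply', mul_apply', inv_apply', mem_fixSub.1 hz]
  show x (a z) = a z
  conv_lhs => rw [hk]
  exact hfix k

/-- The image of a block under an element fixing the fixed space. -/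
theorem apply_block {a : V ≃ₗ[K] V} {z : V} (haz : a z = z) (n : ℕ) :
    a ((y ^ n) z) = ((a * y * a⁻¹) ^ n) z := by
  conv_rhs => rw [conj_pow, mul_apply', mul_apply', ← haz, inv_apply']

/-- Vectors with given components. -/
noncomputable def blockVec (_h : Split E r x y ζ) (z : ℕ → fixSub x) : V :=
  ∑ k ∈ Finset.range r, (y ^ k) (z k : V)

theorem comp_blockVec (h : Split E r x y ζ) {j : ℕ} (hj : j < r) (z : ℕ → fixSub x) :
    h.comp j (h.blockVec z) = z j := h.comp_sum hj z

/-- An element fixing the fixed space and a vector with the components `z` is the identity. -/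
theorem eq_one_of_fix [Finite V] [Nontrivial V] (h : Split E r x y ζ) (hE : Op E) {v₀ : fixSub x}
    (hgen : Gen (CoprimeBase.restrict E (fixSub x)) v₀) (hv₀ : v₀ ≠ 0) {z : ℕ → fixSub x}
    (hz1 : z 1 = v₀) (hz2 : 2 < r → z 2 ≠ 0) {a : V ≃ₗ[K] V} (hay : a * y * a⁻¹ ∈ E)
    (hfix : ∀ w ∈ fixSub x, a w = w) (hF : a (h.blockVec z) = h.blockVec z)
    (hrig : ∀ j < r, j ≠ 1 → ∀ p ∈ E, (∀ v, x (p v) = p (x v)) → a * y * a⁻¹ = y ^ j * p →
      p (v₀ : V) = (z j : V) → False) : a = 1 := by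
  haveI : NeZero r := ⟨h.prime.ne_zero⟩
  have hv : (v₀ : V) ≠ 0 := fun e => hv₀ (Subtype.ext e)
  obtain ⟨j, hj, p, hp, hpx, hg⟩ := h.decomp hE hay
  have htw : ∀ w, x ((y ^ j * p) w) = ζ ^ j • (y ^ j * p) (x w) := fun w => by
    rw [mul_apply', apply_pow_of_twist h.twist, hpx]; rfl
  have hj0 : j ≠ 0 := by
    rintro rfl
    rw [pow_zero, one_mul] at hg
    have h1 := apply_block (y := y) (hfix (v₀ : V) v₀.2) 1
    rw [pow_one, pow_one, hg] at h1
    have h2 : a (y (v₀ : V)) ∈ fixSub x := h1 ▸ maps_fixSub hpx v₀.2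
    have h3 : a (y (v₀ : V)) = y v₀ := a.injective (hfix _ h2)
    rw [h3] at h2
    exact h.zeta_ne (smul_left_injective K (fun e => hv (y.map_eq_zero_iff.1 e))
      (show ζ • y (v₀ : V) = (1 : K) • y (v₀ : V) by
        rw [one_smul]
        exact ((h.twist _).trans (by rw [mem_fixSub.1 v₀.2])).symm.trans h2))
  have hprim : IsPrimitiveRoot (ζ ^ j) r := h.primRoot.pow_of_coprime j
    ((Nat.Prime.coprime_iff_not_dvd h.prime).2 fun hd => hj0 (Nat.eq_zero_of_dvd_of_lt hd hj)).symm
  have hterm : ∀ k, a ((y ^ k) (z k : V)) = ((y ^ j * p) ^ k) (z k : V) := fun k => by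
    rw [apply_block (hfix _ (z k).2), hg]
  have hblock : ∀ m k₀, k₀ < r → m < r → (ζ ^ j) ^ k₀ = ζ ^ m →
      h.comp m (a (h.blockVec z)) = h.comp m (((y ^ j * p) ^ k₀) (z k₀ : V)) := by
    intro m k₀ hk₀ hm hjk
    rw [blockVec, map_sum, map_sum, Finset.sum_eq_single k₀]
    · rw [hterm]
    · intro k hk hne
      rw [hterm]
      refine h.comp_eigen (c := (ζ ^ j) ^ k) ?_ fun e => hne (hprim.pow_inj (Finset.mem_range.1 hk) hk₀
        (e.trans hjk.symm))
      rw [apply_pow_of_twist htw, mem_fixSub.1 (z k).2]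
    · intro hk; exact absurd (Finset.mem_range.2 hk₀) hk
  have h1r : 1 < r := h.prime.one_lt
  have hb1 := hblock j 1 h1r hj (pow_one _)
  rw [hF, h.comp_blockVec hj, pow_one, hz1, mul_apply'] at hb1
  have hpv : p (v₀ : V) = (z j : V) := by
    rw [hb1, h.comp_fix hj (maps_fixSub hpx v₀.2) j hj, if_pos rfl]
  obtain rfl : j = 1 := by
    by_contra hj1
    exact hrig j hj hj1 p hp hpx hg hpv
  rw [hz1] at hpv
  obtain ⟨μ, i, hμ⟩ := h.eig_fix hE hgen hv₀ hp (c := 1) (by rw [hpv, one_smul])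
  have hxi : ∀ w ∈ fixSub x, (x ^ i) w = w := fun w hw => by
    simpa [one_apply'] using h.xpow_ypow i 0 hw
  have hμ1 : μ = 1 := by
    have h2 := hμ v₀
    rw [hpv, hxi _ v₀.2] at h2
    exact smul_left_injective K hv (show μ • (v₀ : V) = (1 : K) • (v₀ : V) by rw [one_smul, ← h2])
  have hp' : p = x ^ i := LinearEquiv.ext fun w => by rw [hμ, hμ1, one_smul]
  rw [hp', pow_one] at hg
  have hgy : ∀ w ∈ fixSub x, (y * x ^ i) w = y w := fun w hw => by rw [mul_apply', hxi w hw]
  by_cases h2r : 2 < r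
  · -- the third block fixes the power
    have hg2 : ∀ w ∈ fixSub x, ((y * x ^ i) ^ 2) w = ζ ^ i • (y ^ 2) w := fun w hw => by
      have e1 : (x ^ i) (y w) = ζ ^ i • y w := by
        have := h.xpow_ypow i 1 hw
        simpa [pow_one] using this
      rw [pow_two, mul_apply', hgy w hw, mul_apply', e1, map_smul, pow_two, mul_apply']
    have hb2 := hblock 2 2 h2r h2r (by rw [pow_one])
    rw [hF, h.comp_blockVec h2r, hp', pow_one, hg2 _ (z 2).2, map_smul] at hb2
    have e2 : h.comp 2 ((y ^ 2) (z 2 : V)) = z 2 := by rw [h.comp_block h2r h2r, if_pos rfl]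
    rw [e2] at hb2
    have hζi : ζ ^ i = 1 := by
      by_contra hne
      exact hz2 h2r ((smul_eq_zero.1 (show (ζ ^ i - 1) • z 2 = 0 by
        rw [sub_smul, ← hb2, one_smul, sub_self])).resolve_left (sub_ne_zero.2 hne))
    have hx1 : x ^ i = 1 := h.ext_blocks fun k _ w hw => by
      rw [h.xpow_ypow i k hw, one_apply', ← pow_mul, mul_comm, pow_mul, hζi, one_pow, one_smul]
    rw [hx1, mul_one] at hg
    refine h.ext_blocks fun k _ w hw => ?_
    rw [apply_block (hfix w hw), hg, one_apply']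
  · have hr2 : r = 2 := by omega
    refine h.ext_blocks fun k hk w hw => ?_
    rw [apply_block (hfix w hw), hg, one_apply']
    rcases (show k = 0 ∨ k = 1 by omega) with rfl | rfl
    · rw [pow_zero, pow_zero]
    · rw [pow_one, pow_one, hgy w hw]

/-- The step. -/
theorem good_step [Finite V] [Nontrivial V] (h : Split E r x y ζ) (hE : Op E) (hH : Norms H E)
    (hgood : Good (CoprimeBase.restrict E (fixSub x)) (CoprimeBase.restrict H (fixSub x))) :
    Good E H := by
  obtain ⟨v₀, u₀, hv₀, hu₀, hgen, horb, hfree⟩ := hgood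
  have hv : (v₀ : V) ≠ 0 := fun e => hv₀ (Subtype.ext e)
  let z : ℕ → fixSub x := fun k => if k = 1 then v₀ else u₀
  have hz1 : z 1 = v₀ := if_pos rfl
  have hno : ∀ p ∈ E, (∀ v, x (p v) = p (x v)) → ∀ c : K, p (v₀ : V) ≠ c • (u₀ : V) := by
    intro p hp hpx c e
    obtain ⟨q, hq, hpq⟩ := mem_restrict_of_maps hp fun w hw => maps_fixSub hpx hw
    exact horb q hq c (Subtype.ext (by rw [← hpq, e, Submodule.coe_smul]))
  set F := h.blockVec z with hF
  have hF1 : h.comp 1 F = v₀ := by rw [hF, h.comp_blockVec h.prime.one_lt, hz1]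
  have hF0 : h.comp 0 F = u₀ := by rw [hF, h.comp_blockVec h.prime.pos]; rfl
  have hFne : F ≠ 0 := fun e => hv₀ (by rw [← hF1, e, map_zero])
  have hgenF : Gen E F := by
    intro g hg c hc
    obtain ⟨j, hj, p, hp, hpx, rfl⟩ := h.decomp hE hg
    have htw : ∀ (k : ℕ) w, w ∈ fixSub x →
        x ((y ^ j * p) ((y ^ k) w)) = ζ ^ (j + k) • (y ^ j * p) ((y ^ k) w) := fun k w hw => by
      rw [mul_apply', apply_pow_of_twist h.twist, hpx, h.apply_ypow k hw, map_smul, map_smul,
        smul_smul, ← pow_add]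
    have hsingle : ∀ m k₀, k₀ < r → m < r → ζ ^ (j + k₀) = ζ ^ m →
        c • z m = h.comp m ((y ^ j * p) ((y ^ k₀) (z k₀ : V))) := by
      intro m k₀ hk₀ hm hjk
      rw [← h.comp_blockVec hm z, ← map_smul, ← hF, ← hc, hF, blockVec, map_sum, map_sum,
        Finset.sum_eq_single k₀]
      · intro k hk hne
        refine h.comp_eigen (htw k _ (z k).2) fun e => hne ?_
        rw [pow_add, ← hjk, pow_add] at e
        exact h.primRoot.pow_inj (Finset.mem_range.1 hk) hk₀
          (mul_left_cancel₀ (pow_ne_zero j (h.primRoot.ne_zero h.prime.ne_zero)) e)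
      · intro hk; exact absurd (Finset.mem_range.2 hk₀) hk
    obtain ⟨κ, hκ⟩ := hE.comm p hp y h.y_mem
    by_cases hj0 : j = 0
    · subst hj0
      have e0 := hsingle 0 0 h.prime.pos h.prime.pos rfl
      simp only [pow_zero, one_mul, one_apply'] at e0
      have e1 := hsingle 1 1 h.prime.one_lt h.prime.one_lt rfl
      rw [hz1, pow_zero, one_mul, pow_one, hκ, map_smul] at e1
      have e1' : h.comp 1 (y (p (v₀ : V))) = ⟨p (v₀ : V), maps_fixSub hpx v₀.2⟩ := by
        have := h.comp_block h.prime.one_lt h.prime.one_lt ⟨p (v₀ : V), maps_fixSub hpx v₀.2⟩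
        rwa [if_pos rfl, pow_one] at this
      rw [e1'] at e1
      haveI : Nontrivial V := ⟨⟨_, 0, hv⟩⟩
      have hκ0 := twist_ne_zero hκ
      obtain ⟨μ, i, hμ⟩ := h.eig_fix hE hgen hv₀ hp (c := κ⁻¹ * c) (by
        have e2 : c • (v₀ : V) = κ • p (v₀ : V) := congrArg Subtype.val e1
        rw [mul_smul, e2, inv_smul_smul₀ hκ0])
      have hxi : ∀ w ∈ fixSub x, (x ^ i) w = w := fun w hw => by
        simpa [one_apply'] using h.xpow_ypow i 0 hw
      have hz0 : z 0 = u₀ := rfl
      have e3 : c • (u₀ : V) = μ • (u₀ : V) := by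
        have hin : p (u₀ : V) ∈ fixSub x := maps_fixSub hpx u₀.2
        have := congrArg Subtype.val e0
        rw [hz0, Submodule.coe_smul] at this
        rw [this, show (h.comp 0 (p (u₀ : V)) : V) = p (u₀ : V) by
          simpa [one_apply'] using h.comp_fix h.prime.pos hin 0 h.prime.pos, hμ, hxi _ u₀.2]
      have hcμ : c = μ := smul_left_injective K (fun e => hu₀ (Subtype.ext e)) e3
      have e4 : c • (v₀ : V) = (μ * ζ ^ i) • (v₀ : V) := by
        have hyv : y (p (v₀ : V)) = μ • y (v₀ : V) := by rw [hμ, hxi _ v₀.2, map_smul]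
        have h5 : p (y (v₀ : V)) = (μ * ζ ^ i) • y (v₀ : V) := by
          rw [hμ, show (x ^ i) (y (v₀ : V)) = ζ ^ i • y (v₀ : V) by
            simpa [pow_one] using h.xpow_ypow i 1 v₀.2, smul_smul]
        rw [hκ, hyv, smul_smul] at h5
        have h6 : κ * μ = μ * ζ ^ i :=
          smul_left_injective K (fun e => hv (y.map_eq_zero_iff.1 e)) h5
        have e2 : c • (v₀ : V) = κ • p (v₀ : V) := congrArg Subtype.val e1
        rw [e2, hμ, hxi _ v₀.2, smul_smul, h6]
      have h7 : μ = μ * ζ ^ i := (hcμ.symm.trans (smul_left_injective K hv e4))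
      have hμ0 : μ ≠ 0 := fun e => hv (p.map_eq_zero_iff.1 (by rw [hμ, e, zero_smul]))
      have hζi : ζ ^ i = 1 := (mul_eq_left₀ hμ0).1 h7.symm
      refine ⟨μ, fun v => ?_⟩
      rw [pow_zero, one_mul, hμ, show x ^ i = 1 from h.ext_blocks fun k _ w hw => by
        rw [h.xpow_ypow i k hw, one_apply', ← pow_mul, mul_comm, pow_mul, hζi, one_pow, one_smul],
        one_apply']
    · exfalso
      set k₀ := (r + 1 - j) % r with hk₀
      have hk₀r : k₀ < r := Nat.mod_lt _ h.prime.pos
      have hk1 : k₀ ≠ 1 := by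
        intro e
        rcases Nat.lt_or_ge (r + 1 - j) r with h1 | h1
        · rw [hk₀, Nat.mod_eq_of_lt h1] at e; omega
        · rw [hk₀, show r + 1 - j = r by omega, Nat.mod_self] at e; omega
      obtain ⟨m, hm⟩ : ∃ m, j + k₀ = 1 + r * m := by
        rcases Nat.lt_or_ge (r + 1 - j) r with h1 | h1
        · exact ⟨1, by rw [hk₀, Nat.mod_eq_of_lt h1]; omega⟩
        · exact ⟨0, by rw [hk₀, show r + 1 - j = r by omega, Nat.mod_self]; omega⟩
      have e1 := hsingle 1 k₀ hk₀r h.prime.one_lt (by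
        rw [hm, pow_add, pow_mul, h.zeta_pow, one_pow, mul_one])
      obtain ⟨κ', hκ'⟩ := hE.comm p hp (y ^ k₀) (E.pow_mem h.y_mem k₀)
      have hz : z k₀ = u₀ := if_neg hk1
      rw [hz1, hz, mul_apply', hκ', map_smul, ← pow_add_apply, hm, pow_add, pow_one,
        mul_apply'] at e1
      set q := y ^ (r * m) * p with hq
      have hqx : ∀ v, x (q v) = q (x v) := fun v => by
        rw [hq, mul_apply', apply_pow_of_twist h.twist, pow_mul, h.zeta_pow, one_pow, one_smul, hpx]
        rfl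
      have hqu := maps_fixSub hqx u₀.2
      rw [map_smul, show (y ^ (r * m)) (p (u₀ : V)) = q (u₀ : V) from rfl,
        show h.comp 1 (y (q (u₀ : V))) = ⟨q (u₀ : V), hqu⟩ by
          have := h.comp_block h.prime.one_lt h.prime.one_lt ⟨q (u₀ : V), hqu⟩
          rwa [if_pos rfl, pow_one] at this] at e1
      have e2 : c • (v₀ : V) = κ' • q (u₀ : V) := congrArg Subtype.val e1
      have hκ0 : κ' ≠ 0 := twist_ne_zero hκ'
      have hc0 : c ≠ 0 := by
        rintro rfl
        rw [zero_smul, eq_comm, smul_eq_zero] at e2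
        exact hu₀ (Subtype.ext (q.map_eq_zero_iff.1 (e2.resolve_left hκ0)))
      have hqE : q ∈ E := E.mul_mem (E.pow_mem h.y_mem _) hp
      refine hno q⁻¹ (E.inv_mem hqE) (fun v => ?_) (c⁻¹ * κ') ?_
      · apply q.injective
        rw [apply_inv', ← hqx, apply_inv']
      · apply q.injective
        rw [apply_inv', map_smul, mul_smul, ← e2, inv_smul_smul₀ hc0]
  refine ⟨F, v₀, hFne, hv, hgenF, fun g hg c e => ?_, fun a ha haF hav => ?_⟩
  · rcases eq_or_ne c 0 with rfl | hc
    · exact hFne (g.map_eq_zero_iff.1 (by rw [e, zero_smul]))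
    · exact h.not_gen v₀.2 (hgenF.translate hE hg hc e)
  · have hmaps : ∀ w ∈ fixSub x, a w ∈ fixSub x := fun w hw =>
      h.maps_of_fix hE hgen hv₀ (hH a ha) hav hw
    obtain ⟨e, he, hae⟩ := mem_restrict_of_maps ha hmaps
    have hau : a (u₀ : V) = u₀ := by
      have h1 : h.comp 0 (a F) = h.comp 0 F := by rw [haF]
      rw [hF0, ← h.sum_comp F, map_sum, map_sum, Finset.sum_eq_single 0] at h1
      · rw [pow_zero, one_apply', hF0] at h1
        have h2 := h.comp_fix h.prime.pos (hmaps _ u₀.2) 0 h.prime.pos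
        rw [pow_zero, one_apply', h1, if_pos rfl] at h2
        exact h2.symm
      · intro k hk hk0
        obtain ⟨j, hj, q, hq, hqx, hg⟩ := h.decomp hE (hH a ha (y ^ k) (E.pow_mem h.y_mem k))
        have hy : a ((y ^ k) (h.comp k F : V)) = (y ^ j) (q (a (h.comp k F : V))) := by
          rw [← mul_apply' (y ^ j) q, ← hg, mul_apply', mul_apply', inv_apply']
        rw [hy]
        have hj0 : j ≠ 0 := by
          rintro rfl
          rw [pow_zero, one_mul] at hg
          have hai : a⁻¹ (v₀ : V) = v₀ := by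
            conv_lhs => rw [← hav]
            rw [inv_apply']
          have h3 : ∀ w ∈ fixSub x, (y ^ k) w ∈ fixSub x := fun w hw => by
            have h4 : a ((y ^ k) w) ∈ fixSub x := by
              rw [← inv_apply' a w, ← mul_apply' (y ^ k), ← mul_apply' a, ← mul_assoc, hg]
              exact maps_fixSub hqx (hmaps w hw)
            have h4' := h.maps_of_fix hE hgen hv₀ (hH a⁻¹ (H.inv_mem ha)) hai h4
            rwa [inv_apply'] at h4'
          have h5 := h.apply_ypow k v₀.2
          rw [mem_fixSub.1 (h3 _ v₀.2)] at h5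
          have h6 : ζ ^ k = 1 := smul_left_injective K (fun e => hv ((y ^ k).map_eq_zero_iff.1 e))
            (show ζ ^ k • (y ^ k) (v₀ : V) = (1 : K) • (y ^ k) (v₀ : V) by rw [one_smul, ← h5])
          exact h.primRoot.pow_ne_one_of_pos_of_lt hk0 (Finset.mem_range.1 hk) h6
        apply Subtype.ext
        rw [h.comp_fix h.prime.pos (maps_fixSub hqx (hmaps _ (h.comp k F).2)) j hj,
          if_neg (Ne.symm hj0)]
        rfl
      · intro hk; exact absurd (Finset.mem_range.2 h.prime.pos) hk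
    have he1 := hfree e he (Subtype.ext (by rw [← hae, hav])) (Subtype.ext (by rw [← hae, hau]))
    refine h.eq_one_of_fix hE hgen hv₀ hz1 (fun _ => by simpa [z] using hu₀) (hH a ha y h.y_mem)
      (fun w hw => by rw [hae ⟨w, hw⟩, he1]; rfl) haF fun j hj hj1 p hp hpx _ hpv => ?_
    exact hno p hp hpx 1 (by rw [hpv, one_smul]; simp [z, hj1])

end Split

end CfsgLib.CoprimeBase
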